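import Cfsg.Agent.H388.R27.Pos
import Cfsg.Agent.H699.IBrGen

/-!
# Multiplicities of characters of defect zero in Brauer characters (S5770, task POS)

* `blockOf_eq_of_vanish`: an irreducible character vanishing off the `p`-regular elements is a block.
* `pos`: `d = χ(1)/|G| * ∑ bc(σ, g) χ(g⁻¹)` is a natural number `≤ dim σ`; `pos_mult` gives the multiplicity `e`
  (`d = e χ(1)`).
* `pos_block`: the version for a union of blocks and the induced character of a `p'`-subgroup.
-/

set_option autoImplicit false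

namespace Cfsg.Agent.H484.Pos

open Cfsg IsLocalRing Module Cfsg.Agent.H657 Cfsg.Agent.H699.IBrLift Cfsg.Agent.H699.EqDeg

open Cfsg.Agent.H608.BlockRank Cfsg.Agent.H388.R27
open scoped ComplexConjugate

attribute [local instance] Above.isAlgClosed

variable {V : ValuationSubring ℂ} {G : Type*} [Group G] [Fintype G] {M : Ideal AlgInt} {p : ℕ}

/-- A character vanishing off the `p`-regular elements is alone in its block. -/
theorem blockOf_eq_of_vanish (hM : IsPModular p M) (χ : IrrCharacter G)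
    (h : ∀ g : G, p ∣ orderOf g → (χ : G → ℂ) g = 0) : blockOf M (χ : G → ℂ) = {χ} := by
  classical
  have hp : p.Prime := hM.1
  have : Fact p.Prime := ⟨hp⟩
  rw [← S0914.result p M hM χ]
  obtain ⟨P⟩ : Nonempty (Sylow p G) := inferInstance
  have h1 := isIntegral_div_sylow hp (Characters.Core.isIrr_isCharacter χ.2) h P
  rw [Blocks.Basic.irr_one_eq_charDegree χ.2, P.card_eq_multiplicity] at h1
  have h2 : ((charDegree (χ : G → ℂ) : ℕ) : ℂ) / ((p ^ (Nat.card G).factorization p : ℕ) : ℂ) =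
      (((charDegree (χ : G → ℂ) : ℚ) / ((p ^ (Nat.card G).factorization p : ℕ) : ℚ) : ℚ) : ℂ) := by
    push_cast
    rfl
  rw [h2] at h1
  have h3 : IsIntegral ℤ ((charDegree (χ : G → ℂ) : ℚ) / ((p ^ (Nat.card G).factorization p : ℕ) : ℚ)) := by
    have := (isIntegral_algebraMap_iff (R := ℤ) (A := ℚ) (B := ℂ) (algebraMap ℚ ℂ).injective
      (x := (charDegree (χ : G → ℂ) : ℚ) / ((p ^ (Nat.card G).factorization p : ℕ) : ℚ))).1
    exact this h1
  obtain ⟨k, hk⟩ := IsIntegrallyClosed.isIntegral_iff.1 h3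
  have hpk : ((p ^ (Nat.card G).factorization p : ℕ) : ℚ) ≠ 0 := by
    exact_mod_cast (pow_pos hp.pos _).ne'
  have h4 : (p ^ (Nat.card G).factorization p : ℤ) ∣ (charDegree (χ : G → ℂ) : ℤ) := by
    refine ⟨k, ?_⟩
    rw [eq_div_iff hpk] at hk
    have h5 : ((charDegree (χ : G → ℂ) : ℤ) : ℚ) = ((p ^ (Nat.card G).factorization p * k : ℤ) : ℚ) := by
      push_cast
      have h6 : (algebraMap ℤ ℚ) k = (k : ℚ) := rfl
      rw [h6] at hk
      rw [← hk]
      push_cast
      ring
    exact_mod_cast h5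
  have h5 : p ^ (Nat.card G).factorization p ∣ charDegree (χ : G → ℂ) := by exact_mod_cast h4
  have h6 : charDegree (χ : G → ℂ) ∣ Nat.card G := (S0914.degree_spec χ).2.2
  obtain ⟨m, hm⟩ := h6
  obtain ⟨l, hl⟩ := h5
  have hpos := Blocks.Basic.charDegree_pos χ.2
  have h9 : ¬ p ^ ((Nat.card G).factorization p + 1) ∣ Nat.card G := by
    intro h4
    have h5 := (Nat.Prime.pow_dvd_iff_le_factorization hp Nat.card_pos.ne').1 h4
    omega
  intro h3
  apply h9
  have h10 : Nat.card G / charDegree (χ : G → ℂ) = m := by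
    rw [hm, Nat.mul_div_cancel_left _ hpos]
  rw [h10] at h3
  obtain ⟨r, hr⟩ := h3
  refine ⟨l * r, ?_⟩
  calc Nat.card G = charDegree (χ : G → ℂ) * m := hm
    _ = p ^ (Nat.card G).factorization p * l * (p * r) := by rw [← hl, hr]
    _ = _ := by ring

/-- The pairing of an irreducible Brauer character with a character of defect zero. -/
theorem pairing_deg (hM : IsPModular p M) (hV : Above M V) (χ : IrrCharacter G)
    (hvan : ∀ g : G, p ∣ orderOf g → (χ : G → ℂ) g = 0) (i : IBr V G) :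
    ∑ g : G, phi p i g * conj ((χ : G → ℂ) g) = 0 ∨
      (∑ g : G, phi p i g * conj ((χ : G → ℂ) g) = Nat.card G ∧ i.deg = charDegree (χ : G → ℂ)) := by
  classical
  have : Fact p.Prime := ⟨hM.1⟩
  have : CharP (ResidueField V) p := hV.charP hM
  have hMp := Blocks.Local.isPrime_of_isPModular hM
  have := Characters.Core.finite_irr (G := G)
  have : Fintype (IrrCharacter G) := Fintype.ofFinite _
  have hB := blockOf_eq_of_vanish hM χ hvan
  obtain ⟨χ', hχ'⟩ := exists_under hM hV i
  by_cases he : χ' = χ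
  · subst he
    right
    obtain ⟨i₀, h1, h2, h3⟩ := exists_single hM hV (B := blockOf M (χ' : G → ℂ)) ⟨χ', rfl⟩
      (d := charDegree (χ' : G → ℂ)) (by rw [hB]; rintro _ rfl; rfl)
    have h4 : i ∈ ibrUnder V (blockOf M (χ' : G → ℂ)) := ⟨χ', by rw [hB]; rfl, hχ'⟩
    rw [h3, Set.mem_singleton_iff] at h4
    subst h4
    refine ⟨?_, h1⟩
    rw [← h2 χ' (by rw [hB]; rfl), sum_pReg_mul χ' hvan χ', Characters.Core.classInner_irr_self χ'.2, mul_one]
  · left
    have hU : IsUnion M ({χ}ᶜ : Set (IrrCharacter G)) := by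
      intro a b hab ha hb
      apply ha
      have hb' : b = χ := hb
      subst hb'
      have h5 : a ∈ blockOf M (b : G → ℂ) := Blocks.Basic.sameBlock_symm hab
      rw [hB] at h5
      exact h5
    obtain ⟨n, hn, h⟩ := exists_int_comb hM hV hU (i := i) ⟨χ', he, hχ'⟩
    rw [h]
    have h6 : ∀ g : G, (∑ ψ : IrrCharacter G, (n ψ : ℂ) • pReg p (ψ : G → ℂ)) g * conj ((χ : G → ℂ) g) =
        ∑ ψ : IrrCharacter G, (n ψ : ℂ) * (pReg p (ψ : G → ℂ) g * conj ((χ : G → ℂ) g)) := by
      intro g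
      rw [Finset.sum_apply, Finset.sum_mul]
      refine Finset.sum_congr rfl fun ψ _ => ?_
      rw [Pi.smul_apply, smul_eq_mul, mul_assoc]
    rw [Finset.sum_congr rfl fun g _ => h6 g, Finset.sum_comm]
    refine Finset.sum_eq_zero fun ψ _ => ?_
    rw [← Finset.mul_sum, sum_pReg_mul χ hvan ψ]
    by_cases hψ : ψ = χ
    · subst hψ
      rw [hn ψ (fun h => h rfl)]
      simp
    · rw [Characters.Core.classInner_irr_ne ψ.2 χ.2 (fun h => hψ (Subtype.ext h))]
      simp

omit [Fintype G] in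
/-- The sum of the degrees of the composition factors. -/
theorem sum_deg [Fact p.Prime] [CharP (ResidueField V) p] {W : Type*}
    [AddCommGroup W] [Module (ResidueField V) W] [FiniteDimensional (ResidueField V) W]
    (σ : Representation (ResidueField V) G W) {m : ℕ} {idx : Fin m → IBr V G}
    (h : ∀ g, IsPRegular p g → bc p σ g = ∑ l, phi p (idx l) g) :
    finrank (ResidueField V) W = ∑ l, (idx l).deg := by
  have h1 := h 1 (by unfold IsPRegular; rw [orderOf_one]; exact (Fact.out : p.Prime).not_dvd_one)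
  rw [bc_one, Finset.sum_congr rfl fun l _ => phi_one (idx l)] at h1
  exact_mod_cast h1

/-- **Positivity**, with the multiplicity. -/
theorem pos_mult (hM : IsPModular p M) (hV : Above M V) {W : Type*} [AddCommGroup W] [Module (ResidueField V) W]
    [FiniteDimensional (ResidueField V) W] (σ : Representation (ResidueField V) G W) {χ : G → ℂ}
    (hχ : IsIrrCharacter G χ) (h0 : ∀ g, ¬ IsPRegular p g → χ g = 0) :
    ∃ e : ℕ, e * charDegree χ ≤ finrank (ResidueField V) W ∧
      ∑ g : G, bc p σ g * χ g⁻¹ = (e : ℂ) * Nat.card G := by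
  classical
  have : Fact p.Prime := ⟨hM.1⟩
  have : CharP (ResidueField V) p := hV.charP hM
  have hvan : ∀ g : G, p ∣ orderOf g → (((⟨χ, hχ⟩ : IrrCharacter G) : G → ℂ)) g = 0 :=
    fun g hg => h0 g (not_not.2 hg)
  obtain ⟨m, idx, h⟩ := exists_sum_bc (p := p) σ
  have hinv : ∀ g : G, χ g⁻¹ = conj (χ g) :=
    Characters.Core.isCharacter_apply_inv (Characters.Core.isIrr_isCharacter hχ)
  have h1 : ∑ g : G, bc p σ g * χ g⁻¹ = ∑ l, ∑ g : G, phi p (idx l) g * conj (χ g) := by
    rw [Finset.sum_comm]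
    refine Finset.sum_congr rfl fun g _ => ?_
    rw [← Finset.sum_mul, hinv]
    by_cases hg : IsPRegular p g
    · rw [h g hg]
    · rw [h0 g hg]
      simp
  have h2 : ∀ l, ∃ e : ℕ, e * charDegree χ ≤ (idx l).deg ∧
      ∑ g : G, phi p (idx l) g * conj (χ g) = (e : ℂ) * Nat.card G := by
    intro l
    rcases pairing_deg hM hV ⟨χ, hχ⟩ hvan (idx l) with h3 | ⟨h3, h4⟩
    · exact ⟨0, by simp, by rw [h3]; simp⟩
    · exact ⟨1, by rw [h4]; simp, by rw [h3]; simp⟩
  choose e he1 he2 using h2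
  refine ⟨∑ l, e l, ?_, ?_⟩
  · rw [sum_deg σ h, Finset.sum_mul]
    exact Finset.sum_le_sum fun l _ => he1 l
  · rw [h1, Finset.sum_congr rfl fun l _ => he2 l, ← Finset.sum_mul]
    push_cast
    rfl

/-- **Positivity.** -/
theorem pos (hM : IsPModular p M) (hV : Above M V) {n : ℕ}
    (σ : Representation (ResidueField V) G (Fin n → ResidueField V)) {χ : G → ℂ} (hχ : IsIrrCharacter G χ)
    (h0 : ∀ g, ¬ IsPRegular p g → χ g = 0) :
    ∃ d : ℕ, d ≤ n ∧ (d : ℂ) * Fintype.card G = χ 1 * ∑ g : G, bc p σ g * χ g⁻¹ := by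
  obtain ⟨e, h1, h2⟩ := pos_mult hM hV σ hχ h0
  rw [finrank_fin_fun] at h1
  refine ⟨e * charDegree χ, h1, ?_⟩
  rw [h2, Blocks.Basic.irr_one_eq_charDegree hχ, Nat.card_eq_fintype_card]
  push_cast
  ring

end Cfsg.Agent.H484.Pos
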