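import Mathlib
import Cfsg.Prelude.Def_Local
import Cfsg.Agent.S1270
import Cfsg.Agent.S0542

/-!
# Sylow normalisers which are `p`-nilpotent (helper484)

`PCen p G` : the elements of order prime to `p` of the normaliser of a Sylow `p`-subgroup centralise it.

* `pCen_component` : `PCen p G → PCen p L` for a component `L` with trivial centre and with
  `p` not dividing the order of `Out L`.
-/

set_option autoImplicit false

namespace Cfsg.Agent.H484.SylNorm

open Subgroup

/-- the `p'`-elements of the normaliser of a Sylow `p`-subgroup centralise it -/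
def PCen (p : ℕ) (G : Type*) [Group G] : Prop :=
  ∀ P : Sylow p G, ∀ g ∈ normalizer ((P : Subgroup G) : Set G), (orderOf g).Coprime p →
    g ∈ centralizer ((P : Subgroup G) : Set G)

/-- `p`-elements of `Aut L` are inner if `p` does not divide the order of `Out L`. -/
theorem inner_of_pow {L : Type*} [Group L] {p k : ℕ} (hp : p.Prime)
    (hidx : ¬ p ∣ (MulAut.conj : L →* MulAut L).range.index) {φ : MulAut L} (hφ : φ ^ p ^ k = 1) :
    ∃ x : L, φ = MulAut.conj x := by
  have hn : ((MulAut.conj : L →* MulAut L).range).Normal := by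
    constructor
    rintro _ ⟨x, rfl⟩ ψ
    refine ⟨ψ x, ?_⟩
    ext y
    simp [MulAut.conj_apply, MulAut.mul_apply]
  set n := (MulAut.conj : L →* MulAut L).range.index with hn'
  have h1 : φ ^ n ∈ (MulAut.conj : L →* MulAut L).range := Subgroup.pow_index_mem _ φ
  have hcop : Nat.Coprime (p ^ k) n := Nat.Coprime.pow_left k ((Nat.Prime.coprime_iff_not_dvd hp).mpr hidx)
  have h2 := Nat.gcd_eq_gcd_ab (p ^ k) n
  rw [hcop.gcd_eq_one] at h2
  have h3 : φ = (φ ^ (p ^ k)) ^ (Nat.gcdA (p ^ k) n) * (φ ^ n) ^ (Nat.gcdB (p ^ k) n) := by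
    rw [← zpow_natCast, ← zpow_natCast, ← zpow_mul, ← zpow_mul, ← zpow_add, ← h2]
    simp
  rw [hφ, one_zpow, one_mul] at h3
  have h4 : φ ∈ (MulAut.conj : L →* MulAut L).range := by
    rw [h3]
    exact Subgroup.zpow_mem _ h1 _
  obtain ⟨x, hx⟩ := h4
  exact ⟨x, hx.symm⟩

section Comp

variable {G : Type*} [Group G] {L : Subgroup G}

/-- conjugation by an element of the normaliser -/
def cjN {h : G} (hh : h ∈ normalizer (L : Set G)) : L →* L where
  toFun l := ⟨h * l * h⁻¹, (mem_normalizer_iff.mp hh l).mp l.2⟩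
  map_one' := Subtype.ext (by simp)
  map_mul' a b := Subtype.ext (by simp)

theorem cjN_coe {h : G} (hh : h ∈ normalizer (L : Set G)) (l : L) : ((cjN hh l : L) : G) = h * l * h⁻¹ := rfl

variable (S : Subgroup G) (L)

/-- the subgroup of `S` normalising `L` -/
abbrev NS : Subgroup S := (normalizer (L : Set G)).subgroupOf S

/-- the representatives -/
noncomputable def rp (t : S ⧸ NS L S) : G := ((Quotient.out t : S) : G)

theorem rp_mem (t : S ⧸ NS L S) : rp L S t ∈ S := (Quotient.out t : S).2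

variable {L S}

theorem rp_mk (t : S ⧸ NS L S) : (QuotientGroup.mk (⟨rp L S t, rp_mem L S t⟩ : S) : S ⧸ NS L S) = t :=
  Quotient.out_eq t

theorem rp_ne {s t : S ⧸ NS L S} (h : s ≠ t) : (rp L S t)⁻¹ * rp L S s ∉ normalizer (L : Set G) := by
  intro h1
  apply h
  rw [← rp_mk s, ← rp_mk t, eq_comm, QuotientGroup.eq, mem_subgroupOf]
  exact h1

theorem rp_smul (g : S) (t : S ⧸ NS L S) :
    (rp L S (g • t))⁻¹ * g * rp L S t ∈ normalizer (L : Set G) := by
  have h1 : (QuotientGroup.mk (⟨rp L S (g • t), rp_mem L S _⟩ : S) : S ⧸ NS L S) =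
      QuotientGroup.mk (g * ⟨rp L S t, rp_mem L S t⟩ : S) := by
    rw [rp_mk]
    conv_lhs => rw [← rp_mk t]
    rfl
  rw [QuotientGroup.eq, mem_subgroupOf] at h1
  have h2 : (((⟨rp L S (g • t), rp_mem L S _⟩ : S)⁻¹ * (g * ⟨rp L S t, rp_mem L S t⟩) : S) : G) =
      (rp L S (g • t))⁻¹ * g * rp L S t := by
    simp [mul_assoc]
  rwa [h2] at h1

variable [Finite G] (hL : Cfsg.IsComponent L)

omit [Finite G] in
/-- the conjugation by a representative -/
noncomputable def phi (L S : Subgroup G) (t : S ⧸ NS L S) : L →* G :=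
  (MulAut.conj (rp L S t)).toMonoidHom.comp L.subtype

omit [Finite G] in
theorem phi_apply (t : S ⧸ NS L S) (l : L) : phi L S t l = rp L S t * l * (rp L S t)⁻¹ := rfl

omit [Finite G] in
include hL in
theorem phi_comm : Pairwise fun s t : S ⧸ NS L S => ∀ x y : L, Commute (phi L S s x) (phi L S t y) :=
  fun _ _ hst x y => Cfsg.Agent.S1270.commute_conj hL (rp_ne hst) x.2 y.2

/-- The product of the conjugates of `L` under `S`. -/
noncomputable def Phi : ((S ⧸ NS L S) → L) →* G :=
  letI : Fintype (S ⧸ NS L S) := Fintype.ofFinite _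
  MonoidHom.noncommPiCoprod (N := fun _ : S ⧸ NS L S => L) (phi L S) (phi_comm hL)

theorem Phi_single [DecidableEq (S ⧸ NS L S)] (t : S ⧸ NS L S) (l : L) :
    Phi (S := S) hL (Pi.mulSingle t l) = rp L S t * l * (rp L S t)⁻¹ := by
  let : Fintype (S ⧸ NS L S) := Fintype.ofFinite _
  exact MonoidHom.noncommPiCoprod_mulSingle (N := fun _ : S ⧸ NS L S => L)
    (phi L S) (hcomm := phi_comm hL) t l

theorem Phi_mem {K : Subgroup G} {a : (S ⧸ NS L S) → L} (h : ∀ t, rp L S t * a t * (rp L S t)⁻¹ ∈ K) :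
    Phi (S := S) hL a ∈ K :=
  letI : Fintype (S ⧸ NS L S) := Fintype.ofFinite _
  Subgroup.noncommProd_mem K (fun i _ j _ hij => phi_comm hL hij (a i) (a j)) (fun t _ => h t)

omit [Finite G] in
/-- The action of `g ∈ S` on the product. -/
noncomputable def act (L : Subgroup G) {S : Subgroup G} (g : S) : ((S ⧸ NS L S) → L) →* ((S ⧸ NS L S) → L) where
  toFun a t := cjN (rp_smul g (g⁻¹ • t)) (a (g⁻¹ • t))
  map_one' := by funext t; exact map_one _
  map_mul' a b := by funext t; exact map_mul _ _ _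

theorem conj_Phi (g : S) (a : (S ⧸ NS L S) → L) :
    (g : G) * Phi (S := S) hL a * (g : G)⁻¹ = Phi (S := S) hL (act L g a) := by
  classical
  have h : ((MulAut.conj (g : G)).toMonoidHom.comp (Phi (S := S) hL)) = (Phi (S := S) hL).comp (act L g) := by
    apply MonoidHom.pi_ext
    intro t l
    rw [MonoidHom.comp_apply, MonoidHom.comp_apply, Phi_single]
    have h1 : act L g (Pi.mulSingle t l) = Pi.mulSingle (g • t) (cjN (rp_smul g t) l) := by
      funext s
      by_cases hs : s = g • t
      · subst hs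
        rw [Pi.mulSingle_eq_same]
        show cjN (rp_smul g (g⁻¹ • g • t)) (Pi.mulSingle (M := fun _ => L) t l (g⁻¹ • g • t)) = _
        have e : g⁻¹ • g • t = t := inv_smul_smul g t
        apply Subtype.ext
        rw [cjN_coe, cjN_coe, e, Pi.mulSingle_eq_same]
      · rw [Pi.mulSingle_eq_of_ne hs]
        show cjN (rp_smul g (g⁻¹ • s)) (Pi.mulSingle (M := fun _ => L) t l (g⁻¹ • s)) = _
        have e : g⁻¹ • s ≠ t := fun h => hs (by rw [← h, smul_inv_smul])
        rw [Pi.mulSingle_eq_of_ne e, map_one]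
    rw [h1, Phi_single, cjN_coe]
    show (g : G) * (rp L S t * l * (rp L S t)⁻¹) * (g : G)⁻¹ = _
    group
  exact DFunLike.congr_fun h a

end Comp

/-- A `p`-element normalising the Sylow `p`-subgroup `P` lies in `P`. -/
theorem mem_of_normalizes {L : Type*} [Group L] [Finite L] {p : ℕ} [Fact p.Prime] (P : Sylow p L) {k : L}
    (hk : k ∈ normalizer ((P : Subgroup L) : Set L)) {n : ℕ} (hkp : k ^ p ^ n = 1) : k ∈ (P : Subgroup L) := by
  have h1 : IsPGroup p (zpowers k) := by
    intro g
    obtain ⟨m, hm⟩ := mem_zpowers_iff.mp g.2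
    refine ⟨n, Subtype.ext ?_⟩
    rw [SubgroupClass.coe_pow, ← hm, ← zpow_natCast, ← zpow_mul, mul_comm, zpow_mul, zpow_natCast, hkp,
      one_zpow]
    rfl
  have h2 := h1.inf_normalizer_sylow P
  exact (h2.le ⟨mem_zpowers k, hk⟩).2

/-- **Components inherit the property**, if `p` does not divide the order of `Out L`. -/
theorem pCen_component {G : Type*} [Group G] [Finite G] {p : ℕ} [hp : Fact p.Prime] {L : Subgroup G}
    (hL : Cfsg.IsComponent L) (hc : center L = ⊥)
    (hidx : ¬ p ∣ (MulAut.conj : L →* MulAut L).range.index) (hG : PCen p G) : PCen p L := by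
  classical
  intro P x hx hxp
  -- a Sylow subgroup of `G` above `P`
  obtain ⟨S, hS⟩ := (P.2.map L.subtype).exists_le_sylow
  have hPS : (P : Subgroup L) = (S : Subgroup G).subgroupOf L := by
    obtain ⟨Q, hQ⟩ := Cfsg.Agent.S0542.result p L hL.1 S
    have h1 : (P : Subgroup L) ≤ (Q : Subgroup L) := by
      rw [hQ]
      intro y hy
      exact hS ⟨y, hy, rfl⟩
    have h2 := P.3 Q.2 h1
    rw [← h2, hQ]
  have hPS' : ∀ y : L, y ∈ (P : Subgroup L) ↔ (y : G) ∈ (S : Subgroup G) := by
    intro y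
    rw [hPS, mem_subgroupOf]
  -- an element `h ∈ S` normalising `L` acts like an element of `P`
  have key : ∀ h ∈ (S : Subgroup G), ∀ hn : h ∈ normalizer (L : Set G), ∃ k ∈ (P : Subgroup L),
      ∀ l : L, cjN hn l = k * l * k⁻¹ := by
    intro h hh hn
    let ρ := (Subgroup.normalizerMonoidHom L) ⟨h, hn⟩
    have hρ : ∀ l : L, ((ρ l : L) : G) = h * l * h⁻¹ := fun l => rfl
    obtain ⟨n, hn1⟩ := S.2 ⟨h, hh⟩
    have hn2 : h ^ p ^ n = 1 := congrArg Subtype.val hn1
    have hρp : ρ ^ p ^ n = 1 := by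
      show (Subgroup.normalizerMonoidHom L) ⟨h, hn⟩ ^ p ^ n = 1
      rw [← map_pow]
      have : (⟨h, hn⟩ : normalizer (L : Set G)) ^ p ^ n = 1 := Subtype.ext hn2
      rw [this, map_one]
    obtain ⟨k, hk⟩ := inner_of_pow hp.out hidx hρp
    have hk' : ∀ l : L, ρ l = k * l * k⁻¹ := fun l => by rw [hk]; rfl
    refine ⟨k, ?_, fun l => Subtype.ext ?_⟩
    · refine mem_of_normalizes P (n := n) ?_ ?_
      · rw [mem_normalizer_iff]
        intro l
        rw [← hk', hPS', hPS', hρ]
        constructor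
        · intro hl
          exact mul_mem (mul_mem hh hl) (inv_mem hh)
        · intro hl
          have := mul_mem (mul_mem (inv_mem hh) hl) hh
          simpa [mul_assoc] using this
      · have h1 : MulAut.conj (k ^ p ^ n) = 1 := by
          rw [map_pow, ← hk, hρp]
        have h2 : k ^ p ^ n ∈ center L := by
          rw [mem_center_iff]
          intro g
          have h3 := DFunLike.congr_fun h1 g
          rw [MulAut.conj_apply, MulAut.one_apply] at h3
          rw [mul_inv_eq_iff_eq_mul] at h3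
          exact h3.symm
        rwa [hc, mem_bot] at h2
    · rw [cjN_coe, ← hρ, hk']
  -- the product `y` of the conjugates of `x`
  set y := Phi (S := (S : Subgroup G)) hL (fun _ => x) with hy
  have hxn : ∀ q ∈ (P : Subgroup L), x⁻¹ * (q * x * q⁻¹) ∈ (P : Subgroup L) := by
    intro q hq
    have h1 := (mem_normalizer_iff.mp (inv_mem hx) q).mp hq
    rw [inv_inv] at h1
    have h2 : x⁻¹ * (q * x * q⁻¹) = (x⁻¹ * q * x) * q⁻¹ := by group
    rw [h2]
    exact mul_mem h1 (inv_mem hq)
  have hconj : ∀ g ∈ (S : Subgroup G), y⁻¹ * (g * y * g⁻¹) ∈ (S : Subgroup G) := by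
    intro g hg
    rw [hy, conj_Phi hL ⟨g, hg⟩, ← map_inv, ← map_mul]
    apply Phi_mem
    intro t
    refine mul_mem (mul_mem (rp_mem L _ t) ?_) (inv_mem (rp_mem L _ t))
    rw [← hPS']
    obtain ⟨k, hk, hkl⟩ := key _ (mul_mem (mul_mem (inv_mem (rp_mem L _ _)) hg) (rp_mem L _ _))
      (rp_smul (⟨g, hg⟩ : (S : Subgroup G)) ((⟨g, hg⟩ : (S : Subgroup G))⁻¹ • t))
    have h5 := hxn k hk
    rw [← hkl x] at h5
    exact h5
  have hyN : y ∈ normalizer ((S : Subgroup G) : Set G) := by
    have h1 : y⁻¹ ∈ normalizer ((S : Subgroup G) : Set G) := by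
      have h2 : ∀ g ∈ (S : Subgroup G), y⁻¹ * g * y⁻¹⁻¹ ∈ (S : Subgroup G) := by
        intro g hg
        have h3 := mul_mem (hconj g hg) hg
        have h4 : y⁻¹ * (g * y * g⁻¹) * g = y⁻¹ * g * y⁻¹⁻¹ := by group
        rwa [h4] at h3
      have h3 : (S : Subgroup G).map (MulAut.conj y⁻¹).toMonoidHom ≤ S := by
        rintro _ ⟨v, hv, rfl⟩
        exact h2 v hv
      have h4 := Subgroup.eq_of_le_of_card_ge h3
        (le_of_eq (Nat.card_congr ((S : Subgroup G).equivMapOfInjective (MulAut.conj y⁻¹).toMonoidHom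
          (MulAut.conj y⁻¹).injective).toEquiv))
      rw [mem_normalizer_iff]
      intro v
      refine ⟨fun hv => h2 v hv, fun hv => ?_⟩
      rw [← h4] at hv
      obtain ⟨w, hw, hwv⟩ := hv
      have : w = v := (MulAut.conj y⁻¹).injective hwv
      rwa [← this]
    simpa using inv_mem h1
  have hyo : (orderOf y).Coprime p := by
    refine Nat.Coprime.coprime_dvd_left ?_ hxp
    apply orderOf_dvd_of_pow_eq_one
    rw [hy, ← map_pow]
    have : (fun _ : (S : Subgroup G) ⧸ NS L (S : Subgroup G) => x) ^ orderOf x = 1 := by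
      funext t
      rw [Pi.pow_apply, pow_orderOf_eq_one, Pi.one_apply]
    rw [this, map_one]
  have hyC := hG S y hyN hyo
  -- the factor at the coset of `1`
  set t₀ : (S : Subgroup G) ⧸ NS L (S : Subgroup G) := QuotientGroup.mk 1 with ht₀
  have hr₀ : rp L _ t₀ ∈ normalizer (L : Set G) := by
    have h1 := rp_mk (L := L) t₀
    rw [ht₀, QuotientGroup.eq, mem_subgroupOf, mul_one] at h1
    simpa using inv_mem h1
  obtain ⟨k, hk, hkl⟩ := key _ (rp_mem L _ t₀) hr₀
  have hsplit : (fun _ : (S : Subgroup G) ⧸ NS L (S : Subgroup G) => x) =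
      Pi.mulSingle t₀ x * (fun t => if t = t₀ then 1 else x) := by
    funext t
    rw [Pi.mul_apply]
    by_cases h : t = t₀
    · subst h; simp
    · rw [Pi.mulSingle_eq_of_ne h]; simp [h]
  set z := Phi (S := (S : Subgroup G)) hL (fun t => if t = t₀ then 1 else x) with hz
  have hyz : y = ((k * x * k⁻¹ : L) : G) * z := by
    rw [hy, hsplit, map_mul, Phi_single, ← hz, ← hkl x, cjN_coe]
  have hzc : ∀ q : L, z * q = q * z := by
    intro q
    have h1 : z ∈ centralizer ({(q : G)} : Set G) := by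
      rw [hz]
      apply Phi_mem
      intro t
      rw [mem_centralizer_singleton_iff]
      by_cases h : t = t₀
      · rw [if_pos h]; simp
      · rw [if_neg h]
        have hne : (1 : G)⁻¹ * rp L _ t ∉ normalizer (L : Set G) := by
          rw [inv_one, one_mul]
          intro hn
          apply h
          rw [← rp_mk t, ht₀, eq_comm, QuotientGroup.eq, mem_subgroupOf]
          simpa using hn
        have := Cfsg.Agent.S1270.commute_conj hL hne x.2 q.2
        simpa using this.eq
    rw [mem_centralizer_singleton_iff] at h1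
    exact h1
  -- `k x k⁻¹` centralises `P`
  have hkx : ∀ q ∈ (P : Subgroup L), (k * x * k⁻¹) * q = q * (k * x * k⁻¹) := by
    intro q hq
    have h1 := mem_centralizer_iff.mp hyC (q : G) ((hPS' q).mp hq)
    rw [hyz] at h1
    have h2 : ((k * x * k⁻¹ : L) : G) * q * z = q * (k * x * k⁻¹ : L) * z := by
      calc ((k * x * k⁻¹ : L) : G) * q * z = ((k * x * k⁻¹ : L) : G) * (z * q) := by rw [hzc q]; group
        _ = (((k * x * k⁻¹ : L) : G) * z) * q := by group
        _ = q * (((k * x * k⁻¹ : L) : G) * z) := h1.symm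
        _ = _ := by group
    exact Subtype.ext (mul_right_cancel h2)
  rw [mem_centralizer_iff]
  intro q hq
  have h1 := hkx (k * q * k⁻¹) (mul_mem (mul_mem hk hq) (inv_mem hk))
  have h2 : k * (x * q) * k⁻¹ = k * (q * x) * k⁻¹ := by
    calc k * (x * q) * k⁻¹ = (k * x * k⁻¹) * (k * q * k⁻¹) := by group
      _ = (k * q * k⁻¹) * (k * x * k⁻¹) := h1
      _ = _ := by group
  exact (mul_left_cancel (mul_right_cancel h2)).symm

end Cfsg.Agent.H484.SylNorm
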