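import Mathlib
import Cfsg.Agent.H484.SylNorm

/-!
# Sylow normalisers which are `p`-nilpotent: components with cyclic Sylow subgroups (helper484)

* `pCen_component_cyclic` : `PCen p G → PCen p L` for a component `L` of `G` with cyclic Sylow `p`-subgroups.
-/

set_option autoImplicit false

namespace Cfsg.Agent.H484.SylNorm

open Subgroup

/-- in a cyclic group the homomorphisms are powers -/
theorem exists_pow_of_cyclic {G : Type*} [Group G] [Finite G] {P : Subgroup G} (hP : IsCyclic P) {x : G}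
    (hx : ∀ q ∈ P, x * q * x⁻¹ ∈ P) : ∃ m : ℤ, ∀ q ∈ P, x * q * x⁻¹ = q ^ m := by
  let f : P →* P := {
    toFun q := ⟨x * q * x⁻¹, hx q q.2⟩
    map_one' := Subtype.ext (by simp)
    map_mul' a b := Subtype.ext (by simp) }
  obtain ⟨m, hm⟩ := f.map_cyclic
  refine ⟨m, fun q hq => ?_⟩
  have h1 := congrArg Subtype.val (hm ⟨q, hq⟩)
  rw [SubgroupClass.coe_zpow] at h1
  exact h1

/-- **Components inherit the property**, if the Sylow `p`-subgroups of `L` are cyclic. -/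
theorem pCen_component_cyclic {G : Type*} [Group G] [Finite G] {p : ℕ} [hp : Fact p.Prime] {L : Subgroup G}
    (hL : Cfsg.IsComponent L) (hcyc : ∀ P : Sylow p L, IsCyclic P) (hG : PCen p G) : PCen p L := by
  classical
  intro P x hx hxp
  -- a Sylow subgroup of `G` above `P`
  obtain ⟨S, hS⟩ := (P.2.map L.subtype).exists_le_sylow
  have hPS : (P : Subgroup L) = (S : Subgroup G).subgroupOf L := by
    obtain ⟨Q, hQ⟩ := Cfsg.Agent.S0542.result p L hL.1 S
    have h1 : (P : Subgroup L) ≤ (Q : Subgroup L) := by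
      rw [hQ]
      intro y hy
      exact hS ⟨y, hy, rfl⟩
    have h2 := P.3 Q.2 h1
    rw [← h2, hQ]
  have hPS' : ∀ y : L, y ∈ (P : Subgroup L) ↔ (y : G) ∈ (S : Subgroup G) := by
    intro y
    rw [hPS, mem_subgroupOf]
  -- `S ∩ N(L)` normalises `P`
  have hnP : ∀ h ∈ (S : Subgroup G), ∀ hn : h ∈ normalizer (L : Set G), ∀ q : L,
      q ∈ (P : Subgroup L) → cjN hn q ∈ (P : Subgroup L) := by
    intro h hh hn q hq
    rw [hPS', cjN_coe]
    exact mul_mem (mul_mem hh ((hPS' q).mp hq)) (inv_mem hh)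
  have hnP' : ∀ h ∈ (S : Subgroup G), ∀ hn : h ∈ normalizer (L : Set G), ∀ q : L,
      q ∈ (P : Subgroup L) → ∃ q' ∈ (P : Subgroup L), cjN hn q' = q := by
    intro h hh hn q hq
    refine ⟨cjN (inv_mem hn) q, hnP _ (inv_mem hh) _ q hq, Subtype.ext ?_⟩
    rw [cjN_coe, cjN_coe]
    group
  set C : Subgroup L := centralizer ((P : Subgroup L) : Set L) with hC
  have hCm : ∀ {c : L}, c ∈ C ↔ ∀ q ∈ (P : Subgroup L), c * q * c⁻¹ = q := by
    intro c
    rw [hC, mem_centralizer_iff]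
    constructor
    · intro h q hq
      rw [← h q hq]; group
    · intro h q hq
      exact (mul_inv_eq_iff_eq_mul.mp (h q hq)).symm
  have hnC : ∀ h ∈ (S : Subgroup G), ∀ hn : h ∈ normalizer (L : Set G), ∀ c ∈ C, cjN hn c ∈ C := by
    intro h hh hn c hc
    rw [hCm]
    intro q hq
    obtain ⟨q', hq', rfl⟩ := hnP' h hh hn q hq
    rw [← map_inv, ← map_mul, ← map_mul, hCm.mp hc q' hq']
  have hxP : ∀ q ∈ (P : Subgroup L), x * q * x⁻¹ ∈ (P : Subgroup L) := fun q hq =>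
    (mem_normalizer_iff.mp hx q).mp hq
  obtain ⟨m, hm⟩ := exists_pow_of_cyclic (hcyc P) hxP
  -- `x⁻¹ (h x h⁻¹)` centralises `P`
  have hxh : ∀ h ∈ (S : Subgroup G), ∀ hn : h ∈ normalizer (L : Set G), x⁻¹ * cjN hn x ∈ C := by
    intro h hh hn
    rw [hCm]
    intro q hq
    obtain ⟨q', hq', rfl⟩ := hnP' h hh hn q hq
    have h1 : cjN hn x * cjN hn q' * (cjN hn x)⁻¹ = x * cjN hn q' * x⁻¹ := by
      rw [← map_inv, ← map_mul, ← map_mul, hm q' hq', map_zpow, hm _ hq]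
    have h2 : x⁻¹ * cjN hn x * cjN hn q' * (x⁻¹ * cjN hn x)⁻¹ =
        x⁻¹ * (cjN hn x * cjN hn q' * (cjN hn x)⁻¹) * x := by group
    rw [h2, h1]
    group
  -- the product of the centralisers
  let CI : Subgroup ((S : Subgroup G) ⧸ NS L (S : Subgroup G) → L) := Subgroup.pi Set.univ fun _ => C
  have hCI : ∀ {a : (S : Subgroup G) ⧸ NS L (S : Subgroup G) → L}, a ∈ CI ↔ ∀ t, a t ∈ C := by
    intro a
    show a ∈ Subgroup.pi Set.univ (fun _ => C) ↔ _
    rw [Subgroup.mem_pi]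
    simp
  let Ct : Subgroup G := CI.map (Phi (S := (S : Subgroup G)) hL)
  set y := Phi (S := (S : Subgroup G)) hL (fun _ => x) with hy
  have hrp : ∀ (g : (S : Subgroup G)) (t : (S : Subgroup G) ⧸ NS L (S : Subgroup G)),
      (rp L (S : Subgroup G) (g • t))⁻¹ * g * rp L (S : Subgroup G) t ∈ (S : Subgroup G) := fun g t =>
    mul_mem (mul_mem (inv_mem (rp_mem L _ _)) g.2) (rp_mem L _ _)
  -- `S` normalises `Ct`
  have hSC : ∀ g ∈ (S : Subgroup G), ∀ c ∈ Ct, g * c * g⁻¹ ∈ Ct := by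
    rintro g hg _ ⟨a, ha, rfl⟩
    rw [conj_Phi hL ⟨g, hg⟩]
    refine ⟨_, hCI.mpr fun t => ?_, rfl⟩
    exact hnC _ (hrp _ _) (rp_smul ⟨g, hg⟩ _) _ (hCI.mp ha _)
  have hyC : ∀ c ∈ Ct, y⁻¹ * c * y ∈ Ct := by
    rintro _ ⟨a, ha, rfl⟩
    rw [hy, ← map_inv, ← map_mul, ← map_mul]
    refine ⟨_, hCI.mpr fun t => ?_, rfl⟩
    show x⁻¹ * a t * x ∈ C
    have h1 := hCI.mp ha t
    rw [hCm] at h1 ⊢
    intro q hq
    have h2 : x⁻¹ * a t * x * q * (x⁻¹ * a t * x)⁻¹ = x⁻¹ * (a t * (x * q * x⁻¹) * (a t)⁻¹) * x := by group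
    rw [h2, h1 _ (hxP q hq)]
    group
  have hyS : ∀ g ∈ (S : Subgroup G), y⁻¹ * (g * y * g⁻¹) ∈ Ct := by
    intro g hg
    rw [hy, conj_Phi hL ⟨g, hg⟩, ← map_inv, ← map_mul]
    refine ⟨_, hCI.mpr fun t => ?_, rfl⟩
    exact hxh _ (hrp _ _) (rp_smul ⟨g, hg⟩ _)
  -- `T = Ct S`
  have hSn : (S : Subgroup G) ≤ normalizer (Ct : Set G) := by
    intro g hg
    rw [mem_normalizer_iff]
    intro c
    refine ⟨fun hc => hSC g hg c hc, fun hc => ?_⟩
    have := hSC g⁻¹ (inv_mem hg) _ hc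
    have h2 : g⁻¹ * (g * c * g⁻¹) * g⁻¹⁻¹ = c := by group
    rwa [h2] at this
  set T : Subgroup G := (S : Subgroup G) ⊔ Ct with hT
  have hTm : ∀ g ∈ T, ∃ s ∈ (S : Subgroup G), ∃ c ∈ Ct, g = s * c := by
    intro g hg
    rw [hT, ← SetLike.mem_coe, Subgroup.coe_mul_of_left_le_normalizer_right _ _ hSn] at hg
    obtain ⟨s, hs, c, hc, rfl⟩ := hg
    exact ⟨s, hs, c, hc, rfl⟩
  -- `S` and `y⁻¹ S y` are Sylow subgroups of `T`
  have hST : (S : Subgroup G) ≤ T := le_sup_left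
  have hyST : ((y⁻¹ • S : Sylow p G) : Subgroup G) ≤ T := by
    intro g hg
    rw [Sylow.smul_def, Sylow.pointwise_smul_def, Subgroup.mem_pointwise_smul_iff_inv_smul_mem] at hg
    have h1 : y * g * y⁻¹ ∈ (S : Subgroup G) := by
      have h2 : (MulAut.conj y⁻¹)⁻¹ • g = y * g * y⁻¹ := by
        rw [← map_inv, inv_inv, MulAut.smul_def, MulAut.conj_apply]
      rwa [h2] at hg
    have h2 := hyS _ h1
    have h3 : y⁻¹ * (y * g * y⁻¹ * y * (y * g * y⁻¹)⁻¹) * (y * g * y⁻¹) = g := by group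
    rw [← h3]
    exact mul_mem (le_sup_right (a := (S : Subgroup G)) h2) (hST h1)
  obtain ⟨t, ht⟩ := MulAction.exists_smul_eq T ((y⁻¹ • S : Sylow p G).subtype hyST) (S.subtype hST)
  have hts : (t : G) • (y⁻¹ • S) = S := by
    rw [Sylow.smul_subtype hyST] at ht
    exact Sylow.subtype_injective ht
  obtain ⟨s, hs, c, hc, htsc⟩ := hTm t t.2
  have hw : c * y⁻¹ ∈ normalizer ((S : Subgroup G) : Set G) := by
    refine Sylow.smul_eq_iff_mem_normalizer.mp ?_
    rw [mul_smul]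
    rw [htsc, mul_smul] at hts
    have h1 : s⁻¹ • S = S := Sylow.smul_eq_iff_mem_normalizer.mpr (le_normalizer (inv_mem hs))
    calc c • y⁻¹ • S = s⁻¹ • s • c • y⁻¹ • S := (inv_smul_smul _ _).symm
      _ = s⁻¹ • S := by rw [hts]
      _ = S := h1
  obtain ⟨a, ha, hca⟩ := hc
  have ha' := hCI.mp ha
  set b : (S : Subgroup G) ⧸ NS L (S : Subgroup G) → L := fun t => a t * x⁻¹ with hb
  have hwb : c * y⁻¹ = Phi (S := (S : Subgroup G)) hL b := by
    rw [← hca, hy, ← map_inv, ← map_mul]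
    rfl
  rw [hwb] at hw
  -- a `p'`-power
  obtain ⟨k, r, hr, hkr⟩ := Nat.exists_eq_pow_mul_and_not_dvd
    (orderOf_pos (Phi (S := (S : Subgroup G)) hL b)).ne' p hp.out.ne_one
  have hwp : (Phi (S := (S : Subgroup G)) hL b) ^ p ^ k ∈ centralizer ((S : Subgroup G) : Set G) := by
    apply hG S _ (pow_mem hw _)
    rw [orderOf_pow, hkr, Nat.gcd_mul_right_left, Nat.mul_div_cancel_left _ (pow_pos hp.out.pos _)]
    exact (Nat.coprime_comm.mp ((Nat.Prime.coprime_iff_not_dvd hp.out).mpr hr))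
  rw [← map_pow] at hwp
  -- the factor at the coset of `1`
  set t₀ : (S : Subgroup G) ⧸ NS L (S : Subgroup G) := QuotientGroup.mk 1 with ht₀
  have hr₀ : rp L _ t₀ ∈ normalizer (L : Set G) := by
    have h1 := rp_mk (L := L) t₀
    rw [ht₀, QuotientGroup.eq, mem_subgroupOf, mul_one] at h1
    simpa using inv_mem h1
  set d := b ^ p ^ k with hd
  have hsplit : d = Pi.mulSingle t₀ (d t₀) * (fun t => if t = t₀ then 1 else d t) := by
    funext t
    rw [Pi.mul_apply]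
    by_cases h : t = t₀
    · subst h; simp
    · rw [Pi.mulSingle_eq_of_ne h]; simp [h]
  set z := Phi (S := (S : Subgroup G)) hL (fun t => if t = t₀ then 1 else d t) with hz
  have hyz : Phi (S := (S : Subgroup G)) hL d = ((cjN hr₀ (d t₀) : L) : G) * z := by
    rw [hsplit, map_mul, Phi_single, ← hz, cjN_coe, ← hsplit]
  have hzc : ∀ q : L, z * q = q * z := by
    intro q
    have h1 : z ∈ centralizer ({(q : G)} : Set G) := by
      rw [hz]
      apply Phi_mem
      intro t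
      rw [mem_centralizer_singleton_iff]
      by_cases h : t = t₀
      · rw [if_pos h]; simp
      · rw [if_neg h]
        have hne : (1 : G)⁻¹ * rp L _ t ∉ normalizer (L : Set G) := by
          rw [inv_one, one_mul]
          intro hn
          apply h
          rw [← rp_mk t, ht₀, eq_comm, QuotientGroup.eq, mem_subgroupOf]
          simpa using hn
        have := Cfsg.Agent.S1270.commute_conj hL hne (d t).2 q.2
        simpa using this.eq
    rw [mem_centralizer_singleton_iff] at h1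
    exact h1
  have hdC : d t₀ ∈ C := by
    rw [hCm]
    intro q hq
    have hq' := hnP _ (rp_mem L _ t₀) hr₀ q hq
    have h1 := mem_centralizer_iff.mp hwp (cjN hr₀ q : L) ((hPS' _).mp hq')
    rw [hyz] at h1
    have h2 : ((cjN hr₀ (d t₀) : L) : G) * (cjN hr₀ q : L) * z = (cjN hr₀ q : L) * (cjN hr₀ (d t₀) : L) * z := by
      calc ((cjN hr₀ (d t₀) : L) : G) * (cjN hr₀ q : L) * z = (cjN hr₀ (d t₀) : L) * (z * (cjN hr₀ q : L)) := by
            rw [hzc]; group
        _ = (((cjN hr₀ (d t₀) : L) : G) * z) * (cjN hr₀ q : L) := by group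
        _ = (cjN hr₀ q : L) * (((cjN hr₀ (d t₀) : L) : G) * z) := h1.symm
        _ = _ := by group
    have h3 : cjN hr₀ (d t₀) * cjN hr₀ q = cjN hr₀ q * cjN hr₀ (d t₀) := Subtype.ext (mul_right_cancel h2)
    rw [← map_mul, ← map_mul] at h3
    have h4 : d t₀ * q = q * d t₀ := by
      have h5 := congrArg Subtype.val h3
      rw [cjN_coe, cjN_coe] at h5
      exact Subtype.ext (mul_left_cancel (mul_right_cancel h5))
    rw [h4]; group
  -- the normaliser of `P` modulo the centraliser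
  have hpow : ∀ n : ℕ, (a t₀ * x⁻¹) ^ n * x ^ n ∈ C := by
    intro n
    induction n with
    | zero => simp
    | succ n ih =>
      have h1 : (a t₀ * x⁻¹) ^ (n + 1) * x ^ (n + 1) =
          a t₀ * (x⁻¹ * ((a t₀ * x⁻¹) ^ n * x ^ n) * x) := by
        rw [pow_succ' (a t₀ * x⁻¹) n, pow_succ x n]; group
      rw [h1]
      refine mul_mem (ha' t₀) ?_
      rw [hCm] at ih ⊢
      intro q hq
      have h2 : x⁻¹ * ((a t₀ * x⁻¹) ^ n * x ^ n) * x * q * (x⁻¹ * ((a t₀ * x⁻¹) ^ n * x ^ n) * x)⁻¹ =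
        x⁻¹ * (((a t₀ * x⁻¹) ^ n * x ^ n) * (x * q * x⁻¹) * ((a t₀ * x⁻¹) ^ n * x ^ n)⁻¹) * x := by group
      rw [h2, ih _ (hxP q hq)]
      group
  have hxk : x ^ p ^ k ∈ C := by
    have h1 := mul_mem (inv_mem hdC) (hpow (p ^ k))
    have h2 : (d t₀)⁻¹ * ((a t₀ * x⁻¹) ^ p ^ k * x ^ p ^ k) = x ^ p ^ k := by
      rw [hd, Pi.pow_apply, hb]
      group
    rwa [h2] at h1
  -- `x` is a power of `x ^ p ^ k`
  have hcop : (orderOf x).Coprime (p ^ k) := Nat.Coprime.pow_right k hxp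
  obtain ⟨j, hj⟩ := exists_pow_eq_self_of_coprime (n := p ^ k) (Nat.coprime_comm.mp hcop)
  rw [← hj]
  exact pow_mem hxk j

end Cfsg.Agent.H484.SylNorm
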