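import Mathlib
import Cfsg.Agent.H484.CritNum
import Cfsg.Agent.S0243
import Cfsg.Agent.S0245
import Cfsg.Agent.S0246
import Cfsg.Agent.S0280
import Cfsg.Agent.S0292
import Cfsg.Agent.S0293
import Cfsg.Agent.S0294
import Cfsg.Agent.S0813
import Cfsg.Agent.S0814
import Cfsg.Agent.S0815
import Cfsg.Agent.S0816
import Cfsg.Agent.S0817
import Cfsg.Agent.S0818
import Cfsg.Agent.ClassicalGeometry.PSL2Basic

/-!
# The criterion `Crit` for the classical groups (helper484)
-/

set_option autoImplicit false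

namespace Cfsg.Agent.H484.SylNorm

open Subgroup

section

variable {F : Type*} [Field F] [Fintype F]

/-- the prime and the degree of a finite field -/
theorem exists_card (F : Type*) [Field F] [Fintype F] : ∃ (r f : ℕ), r.Prime ∧ 1 ≤ f ∧ Fintype.card F = r ^ f := by
  obtain ⟨p, hp⟩ := CharP.exists F
  obtain ⟨n, hpp, hcard⟩ := FiniteField.card F p
  exact ⟨p, n, hpp, n.2, hcard⟩

/-- `|PGL| = gcd |PSL|` -/
theorem card_pgl {n : ℕ} (hn : 2 ≤ n) : Nat.card (Matrix.ProjGenLinGroup (Fin n) F) =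
    Nat.gcd n (Fintype.card F - 1) * Nat.card (Matrix.ProjectiveSpecialLinearGroup (Fin n) F) := by
  have h1 := S0243.result (F := F) rfl n hn
  have hne : Nonempty (Fin n) := ⟨⟨0, by omega⟩⟩
  have h2 := Cfsg.Agent.ClassicalGeometry.PSL2Basic.card_PGL_mul (F := F) (n := Fin n)
  have h3 := Matrix.card_GL_field (𝔽 := F) n
  rw [h3] at h2
  have hq : 1 < Fintype.card F := Fintype.one_lt_card
  have h4 : (Fintype.card F - 1) * Nat.card (Matrix.ProjGenLinGroup (Fin n) F) = (Fintype.card F - 1) *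
      (Nat.gcd n (Fintype.card F - 1) * Nat.card (Matrix.ProjectiveSpecialLinearGroup (Fin n) F)) := by
    rw [mul_comm, h2, ← h1]
    ring
  exact Nat.eq_of_mul_eq_mul_left (by omega) h4

/-- the order of `PSL_n(q)` is divisible by the primitive prime divisors of `q ^ e - 1`, `2 ≤ e ≤ n` -/
theorem dvd_psl {n f e p : ℕ} (hn : 2 ≤ n) (hen : e ≤ n) (he : 2 ≤ e) (h : Zs (Fintype.card F) f e p) :
    p ∣ Nat.card (Matrix.ProjectiveSpecialLinearGroup (Fin n) F) := by
  have h1 := S0243.result (F := F) rfl n hn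
  have h2 : p ∣ ∏ i : Fin n, (Fintype.card F ^ n - Fintype.card F ^ (i : ℕ)) := by
    refine Dvd.dvd.trans ?_ (Finset.dvd_prod_of_mem _ (Finset.mem_univ (⟨n - e, by omega⟩ : Fin n)))
    have h3 : Fintype.card F ^ n - Fintype.card F ^ (n - e) =
        Fintype.card F ^ (n - e) * (Fintype.card F ^ e - 1) := by
      rw [Nat.mul_sub_one, ← pow_add]
      congr 2
      omega
    show p ∣ Fintype.card F ^ n - Fintype.card F ^ (n - e)
    rw [h3]
    exact Dvd.dvd.mul_left ((h.iff e).mpr dvd_rfl) _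
  rw [← h1] at h2
  exact h.dvd_of_mul (h.not_dvd_one he) (h.dvd_of_mul (h.not_dvd_gcd he n) h2)

theorem crit_psl {n : ℕ} (hn : 2 ≤ n) (hn2 : n = 2 → 4 ≤ Fintype.card F)
    (_ : Finite (Matrix.ProjectiveSpecialLinearGroup (Fin n) F))
    (hc : center (Matrix.ProjectiveSpecialLinearGroup (Fin n) F) = ⊥) :
    Crit (Matrix.ProjectiveSpecialLinearGroup (Fin n) F) := by
  obtain ⟨r, f, hr, hf, hF⟩ := exists_card F
  have := Fact.mk hr
  have haut := S0813.result r f hf hF n hn (by rwa [← hF])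
  rw [card_pgl hn, ← mul_assoc] at haut
  have hcard := S0243.result (F := F) rfl n hn
  rw [hF] at haut hcard hn2
  -- the general case
  have key : ∀ e, 2 ≤ e → e ≤ n → 3 ≤ f * e → ¬ (r = 2 ∧ f * e = 6) →
      Crit (Matrix.ProjectiveSpecialLinearGroup (Fin n) F) := by
    intro e he hen h3 h6
    obtain ⟨p, h⟩ := exists_zs hr hf h3 h6
    refine crit_of_aut hc h.prime h.five (dvd_psl hn hen he (hF ▸ h)) haut ?_
    refine h.ndvd_mul (h.ndvd_mul ?_ h.ndvd) (h.not_dvd_gcd he n)
    split_ifs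
    · exact h.not_dvd_of_le one_pos (by norm_num)
    · exact h.not_dvd_of_le two_pos (by norm_num)
  rcases Nat.lt_or_ge n 4 with h4 | h4
  · rcases Nat.lt_or_ge n 3 with h3 | h3
    · -- `n = 2`
      obtain rfl : n = 2 := by omega
      have hq4 := hn2 rfl
      rw [Fin.prod_univ_two] at hcard
      by_cases hf1 : f = 1
      · subst hf1
        rw [pow_one] at hcard hq4 haut
        have h5 : 5 ≤ r := by
          have : r ≠ 4 := by rintro rfl; norm_num at hr
          omega
        have hr1 : ¬ r ∣ r - 1 := fun h => by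
          have := Nat.le_of_dvd (by omega) h
          omega
        have hg : ¬ r ∣ Nat.gcd 2 (r - 1) := fun h => hr1 (h.trans (Nat.gcd_dvd_right _ _))
        refine crit_of_aut hc hr h5 ?_ haut ?_
        · have h6 : r ∣ Nat.gcd 2 (r - 1) * ((r - 1) *
              Nat.card (Matrix.ProjectiveSpecialLinearGroup (Fin 2) F)) := by
            rw [hcard]
            apply Dvd.dvd.mul_left
            show r ∣ r ^ 2 - r ^ 1
            exact Nat.dvd_sub (dvd_pow_self r two_ne_zero) (dvd_pow_self r one_ne_zero)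
          rw [hr.dvd_mul, hr.dvd_mul] at h6
          tauto
        · rw [if_pos rfl, one_mul, one_mul]
          exact hg
      · by_cases h6 : r = 2 ∧ f * 2 = 6
        · obtain ⟨rfl, h6⟩ := h6
          obtain rfl : f = 3 := by omega
          refine crit_of_aut hc (p := 7) (by norm_num) (by norm_num) ?_ haut (by norm_num)
          norm_num at hcard
          rw [show Nat.card (Matrix.ProjectiveSpecialLinearGroup (Fin 2) F) = 504 by omega]
          norm_num
        · exact key 2 le_rfl le_rfl (by omega) h6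
    · -- `n = 3`
      obtain rfl : n = 3 := by omega
      by_cases h6 : r = 2 ∧ f * 3 = 6
      · obtain ⟨rfl, h6⟩ := h6
        obtain rfl : f = 2 := by omega
        refine crit_of_aut hc (p := 7) (by norm_num) (by norm_num) ?_ haut (by norm_num)
        rw [Fin.prod_univ_three] at hcard
        norm_num at hcard
        rw [show Nat.card (Matrix.ProjectiveSpecialLinearGroup (Fin 3) F) = 20160 by omega]
        norm_num
      · exact key 3 (by norm_num) le_rfl (by omega) h6
  · exact key 4 (by norm_num) h4 (by omega) (by omega)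

theorem crit_psp {m : ℕ} (hm : 2 ≤ m) (hm2 : m = 2 → 3 ≤ Fintype.card F) (_ : Finite (Cfsg.PSp m F))
    (hc : center (Cfsg.PSp m F) = ⊥) : Crit (Cfsg.PSp m F) := by
  obtain ⟨r, f, hr, hf, hF⟩ := exists_card F
  have := Fact.mk hr
  have haut := S0814.result r f hf hF m hm (by rwa [← hF])
  have h1 := S0245.result (F := F) hF m
  have h2 := S0246.result (F := F) hF m (by omega)
  have h3 := Subgroup.card_eq_card_quotient_mul_card_subgroup (center (Matrix.symplecticGroup (Fin m) F))
  rw [h1, h2] at h3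
  obtain ⟨p, h⟩ := exists_zs hr hf (e := 4) (by omega) (by omega)
  refine crit_of_aut hc h.prime h.five ?_ haut ?_
  · have h4 : p ∣ Nat.gcd 2 (r ^ f - 1) * Nat.card (Cfsg.PSp m F) := by
      rw [mul_comm]
      change p ∣ Nat.card (Matrix.symplecticGroup (Fin m) F ⧸ center (Matrix.symplecticGroup (Fin m) F)) * _
      rw [← h3]
      apply Dvd.dvd.mul_left
      exact ((h.iff 4).mpr dvd_rfl).trans
        (Finset.dvd_prod_of_mem (fun i => (r ^ f) ^ (2 * (i + 1)) - 1) (Finset.mem_range.mpr (by omega : 1 < m)))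
    exact h.dvd_of_mul (h.not_dvd_gcd (by norm_num) 2) h4
  · refine h.ndvd_mul (h.ndvd_mul ?_ (h.not_dvd_gcd (by norm_num) 2)) h.ndvd
    split_ifs
    · exact h.not_dvd_of_le two_pos (by norm_num)
    · exact h.not_dvd_of_le one_pos (by norm_num)

theorem crit_psu {n q : ℕ} (hF : Fintype.card F = q ^ 2) (hn : 3 ≤ n) (hn2 : ¬ (n = 3 ∧ q = 2))
    (_ : Finite (Cfsg.PSU n F q)) (hc : center (Cfsg.PSU n F q) = ⊥) : Crit (Cfsg.PSU n F q) := by
  have hq2 : IsPrimePow (q ^ 2) := hF ▸ Fintype.isPrimePow_card_of_field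
  have hqp : IsPrimePow q := (isPrimePow_pow_iff (by norm_num)).1 hq2
  obtain ⟨r, f, hr, hf, hq⟩ := (isPrimePow_nat_iff _).mp hqp
  have := Fact.mk hr
  have haut := S0815.result (F := F) r f hf hq.symm hF n hn hn2
  have h1 := S0280.result hF n (by omega)
  have key : ∀ e p, 3 ≤ e → Zs q f e p → p ∣ ∏ i ∈ Finset.range n,
      (if Even i then q ^ (i + 1) + 1 else q ^ (i + 1) - 1) → Crit (Cfsg.PSU n F q) := by
    intro e p he h hd
    refine crit_of_aut hc h.prime h.five ?_ haut ?_
    · refine h.dvd_of_mul (h.not_dvd_succ he) (h.dvd_of_mul (h.not_dvd_gcd' he n) ?_)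
      rw [h1]
      exact Dvd.dvd.mul_left hd _
    · exact h.ndvd_mul (h.not_dvd_gcd' he n)
        (h.ndvd_mul (h.not_dvd_of_le two_pos (by norm_num)) h.ndvd)
  rcases Nat.lt_or_ge n 4 with h4 | h4
  · obtain rfl : n = 3 := by omega
    have h6 : ¬ (r = 2 ∧ f * 6 = 6) := by
      rintro ⟨rfl, h6⟩
      obtain rfl : f = 1 := by omega
      exact hn2 ⟨rfl, by rw [← hq, pow_one]⟩
    obtain ⟨p, h⟩ := exists_zs hr hf (e := 6) (by omega) h6
    rw [hq] at h
    refine key 6 p (by norm_num) h ?_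
    refine (h.dvd_add (j := 3) (by norm_num) (by norm_num)).trans ?_
    exact Finset.dvd_prod_of_mem (fun i => if Even i then q ^ (i + 1) + 1 else q ^ (i + 1) - 1)
      (Finset.mem_range.mpr (by norm_num : 2 < 3))
  · obtain ⟨p, h⟩ := exists_zs hr hf (e := 4) (by omega) (by omega)
    rw [hq] at h
    refine key 4 p (by norm_num) h ?_
    have h5 := Finset.dvd_prod_of_mem (fun i => if Even i then q ^ (i + 1) + 1 else q ^ (i + 1) - 1)
      (Finset.mem_range.mpr (by omega : 3 < n))
    refine ((h.iff 4).mpr dvd_rfl).trans ?_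
    have h6 : ¬ Even 3 := by decide
    simpa [h6] using h5

theorem crit_oodd {m : ℕ} (hm : 3 ≤ m) (ho : Odd (Fintype.card F))
    (_ : Finite (Cfsg.POmega F (Cfsg.quadFormOdd m F))) (hc : center (Cfsg.POmega F (Cfsg.quadFormOdd m F)) = ⊥) :
    Crit (Cfsg.POmega F (Cfsg.quadFormOdd m F)) := by
  obtain ⟨r, f, hr, hf, hF⟩ := exists_card F
  have := Fact.mk hr
  have hro : Odd r := by
    rw [hF] at ho
    exact (Nat.odd_pow_iff (by omega)).mp ho
  have haut := S0816.result (F := F) r f hf hF hro m hm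
  have h1 := S0292.result (F := F) rfl ho m hm
  rw [hF] at h1
  obtain ⟨p, h⟩ := exists_zs hr hf (e := 4) (by omega) (by omega)
  refine crit_of_aut hc h.prime h.five ?_ haut
    (h.ndvd_mul (h.not_dvd_of_le two_pos (by norm_num)) h.ndvd)
  refine h.dvd_of_mul (h.not_dvd_of_le two_pos (by norm_num)) ?_
  rw [h1]
  apply Dvd.dvd.mul_left
  exact ((h.iff 4).mpr dvd_rfl).trans
    (Finset.dvd_prod_of_mem (fun i => (r ^ f) ^ (2 * (i + 1)) - 1) (Finset.mem_range.mpr (by omega : 1 < m)))

theorem crit_oplus {m : ℕ} (hm : 4 ≤ m)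
    (_ : Finite (Cfsg.POmega F (Cfsg.quadFormPlus m F))) (hc : center (Cfsg.POmega F (Cfsg.quadFormPlus m F)) = ⊥) :
    Crit (Cfsg.POmega F (Cfsg.quadFormPlus m F)) := by
  obtain ⟨r, f, hr, hf, hF⟩ := exists_card F
  have := Fact.mk hr
  have haut := S0817.result (F := F) r f hf hF m hm
  have h1 := S0293.result (F := F) rfl m hm
  rw [hF] at h1
  obtain ⟨p, h⟩ := exists_zs hr hf (e := 4) (by omega) (by omega)
  refine crit_of_aut hc h.prime h.five ?_ haut ?_
  · have h2 : ¬ p ∣ Nat.gcd 4 ((r ^ f) ^ m - 1) := fun h2 =>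
      h.not_dvd_of_le (by norm_num : 0 < 4) le_rfl (h2.trans (Nat.gcd_dvd_left _ _))
    refine h.dvd_of_mul h2 ?_
    rw [h1]
    apply Dvd.dvd.mul_left
    exact ((h.iff 4).mpr dvd_rfl).trans
      (Finset.dvd_prod_of_mem (fun i => (r ^ f) ^ (2 * (i + 1)) - 1) (Finset.mem_range.mpr (by omega : 1 < m - 1)))
  · refine h.ndvd_mul (h.ndvd_mul ?_ ?_) h.ndvd
    · split_ifs
      · exact h.not_dvd_of_le (by norm_num) (by norm_num)
      · exact h.not_dvd_of_le (by norm_num) (by norm_num)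
    · split_ifs
      · exact h.not_dvd_of_le (by norm_num) (by norm_num)
      · exact h.not_dvd_eight
      · exact h.not_dvd_of_le (by norm_num) (by norm_num)

theorem crit_ominus {m : ℕ} (hm : 4 ≤ m) {a b : F}
    (hab : ∀ z₁ z₂ : F, z₁ ^ 2 + a * z₁ * z₂ + b * z₂ ^ 2 = 0 → z₁ = 0 ∧ z₂ = 0)
    (_ : Finite (Cfsg.POmega F (Cfsg.quadFormMinus (m - 1) F a b)))
    (hc : center (Cfsg.POmega F (Cfsg.quadFormMinus (m - 1) F a b)) = ⊥) :
    Crit (Cfsg.POmega F (Cfsg.quadFormMinus (m - 1) F a b)) := by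
  obtain ⟨r, f, hr, hf, hF⟩ := exists_card F
  have := Fact.mk hr
  have haut := S0818.result (F := F) r f hf hF m hm a b hab
  have h1 := S0294.result (F := F) rfl m hm a b hab
  rw [hF] at h1
  obtain ⟨p, h⟩ := exists_zs hr hf (e := 4) (by omega) (by omega)
  refine crit_of_aut hc h.prime h.five ?_ haut ?_
  · have h2 : ¬ p ∣ Nat.gcd 4 ((r ^ f) ^ m + 1) := fun h2 =>
      h.not_dvd_of_le (by norm_num : 0 < 4) le_rfl (h2.trans (Nat.gcd_dvd_left _ _))
    refine h.dvd_of_mul h2 ?_
    rw [h1]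
    apply Dvd.dvd.mul_left
    exact ((h.iff 4).mpr dvd_rfl).trans
      (Finset.dvd_prod_of_mem (fun i => (r ^ f) ^ (2 * (i + 1)) - 1) (Finset.mem_range.mpr (by omega : 1 < m - 1)))
  · refine h.ndvd_mul ?_ h.ndvd
    split_ifs
    · exact h.not_dvd_of_le (by norm_num) (by norm_num)
    · exact h.not_dvd_of_le (by norm_num) (by norm_num)
    · exact h.not_dvd_eight

end

end Cfsg.Agent.H484.SylNorm
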