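import Cfsg.Agent.H371.Core.Fam
import Cfsg.Agent.H92.TorExpE8
import Cfsg.Agent.H493.PGRed
import Cfsg.Agent.H413.E8.Non5
import Cfsg.Agent.Lib.Zsigmondy

/-!
# The classes 7, 9, 15, 20, 24, 30 in the prime graph of `E₈(q)` (for S3636; helper484)

* `ex` : each of these classes is not empty;  `dvd` : the primes of the classes 15, 20, 24, 30 divide the order;
* `clique`, `nbr`, `five` : the classes 15, 20, 24, 30 are cliques, and their neighbours;
* `non79` : primes of the classes 7 and 9 are not adjacent.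
-/

set_option autoImplicit false
set_option linter.unusedSectionVars false

namespace Cfsg.Agent.H484.E8Facts

open Polynomial Cfsg Cfsg.Lie
open Cfsg.Agent.H378.ExcAdj (od dvd_of_od_dvd)
open Cfsg.Agent.H371.Core (od_facts Tor)
open Cfsg.Agent.H371.CycEval
open Cfsg.Agent.H493.PG
open Cfsg.Agent.Nodes.RGDChev

universe u

variable {F : Type u} [Field F] [Finite F]

theorem two_le : 2 ≤ Nat.card F := Finite.one_lt_card

/-- the order formula, as a divisibility -/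
theorem dvd_card {r d : ℕ} (hd : d ∈ [2, 8, 12, 14, 18, 20, 24, 30]) (h : od (Nat.card F) r ∣ d) :
    r ∣ Nat.card ↥(chevE8.group F) := by
  have : Fintype F := Fintype.ofFinite F
  have hc := S1065.result (F := F) (q := Nat.card F) Nat.card_eq_fintype_card.symm
  rw [hc]
  have h1 : r ∣ Nat.card F ^ d - 1 := dvd_of_od_dvd (by have := two_le (F := F); omega) h
  refine h1.trans ?_
  simp only [List.mem_cons, List.not_mem_nil, or_false] at hd
  generalize Nat.card F = u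
  rcases hd with rfl | rfl | rfl | rfl | rfl | rfl | rfl | rfl
  · exact Dvd.intro (u ^ 120 * (u ^ 8 - 1) * (u ^ 12 - 1) * (u ^ 14 - 1) * (u ^ 18 - 1) * (u ^ 20 - 1) *
      (u ^ 24 - 1) * (u ^ 30 - 1)) (by ring)
  · exact Dvd.intro (u ^ 120 * (u ^ 2 - 1) * (u ^ 12 - 1) * (u ^ 14 - 1) * (u ^ 18 - 1) * (u ^ 20 - 1) *
      (u ^ 24 - 1) * (u ^ 30 - 1)) (by ring)
  · exact Dvd.intro (u ^ 120 * (u ^ 2 - 1) * (u ^ 8 - 1) * (u ^ 14 - 1) * (u ^ 18 - 1) * (u ^ 20 - 1) *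
      (u ^ 24 - 1) * (u ^ 30 - 1)) (by ring)
  · exact Dvd.intro (u ^ 120 * (u ^ 2 - 1) * (u ^ 8 - 1) * (u ^ 12 - 1) * (u ^ 18 - 1) * (u ^ 20 - 1) *
      (u ^ 24 - 1) * (u ^ 30 - 1)) (by ring)
  · exact Dvd.intro (u ^ 120 * (u ^ 2 - 1) * (u ^ 8 - 1) * (u ^ 12 - 1) * (u ^ 14 - 1) * (u ^ 20 - 1) *
      (u ^ 24 - 1) * (u ^ 30 - 1)) (by ring)
  · exact Dvd.intro (u ^ 120 * (u ^ 2 - 1) * (u ^ 8 - 1) * (u ^ 12 - 1) * (u ^ 14 - 1) * (u ^ 18 - 1) *
      (u ^ 24 - 1) * (u ^ 30 - 1)) (by ring)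
  · exact Dvd.intro (u ^ 120 * (u ^ 2 - 1) * (u ^ 8 - 1) * (u ^ 12 - 1) * (u ^ 14 - 1) * (u ^ 18 - 1) *
      (u ^ 20 - 1) * (u ^ 30 - 1)) (by ring)
  · exact Dvd.intro_left _ rfl

/-- **(a)** the classes 7, 9, 15, 20, 24, 30 are not empty -/
theorem ex (F : Type u) [Field F] [Finite F] {m : ℕ} (hm : m = 7 ∨ m = 9 ∨ m = 15 ∨ m = 20 ∨ m = 24 ∨ m = 30) :
    ∃ r : ℕ, r.Prime ∧ od (Nat.card F) r = m ∧ r ∣ Nat.card ↥(chevE8.group F) := by
  obtain ⟨r, hr, ho⟩ := Lib.Zsigmondy.exists_prime_orderOf (a := Nat.card F) (n := m) two_le (by omega)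
    (fun h2 => by omega) (fun h6 => by omega)
  refine ⟨r, hr, ho, ?_⟩
  have h1 : od (Nat.card F) r = m := ho
  rcases hm with rfl | rfl | rfl | rfl | rfl | rfl
  · exact dvd_card (d := 14) (by simp) (by rw [h1]; norm_num)
  · exact dvd_card (d := 18) (by simp) (by rw [h1]; norm_num)
  · exact dvd_card (d := 30) (by simp) (by rw [h1]; norm_num)
  · exact dvd_card (d := 20) (by simp) (by rw [h1])
  · exact dvd_card (d := 24) (by simp) (by rw [h1])
  · exact dvd_card (d := 30) (by simp) (by rw [h1])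

/-- **(b)** -/
theorem dvd {r : ℕ} (h : od (Nat.card F) r = 15 ∨ od (Nat.card F) r = 20 ∨ od (Nat.card F) r = 24 ∨
    od (Nat.card F) r = 30) : r ∣ Nat.card ↥(chevE8.group F) := by
  rcases h with h | h | h | h
  · exact dvd_card (d := 30) (by simp) (by rw [h]; norm_num)
  · exact dvd_card (d := 20) (by simp) (by rw [h])
  · exact dvd_card (d := 24) (by simp) (by rw [h])
  · exact dvd_card (d := 30) (by simp) (by rw [h])

/-- the four tori -/
theorem tor {m : ℕ} (hm : m = 15 ∨ m = 20 ∨ m = 24 ∨ m = 30) :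
    Tor ↥(chevE8.group F) (Nat.card F) m (ev m (Nat.card F : ℕ)).natAbs := by
  rcases hm with rfl | rfl | rfl | rfl
  · exact Cfsg.Agent.H371.Core.tor_E8_15 F
  · exact Cfsg.Agent.H371.Core.tor_E8_20 F
  · exact Cfsg.Agent.H371.Core.tor_E8_24 F
  · exact Cfsg.Agent.H371.Core.tor_E8_30 F

/-- two primes dividing the order of an element are adjacent -/
theorem rel_of_dvd {G : Type*} [Group G] [Finite G] {r s n : ℕ} (hr : r.Prime) (hs : s.Prime) (hrs : r ≠ s)
    (hn : ∃ g : G, orderOf g = n) (h1 : r ∣ n) (h2 : s ∣ n) : Rel G r s := by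
  obtain ⟨g, hg⟩ := hn
  have h3 : r * s ∣ n := ((Nat.coprime_primes hr hs).2 hrs).mul_dvd_of_dvd_of_dvd h1 h2
  obtain ⟨k, hk⟩ := h3
  have hn0 : n ≠ 0 := by rw [← hg]; exact (orderOf_pos g).ne'
  have hk0 : k ≠ 0 := by rintro rfl; exact hn0 (by rw [hk, mul_zero])
  refine ⟨hr, hs, hrs, g ^ k, ?_⟩
  rw [orderOf_pow_of_dvd hk0 (by rw [hg, hk]; exact dvd_mul_left _ _), hg, hk]
  exact Nat.mul_div_cancel _ (Nat.pos_of_ne_zero hk0)

/-- **(c)** the classes 15, 20, 24, 30 are cliques -/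
theorem clique {m r s : ℕ} (hm : m = 15 ∨ m = 20 ∨ m = 24 ∨ m = 30) (hr : r.Prime) (hs : s.Prime)
    (h1 : od (Nat.card F) r = m) (h2 : od (Nat.card F) s = m) (hrs : r ≠ s) : Rel ↥(chevE8.group F) r s :=
  rel_of_dvd hr hs hrs (tor hm).ex ((tor hm).dv r hr h1) ((tor hm).dv s hs h2)

theorem cast_ev {m s : ℕ} {q : ℕ} (h : s ∣ (ev m (q : ℕ)).natAbs) : ((ev m (q : ℕ) : ℤ) : ZMod s) = 0 :=
  (ZMod.intCast_zmod_eq_zero_iff_dvd _ s).2 (Int.natCast_dvd.2 h)

theorem z5a : ∀ x : ZMod 5, x ^ 8 - x ^ 6 + x ^ 4 - x ^ 2 + 1 = 0 → x ^ 2 = -1 := by decide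

theorem z5b : (-1 : ZMod 5) ≠ 1 := by decide

theorem z5c : (-1 : ZMod 5) ^ 2 = 1 := by decide

theorem z5d : ∀ x : ZMod 5, x ^ 4 = 1 → x ^ 2 ≠ 1 → x ^ 8 - x ^ 6 + x ^ 4 - x ^ 2 + 1 = 0 := by decide

/-- the primes of `Φ_m(q)`, `m = 15, 20, 24, 30` -/
theorem od_of_dvd_ev {m s q : ℕ} (hm : m = 15 ∨ m = 20 ∨ m = 24 ∨ m = 30) (hs : s.Prime)
    (h : s ∣ (ev m (q : ℕ)).natAbs) : od q s = m ∨ (m = 20 ∧ s = 5 ∧ od q 5 = 4) := by
  by_cases hsm : s ∣ m
  swap
  · exact Or.inl (H92.TorExpE8.orderOf_of_dvd hs hsm (Int.natCast_dvd.2 h))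
  right
  have hs5 : s = 2 ∨ s = 3 ∨ s = 5 := by
    have h30 : s ∣ 2 ^ 3 * 3 * 5 := by
      rcases hm with rfl | rfl | rfl | rfl <;> exact hsm.trans (by norm_num)
    rcases (Nat.Prime.dvd_mul hs).1 h30 with h1 | h1
    · rcases (Nat.Prime.dvd_mul hs).1 h1 with h1 | h1
      · exact Or.inl ((Nat.prime_dvd_prime_iff_eq hs Nat.prime_two).1 (hs.dvd_of_dvd_pow h1))
      · exact Or.inr (Or.inl ((Nat.prime_dvd_prime_iff_eq hs Nat.prime_three).1 h1))
    · exact Or.inr (Or.inr ((Nat.prime_dvd_prime_iff_eq hs Nat.prime_five).1 h1))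
  have h0 := cast_ev h
  rcases hm with rfl | rfl | rfl | rfl
  · rw [ev15] at h0
    push_cast at h0
    exfalso
    rcases hs5 with rfl | rfl | rfl
    · revert h0; generalize ((q : ℕ) : ZMod 2) = x; revert x; decide
    · revert h0; generalize ((q : ℕ) : ZMod 3) = x; revert x; decide
    · revert h0; generalize ((q : ℕ) : ZMod 5) = x; revert x; decide
  · rw [ev20] at h0
    push_cast at h0
    rcases hs5 with rfl | rfl | rfl
    · exfalso; revert h0; generalize ((q : ℕ) : ZMod 2) = x; revert x; decide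
    · exfalso; revert h0; generalize ((q : ℕ) : ZMod 3) = x; revert x; decide
    · refine ⟨rfl, rfl, ?_⟩
      have : Fact (Nat.Prime 5) := ⟨Nat.prime_five⟩
      have h1 : ((q : ℕ) : ZMod 5) ^ 2 = -1 := z5a _ h0
      show orderOf ((q : ℕ) : ZMod 5) = 2 ^ (1 + 1)
      refine orderOf_eq_prime_pow ?_ ?_
      · rw [pow_one, h1]; exact z5b
      · have h2 : ((q : ℕ) : ZMod 5) ^ 2 ^ (1 + 1) = (((q : ℕ) : ZMod 5) ^ 2) ^ 2 := by ring
        rw [h2, h1]; exact z5c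
  · rw [ev24] at h0
    push_cast at h0
    exfalso
    rcases hs5 with rfl | rfl | rfl
    · revert h0; generalize ((q : ℕ) : ZMod 2) = x; revert x; decide
    · revert h0; generalize ((q : ℕ) : ZMod 3) = x; revert x; decide
    · exact absurd hsm (by norm_num)
  · rw [ev30] at h0
    push_cast at h0
    exfalso
    rcases hs5 with rfl | rfl | rfl
    · revert h0; generalize ((q : ℕ) : ZMod 2) = x; revert x; decide
    · revert h0; generalize ((q : ℕ) : ZMod 3) = x; revert x; decide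
    · revert h0; generalize ((q : ℕ) : ZMod 5) = x; revert x; decide

/-- **(d)** the neighbours of the classes 15, 20, 24, 30 -/
theorem nbr {m r s : ℕ} (hm : m = 15 ∨ m = 20 ∨ m = 24 ∨ m = 30) (h1 : od (Nat.card F) r = m)
    (h : Rel ↥(chevE8.group F) r s) : od (Nat.card F) s = m ∨ (m = 20 ∧ s = 5 ∧ od (Nat.card F) 5 = 4) := by
  obtain ⟨hr, hs, hrs, g, hg⟩ := h
  have hx : orderOf (g ^ s) = r := by
    rw [orderOf_pow' g hs.ne_zero, hg, Nat.gcd_eq_right (Dvd.intro_left r rfl)]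
    exact Nat.mul_div_cancel _ hs.pos
  have hc := (tor hm).ct r hr h1 (g ^ s) hx
  have h2 : g ∈ Subgroup.centralizer {g ^ s} := by
    rw [Subgroup.mem_centralizer_singleton_iff]
    exact (Commute.pow_self g s).eq.symm
  have h3 : orderOf (⟨g, h2⟩ : ↥(Subgroup.centralizer {g ^ s})) ∣ Nat.card ↥(Subgroup.centralizer {g ^ s}) :=
    orderOf_dvd_natCard _
  rw [← Subgroup.orderOf_coe] at h3
  simp only at h3
  rw [hg, hc] at h3
  exact od_of_dvd_ev hm hs ((Dvd.intro_left r rfl).trans h3)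

/-- **(e)** 5 is adjacent to the class 20 if `q² ≡ -1 (mod 5)` -/
theorem five {r : ℕ} (hr : r.Prime) (h5 : od (Nat.card F) 5 = 4) (h : od (Nat.card F) r = 20) :
    Rel ↥(chevE8.group F) r 5 := by
  have hm : (20 : ℕ) = 15 ∨ (20 : ℕ) = 20 ∨ (20 : ℕ) = 24 ∨ (20 : ℕ) = 30 := Or.inr (Or.inl rfl)
  refine rel_of_dvd hr Nat.prime_five ?_ (tor hm).ex ((tor hm).dv r hr h) ?_
  · rintro rfl
    rw [h5] at h
    exact absurd h (by norm_num)
  · have : Fact (Nat.Prime 5) := ⟨Nat.prime_five⟩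
    have h1 : ((Nat.card F : ℕ) : ZMod 5) ^ 4 = 1 := by
      rw [← show orderOf ((Nat.card F : ℕ) : ZMod 5) = 4 from h5]; exact pow_orderOf_eq_one _
    have h2 : ((Nat.card F : ℕ) : ZMod 5) ^ 2 ≠ 1 := by
      intro h2
      have h3 := orderOf_dvd_of_pow_eq_one h2
      have h4 : od (Nat.card F) 5 ∣ 2 := h3
      rw [h5] at h4
      exact absurd h4 (by norm_num)
    have h3 : ((ev 20 (Nat.card F : ℕ) : ℤ) : ZMod 5) = 0 := by
      rw [ev20]
      push_cast
      exact z5d _ h1 h2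
    exact Int.natCast_dvd.1 ((ZMod.intCast_zmod_eq_zero_iff_dvd _ 5).1 h3)

/-- **(f)** the classes 7 and 9 are not adjacent -/
theorem non79 {r s : ℕ} (h7 : od (Nat.card F) r = 7) (h9 : od (Nat.card F) s = 9) :
    ¬ Rel ↥(chevE8.group F) r s := by
  rintro ⟨hr, hs, hrs, x, hx⟩
  have : Fintype F := Fintype.ofFinite F
  let cs : CoxeterSystem CoxeterMatrix.E₈ CoxeterMatrix.E₈.Group := CoxeterMatrix.E₈.toCoxeterSystem
  have := H413.E8.Non5.finW
  have hF : Fintype.card F = Nat.card F := Nat.card_eq_fintype_card.symm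
  obtain ⟨p, hpc⟩ := CharP.exists F
  have hpf : Fact p.Prime := ⟨CharP.char_is_prime F p⟩
  obtain ⟨n, -, hn⟩ := FiniteField.card F p
  have hpq : p ∣ Nat.card F := by rw [← hF, hn]; exact dvd_pow_self p n.ne_zero
  obtain ⟨hrq, h7r⟩ := od_facts hr (by norm_num) h7
  obtain ⟨hsq, h9s⟩ := od_facts hs (by norm_num) h9
  have hcop : (orderOf x).Coprime p := by
    rw [hx]
    exact Nat.Coprime.mul_left ((Nat.coprime_primes hr hpf.out).2 (fun h => hrq (h ▸ hpq)))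
      ((Nat.coprime_primes hs hpf.out).2 (fun h => hsq (h ▸ hpq)))
  obtain ⟨S, h1, h2, h3⟩ := H92.TorExp.ord_untw H413.E8.Non5.e8T cs hcop
  rw [hx, hF] at h3
  have hrZ : Prime ((r : ℕ) : ℤ) := Nat.prime_iff_prime_int.1 hr
  have hsZ : Prime ((s : ℕ) : ℤ) := Nat.prime_iff_prime_int.1 hs
  have hle : ∀ d ∈ S, d.totient ≤ 8 := fun d hd =>
    (Finset.single_le_sum (f := fun d => d.totient) (fun _ _ => Nat.zero_le _) hd).trans h2
  have key : ∀ {t m : ℕ}, t.Prime → m = 7 ∨ m = 9 → od (Nat.card F) t = m → m < t → t ∣ r * s → m ∈ S := by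
    intro t m ht hm ho hmt htd
    have htZ : Prime ((t : ℕ) : ℤ) := Nat.prime_iff_prime_int.1 ht
    obtain ⟨d, hdS, hd⟩ := (htZ.dvd_finsetProd_iff _).1 ((Int.natCast_dvd_natCast.2 htd).trans h3)
    have htd' : ¬ t ∣ d := by
      intro h
      have h8 := H92.TorExpE8.sub_one_le ht (h1 d hdS) h
      have h9 := hle d hdS
      have h10 : t = 8 ∨ t = 9 := by omega
      rcases h10 with rfl | rfl
      · exact absurd ht (by norm_num)
      · exact absurd ht (by norm_num)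
    have h8 := H92.TorExpE8.orderOf_of_dvd ht htd' hd
    have h9 : od (Nat.card F) t = d := h8
    rw [← ho, h9]
    exact hdS
  have k7 := key hr (Or.inl rfl) h7 h7r (Dvd.intro s rfl)
  have k9 := key hs (Or.inr rfl) h9 h9s (Dvd.intro_left r rfl)
  have h8 := Finset.sum_le_sum_of_subset (f := fun d => d.totient) (show ({7, 9} : Finset ℕ) ⊆ S by
    intro x hx
    rw [Finset.mem_insert, Finset.mem_singleton] at hx
    rcases hx with rfl | rfl <;> assumption)
  rw [Finset.sum_pair (by norm_num)] at h8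
  have h77 : Nat.totient 7 = 6 := by decide
  have h99 : Nat.totient 9 = 6 := by decide
  omega

end Cfsg.Agent.H484.E8Facts
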