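import Mathlib
import Cfsg.Agent.H484.CritTable
import Cfsg.Agent.S2121
import Cfsg.Agent.S2122
import Cfsg.Agent.S2123
import Cfsg.Agent.S2124
import Cfsg.Agent.S2125
import Cfsg.Agent.S2126
import Cfsg.Agent.S2127
import Cfsg.Agent.S2128
import Cfsg.Agent.S2129
import Cfsg.Agent.S2130

/-!
# The orders of the outer automorphism groups of the exceptional groups (helper484)
-/

set_option autoImplicit false

namespace Cfsg.Agent.H484.SylNorm

theorem outTable : OutTable where
  g2 F _ _ p f _ _ hF hq := Cfsg.Agent.S2121.result p f hF hq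
  f4 F _ _ p f _ _ hF := Cfsg.Agent.S2122.result p f hF
  e6 F _ _ p f _ _ hF := Cfsg.Agent.S2123.result p f hF
  e7 F _ _ p f _ _ hF := Cfsg.Agent.S2124.result p f hF
  e8 F _ _ p f _ _ hF := Cfsg.Agent.S2125.result p f hF
  sz F _ _ m hm hF := Cfsg.Agent.S2126.result hm hF
  ree K _ _ m hm hK := Cfsg.Agent.S2127.result hm hK
  tf4 K _ _ m hm hK := Cfsg.Agent.S2128.result hm hK
  td4 K _ _ p f _ _ hK hf := Cfsg.Agent.S2129.result p f hK hf
  te6 K _ _ p f _ _ hK hf := Cfsg.Agent.S2130.result p f hK hf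

end Cfsg.Agent.H484.SylNorm
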