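import Mathlib.GroupTheory.OrderOfElement
import Mathlib.GroupTheory.Solvable

/-!
# Bounded orders of the groups with a given prime graph from "no solvable normal subgroup" (helper484)
-/

set_option autoImplicit false

namespace Cfsg.Agent.H484.AlmostRec

universe u

/-- same prime graph -/
def SamePG (G : Type*) [Group G] (H : Type*) [Group H] : Prop :=
  (∀ p : ℕ, p.Prime → (p ∣ Nat.card G ↔ p ∣ Nat.card H)) ∧
    (∀ p q : ℕ, p.Prime → q.Prime → p ≠ q → ((∃ g : G, orderOf g = p * q) ↔ (∃ g : H, orderOf g = p * q)))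

/-- `h3525` is the statement S3525 for `G`. -/
theorem bound {G : Type u} [Group G] [Finite G]
    (h3525 : (∀ n : ℕ, ∃ (H : Type) (_ : Group H) (_ : Finite H), n < Nat.card H ∧ SamePG G H) →
      ∃ (H : Type) (_ : Group H) (_ : Finite H), SamePG G H ∧
        ∃ N : Subgroup H, N.Normal ∧ N ≠ ⊥ ∧ Group.IsSolvable ↥N)
    (hsolv : ∀ (H : Type) [Group H] [Finite H], SamePG G H →
      ∀ N : Subgroup H, N.Normal → Group.IsSolvable ↥N → N = ⊥) :
    ∃ N : ℕ, ∀ (H : Type) [Group H] [Finite H], SamePG G H → Nat.card H ≤ N := by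
  by_contra hcon
  push Not at hcon
  obtain ⟨H, hH, hf, hpg, N, hN, hne, hs⟩ := h3525 (fun n => by
    obtain ⟨H, hH, hf, hpg, hlt⟩ := hcon n
    exact ⟨H, hH, hf, hlt, hpg⟩)
  exact hne (hsolv H hpg N hN hs)

end Cfsg.Agent.H484.AlmostRec
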