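import Cfsg.Agent.S1065
import Cfsg.Agent.Lib.Zsigmondy

/-!
# The prime divisors of `|E₈(u)|` and of `|E₈(2)|` (for S3529; helper484)
-/

set_option autoImplicit false

namespace Cfsg.Agent.H484.E8Two

open Cfsg

/-- the prime divisors of `|E₈(2)|` -/
def PL : List ℕ := [2, 3, 5, 7, 11, 13, 17, 19, 31, 41, 43, 73, 127, 151, 241, 331]

theorem prime_PL : ∀ p ∈ PL, p.Prime := by
  intro p hp
  simp only [PL, List.mem_cons, List.not_mem_nil, or_false] at hp
  rcases hp with rfl | rfl | rfl | rfl | rfl | rfl | rfl | rfl | rfl | rfl | rfl | rfl | rfl | rfl | rfl | rfl <;>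
    norm_num

theorem mem_PL {r : ℕ} (hr : r.Prime)
    (h : r ∣ 2 ^ 120 * (2 ^ 2 - 1) * (2 ^ 8 - 1) * (2 ^ 12 - 1) * (2 ^ 14 - 1) * (2 ^ 18 - 1) * (2 ^ 20 - 1) *
      (2 ^ 24 - 1) * (2 ^ 30 - 1)) : r ∈ PL := by
  have h1 : 2 ^ 120 * (2 ^ 2 - 1) * (2 ^ 8 - 1) * (2 ^ 12 - 1) * (2 ^ 14 - 1) * (2 ^ 18 - 1) * (2 ^ 20 - 1) *
      (2 ^ 24 - 1) * (2 ^ 30 - 1) ∣ PL.prod ^ 150 := by decide +kernel
  have h2 : r ∣ PL.prod := hr.dvd_of_dvd_pow (h.trans h1)
  exact mem_list_primes_of_dvd_prod hr.prime (fun q hq => (prime_PL q hq).prime) h2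

theorem dvd_of {u r d : ℕ} (hd : d ∈ [2, 8, 12, 14, 18, 20, 24, 30]) (h : r ∣ u ^ d - 1) :
    r ∣ u ^ 120 * (u ^ 2 - 1) * (u ^ 8 - 1) * (u ^ 12 - 1) * (u ^ 14 - 1) * (u ^ 18 - 1) * (u ^ 20 - 1) *
      (u ^ 24 - 1) * (u ^ 30 - 1) := by
  simp only [List.mem_cons, List.not_mem_nil, or_false] at hd
  refine h.trans ?_
  rcases hd with rfl | rfl | rfl | rfl | rfl | rfl | rfl | rfl
  · exact Dvd.intro (u ^ 120 * (u ^ 8 - 1) * (u ^ 12 - 1) * (u ^ 14 - 1) * (u ^ 18 - 1) * (u ^ 20 - 1) *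
      (u ^ 24 - 1) * (u ^ 30 - 1)) (by ring)
  · exact Dvd.intro (u ^ 120 * (u ^ 2 - 1) * (u ^ 12 - 1) * (u ^ 14 - 1) * (u ^ 18 - 1) * (u ^ 20 - 1) *
      (u ^ 24 - 1) * (u ^ 30 - 1)) (by ring)
  · exact Dvd.intro (u ^ 120 * (u ^ 2 - 1) * (u ^ 8 - 1) * (u ^ 14 - 1) * (u ^ 18 - 1) * (u ^ 20 - 1) *
      (u ^ 24 - 1) * (u ^ 30 - 1)) (by ring)
  · exact Dvd.intro (u ^ 120 * (u ^ 2 - 1) * (u ^ 8 - 1) * (u ^ 12 - 1) * (u ^ 18 - 1) * (u ^ 20 - 1) *
      (u ^ 24 - 1) * (u ^ 30 - 1)) (by ring)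
  · exact Dvd.intro (u ^ 120 * (u ^ 2 - 1) * (u ^ 8 - 1) * (u ^ 12 - 1) * (u ^ 14 - 1) * (u ^ 20 - 1) *
      (u ^ 24 - 1) * (u ^ 30 - 1)) (by ring)
  · exact Dvd.intro (u ^ 120 * (u ^ 2 - 1) * (u ^ 8 - 1) * (u ^ 12 - 1) * (u ^ 14 - 1) * (u ^ 18 - 1) *
      (u ^ 24 - 1) * (u ^ 30 - 1)) (by ring)
  · exact Dvd.intro (u ^ 120 * (u ^ 2 - 1) * (u ^ 8 - 1) * (u ^ 12 - 1) * (u ^ 14 - 1) * (u ^ 18 - 1) *
      (u ^ 20 - 1) * (u ^ 30 - 1)) (by ring)
  · exact Dvd.intro_left _ rfl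

/-- `π(E₈(u)) ⊆ π(E₈(2))` forces `u = 2` -/
theorem eq_two {u p a : ℕ} (hp : p.Prime) (ha : a ≠ 0) (hu : u = p ^ a)
    (h : ∀ r : ℕ, r.Prime → ∀ d ∈ [2, 8, 12, 14, 18, 20, 24, 30], r ∣ u ^ d - 1 → r ∈ PL) (hpu : p ∈ PL) :
    u = 2 := by
  -- primitive prime divisors
  have key : ∀ d ∈ [20, 24, 30], ∃ r ∈ PL, orderOf (p : ZMod r) = d * a ∧ d * a ∣ r - 1 := by
    intro d hd
    have hd20 : 20 ≤ d := by
      simp only [List.mem_cons, List.not_mem_nil, or_false] at hd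
      omega
    have hda : 20 ≤ d * a := le_trans hd20 (Nat.le_mul_of_pos_right d (Nat.pos_of_ne_zero ha))
    obtain ⟨r, hr, ho⟩ := Lib.Zsigmondy.exists_prime_orderOf (a := p) (n := d * a) hp.two_le (by omega)
      (fun h2 => by omega) (fun h6 => by omega)
    have hra : ¬ r ∣ p := by
      intro hrp
      have := Fact.mk hr
      have h0 : (p : ZMod r) = 0 := (ZMod.natCast_eq_zero_iff p r).2 hrp
      have h1 : (p : ZMod r) ^ (d * a) = 1 := by rw [← ho]; exact pow_orderOf_eq_one _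
      rw [h0, zero_pow (by omega)] at h1
      exact zero_ne_one h1
    refine ⟨r, h r hr d ?_ ?_, ho, ?_⟩
    · simp only [List.mem_cons, List.not_mem_nil, or_false] at hd ⊢
      omega
    · rw [hu, ← pow_mul, mul_comm a d]
      exact (Lib.Zsigmondy.dvd_pow_sub_one_iff hp.one_le _).2 (by rw [ho])
    · rw [← ho]
      exact Lib.Zsigmondy.orderOf_dvd_pred hr hra
  have ha1 : a = 1 := by
    obtain ⟨r1, h1, o1, d1⟩ := key 20 (by simp)
    obtain ⟨r2, h2, o2, d2⟩ := key 24 (by simp)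
    obtain ⟨r3, h3, o3, d3⟩ := key 30 (by simp)
    by_contra hne
    have q1 : r1 = 41 ∨ r1 = 241 := by
      have h20 : 20 ∣ r1 - 1 := dvd_trans (Dvd.intro _ rfl) d1
      simp only [PL, List.mem_cons, List.not_mem_nil, or_false] at h1
      rcases h1 with rfl | rfl | rfl | rfl | rfl | rfl | rfl | rfl | rfl | rfl | rfl | rfl | rfl | rfl | rfl | rfl <;>
        first
          | exact Or.inl rfl
          | exact Or.inr rfl
          | (exfalso; revert h20; decide)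
    have q2 : r2 = 73 ∨ r2 = 241 := by
      have h20 : 24 ∣ r2 - 1 := dvd_trans (Dvd.intro _ rfl) d2
      simp only [PL, List.mem_cons, List.not_mem_nil, or_false] at h2
      rcases h2 with rfl | rfl | rfl | rfl | rfl | rfl | rfl | rfl | rfl | rfl | rfl | rfl | rfl | rfl | rfl | rfl <;>
        first
          | exact Or.inl rfl
          | exact Or.inr rfl
          | (exfalso; revert h20; decide)
    have q3 : r3 = 31 ∨ r3 = 151 ∨ r3 = 241 ∨ r3 = 331 := by
      have h20 : 30 ∣ r3 - 1 := dvd_trans (Dvd.intro _ rfl) d3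
      simp only [PL, List.mem_cons, List.not_mem_nil, or_false] at h3
      rcases h3 with rfl | rfl | rfl | rfl | rfl | rfl | rfl | rfl | rfl | rfl | rfl | rfl | rfl | rfl | rfl | rfl <;>
        first
          | (exfalso; revert h20; decide)
          | omega
    have ha12 : a ≤ 12 := by
      rcases q1 with rfl | rfl
      · have := Nat.le_of_dvd (by norm_num) d1
        omega
      · have := Nat.le_of_dvd (by norm_num) d1
        omega
    have h48 : ¬ (a = 2 ∧ r2 = 241 ∧ r3 = 241) := by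
      rintro ⟨rfl, rfl, rfl⟩
      rw [o2] at o3
      omega
    rcases q1 with rfl | rfl <;> rcases q2 with rfl | rfl <;> rcases q3 with rfl | rfl | rfl | rfl <;>
      interval_cases a <;> omega
  subst ha1
  rw [pow_one] at hu
  subst hu
  have w : ∀ r d : ℕ, r.Prime → d ∈ [2, 8, 12, 14, 18, 20, 24, 30] → r ∣ u ^ d - 1 → r ∉ PL → False :=
    fun r d hr hd h1 h2 => h2 (h r hr d hd h1)
  simp only [PL, List.mem_cons, List.not_mem_nil, or_false] at hpu
  rcases hpu with rfl | rfl | rfl | rfl | rfl | rfl | rfl | rfl | rfl | rfl | rfl | rfl | rfl | rfl | rfl | rfl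
  · rfl
  · exact (w 37 18 (by norm_num) (by decide) (by norm_num) (by decide)).elim
  · exact (w 29 14 (by norm_num) (by decide) (by norm_num) (by decide)).elim
  · exact (w 29 14 (by norm_num) (by decide) (by norm_num) (by decide)).elim
  · exact (w 37 12 (by norm_num) (by decide) (by norm_num) (by decide)).elim
  · exact (w 29 14 (by norm_num) (by decide) (by norm_num) (by decide)).elim
  · exact (w 29 8 (by norm_num) (by decide) (by norm_num) (by decide)).elim
  · exact (w 61 30 (by norm_num) (by decide) (by norm_num) (by decide)).elim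
  · exact (w 37 8 (by norm_num) (by decide) (by norm_num) (by decide)).elim
  · exact (w 29 8 (by norm_num) (by decide) (by norm_num) (by decide)).elim
  · exact (w 37 8 (by norm_num) (by decide) (by norm_num) (by decide)).elim
  · exact (w 37 2 (by norm_num) (by decide) (by norm_num) (by decide)).elim
  · exact (w 37 18 (by norm_num) (by decide) (by norm_num) (by decide)).elim
  · exact (w 29 14 (by norm_num) (by decide) (by norm_num) (by decide)).elim
  · exact (w 29 14 (by norm_num) (by decide) (by norm_num) (by decide)).elim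
  · exact (w 29 8 (by norm_num) (by decide) (by norm_num) (by decide)).elim

theorem card_eq_two {F F' : Type*} [Field F] [Fintype F] [Field F'] [Fintype F'] (hF : Fintype.card F = 2)
    (h : ∀ r : ℕ, r.Prime → (r ∣ Nat.card ↥(Cfsg.Lie.chevE8.group F') → r ∣ Nat.card ↥(Cfsg.Lie.chevE8.group F))) :
    Fintype.card F' = 2 := by
  obtain ⟨p, hc⟩ := CharP.exists F'
  obtain ⟨n, hp, hn⟩ := FiniteField.card F' p
  rw [S1065.result hF] at h
  rw [S1065.result (rfl : Fintype.card F' = Fintype.card F')] at h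
  refine eq_two hp n.ne_zero hn (fun r hr d hd hrd => mem_PL hr (h r hr (dvd_of hd hrd))) (mem_PL hp (h p hp ?_))
  refine Dvd.dvd.mul_right (Dvd.dvd.mul_right (Dvd.dvd.mul_right (Dvd.dvd.mul_right (Dvd.dvd.mul_right
    (Dvd.dvd.mul_right (Dvd.dvd.mul_right (Dvd.dvd.mul_right ?_ _) _) _) _) _) _) _) _
  rw [hn, ← pow_mul]
  exact dvd_pow_self p (by have := n.pos; omega)

end Cfsg.Agent.H484.E8Two
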