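import Cfsg.Agent.H440.TwoGen.Basic
import Cfsg.Agent.H136.TwoGen
import Cfsg.Agent.LieRecognition.FieldSemilinear

/-!
# Semisimilarities of a symplectic space (TEAM GEN, helper484)

* `Semi f g σ μ` : `g (c v) = σ(c) g v`, `f (g u) (g v) = μ σ(f u v)`;
* `twoGen_of_lift` : 2-generation of the groups between `Sp` and `ΓSp` from an explicit pair for each coset pair;
* the calculus of the Siegel transformations `T u w : v ↦ v + f v u • w + f v w • u`.
-/

set_option autoImplicit false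

namespace Cfsg.Agent.H484.GenSp

open Cfsg.Agent.H440.TwoGen Subgroup

section

variable {F V : Type*} [Field F] [AddCommGroup V] [Module F V] {f : V → V → F}

/-- `g` is a semisimilarity of the form `f` -/
structure Semi (f : V → V → F) (g : Equiv.Perm V) (σ : F ≃+* F) (μ : F) : Prop where
  add : ∀ u v, g (u + v) = g u + g v
  smul : ∀ (c : F) (v : V), g (c • v) = σ c • g v
  form : ∀ u v, f (g u) (g v) = μ * σ (f u v)

theorem Semi.one : Semi f (1 : Equiv.Perm V) (1 : F ≃+* F) 1 where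
  add _ _ := rfl
  smul _ _ := rfl
  form u v := by
    rw [one_mul]
    rfl

theorem Semi.mul {g g' : Equiv.Perm V} {σ σ' : F ≃+* F} {μ μ' : F} (h : Semi f g σ μ) (h' : Semi f g' σ' μ') :
    Semi f (g * g') (σ * σ') (μ * σ μ') where
  add u v := by
    show g (g' (u + v)) = g (g' u) + g (g' v)
    rw [h'.add, h.add]
  smul c v := by
    show g (g' (c • v)) = (σ * σ') c • g (g' v)
    rw [h'.smul, h.smul]
    rfl
  form u v := by
    show f (g (g' u)) (g (g' v)) = μ * σ μ' * σ (σ' (f u v))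
    rw [h.form, h'.form, map_mul, mul_assoc]

theorem Semi.inv {g : Equiv.Perm V} {σ : F ≃+* F} {μ : F} (h : Semi f g σ μ) (hμ : μ ≠ 0) :
    Semi f g⁻¹ σ⁻¹ (σ⁻¹ μ⁻¹) where
  add u v := by
    apply g.injective
    have e1 : ∀ x, g (g⁻¹ x) = x := fun x => Equiv.apply_symm_apply g x
    rw [e1, h.add, e1, e1]
  smul c v := by
    apply g.injective
    have e1 : ∀ x, g (g⁻¹ x) = x := fun x => Equiv.apply_symm_apply g x
    rw [e1, h.smul, e1]
    have e2 : σ (σ⁻¹ c) = c := σ.apply_symm_apply c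
    rw [e2]
  form u v := by
    apply σ.injective
    have e1 : ∀ x, g (g⁻¹ x) = x := fun x => Equiv.apply_symm_apply g x
    have e2 : ∀ c, σ (σ⁻¹ c) = c := σ.apply_symm_apply
    rw [map_mul, e2, e2]
    have h1 := h.form (g⁻¹ u) (g⁻¹ v)
    rw [e1, e1] at h1
    rw [h1, inv_mul_cancel_left₀ hμ]

theorem Semi.pow {g : Equiv.Perm V} {σ : F ≃+* F} {μ : F} (h : Semi f g σ μ) (hμ : μ ≠ 0) (n : ℕ) :
    ∃ ν, ν ≠ 0 ∧ Semi f (g ^ n) (σ ^ n) ν := by
  induction n with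
  | zero => exact ⟨1, one_ne_zero, by rw [pow_zero, pow_zero]; exact Semi.one⟩
  | succ n ih =>
    obtain ⟨ν, hν, h1⟩ := ih
    refine ⟨ν * (σ ^ n) μ, mul_ne_zero hν ?_, ?_⟩
    · exact fun h0 => hμ ((map_eq_zero _).1 h0)
    · rw [pow_succ, pow_succ]
      exact h1.mul h

theorem Semi.pow_lin {g : Equiv.Perm V} {μ : F} (h : Semi f g 1 μ) (n : ℕ) : Semi f (g ^ n) 1 (μ ^ n) := by
  induction n with
  | zero => rw [pow_zero, pow_zero]; exact Semi.one
  | succ n ih =>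
    rw [pow_succ, pow_succ]
    have := ih.mul h
    rwa [mul_one] at this

/-- the pair of cosets `(δ, 1)`, `(μ, σ)` lifts to a pair generating at least `Sp` -/
def LiftP (f : V → V → F) (δ : F) (σ : F ≃+* F) (μ : F) : Prop :=
  ∃ h y : Equiv.Perm V, Semi f h 1 δ ∧ Semi f y σ μ ∧ ∀ g : Equiv.Perm V, Semi f g 1 1 → g ∈ closure ({h, y} : Set (Equiv.Perm V))

/-- from generation inside the ambient group -/
theorem twoGen_of_le {X : Type*} [Group X] {S : Subgroup X} {a b : X} (ha : a ∈ S) (hb : b ∈ S)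
    (h : S ≤ closure ({a, b} : Set X)) : TwoGen ↥S :=
  Cfsg.Agent.H136.TwoGen.of_ambient S ⟨a, b, ha, hb, h⟩

variable (H : Subgroup (Equiv.Perm V))

/-- the multipliers of the linear elements of `H` -/
def mults (f : V → V → F) (H : Subgroup (Equiv.Perm V)) : Subgroup Fˣ where
  carrier := {δ | ∃ g ∈ H, Semi f g 1 (δ : F)}
  mul_mem' := by
    rintro a b ⟨g, hg, h⟩ ⟨g', hg', h'⟩
    exact ⟨g * g', H.mul_mem hg hg', by
      have := h.mul h'
      rwa [mul_one] at this⟩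
  one_mem' := ⟨1, H.one_mem, by
    rw [Units.val_one]
    exact Semi.one⟩
  inv_mem' := by
    rintro a ⟨g, hg, h⟩
    refine ⟨g⁻¹, H.inv_mem hg, ?_⟩
    have := h.inv a.ne_zero
    rw [inv_one] at this
    have e : ((a⁻¹ : Fˣ) : F) = (1 : F ≃+* F) (a : F)⁻¹ := by
      rw [Units.val_inv_eq_inv_val]
      rfl
    rw [e]
    exact this

/-- the field automorphisms of the elements of `H` -/
def auts (f : V → V → F) (H : Subgroup (Equiv.Perm V)) : Subgroup (F ≃+* F) where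
  carrier := {σ | ∃ g ∈ H, ∃ μ : F, μ ≠ 0 ∧ Semi f g σ μ}
  mul_mem' := by
    rintro a b ⟨g, hg, μ, hμ, h⟩ ⟨g', hg', μ', hμ', h'⟩
    exact ⟨g * g', H.mul_mem hg hg', _, mul_ne_zero hμ (fun h0 => hμ' ((map_eq_zero _).1 h0)), h.mul h'⟩
  one_mem' := ⟨1, H.one_mem, 1, one_ne_zero, Semi.one⟩
  inv_mem' := by
    rintro a ⟨g, hg, μ, hμ, h⟩
    exact ⟨g⁻¹, H.inv_mem hg, _, (fun h0 => inv_ne_zero hμ ((map_eq_zero _).1 h0)), h.inv hμ⟩

variable {H}

/-- **2-generation from the lifting property**, general version. -/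
theorem twoGen_of_lift [Finite F] (hSp : ∀ g : Equiv.Perm V, Semi f g 1 1 → g ∈ H)
    (hH : ∀ g ∈ H, ∃ (σ : F ≃+* F) (μ : F), μ ≠ 0 ∧ Semi f g σ μ)
    (hL : ∀ (δ : F) (σ : F ≃+* F) (μ : F), δ ≠ 0 → μ ≠ 0 → LiftP f δ σ μ) : TwoGen ↥H := by
  have hc : IsCyclic (F ≃+* F) := Cfsg.Agent.LieRecognition.FieldSemilinear.isCyclic_ringAut F
  have hfin : Finite (F ≃+* F) := DFunLike.finite _
  obtain ⟨⟨δ, hδ⟩, hgen⟩ := IsCyclic.exists_generator (α := ↥(mults f H))
  obtain ⟨⟨σ, hσ⟩, hgen'⟩ := IsCyclic.exists_generator (α := ↥(auts f H))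
  obtain ⟨g₁, hg₁, h₁⟩ := hδ
  obtain ⟨g₂, hg₂, μ, hμ, h₂⟩ := hσ
  obtain ⟨h, y, hh, hy, hle⟩ := hL δ σ μ δ.ne_zero hμ
  have hhH : h ∈ H := by
    have h3 := h₁.mul (hh.inv δ.ne_zero)
    have h4 : Semi f (g₁ * h⁻¹) 1 1 := by
      have e : (δ : F) * (1 : F ≃+* F) ((1 : F ≃+* F)⁻¹ (δ : F)⁻¹) = 1 := mul_inv_cancel₀ δ.ne_zero
      rw [e] at h3
      exact h3
    have h5 := H.mul_mem (H.inv_mem (hSp _ h4)) hg₁
    rwa [mul_inv_rev, inv_inv, inv_mul_cancel_right] at h5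
  have hyH : y ∈ H := by
    have h3 := h₂.mul (hy.inv hμ)
    have h4 : Semi f (g₂ * y⁻¹) 1 1 := by
      have e : μ * σ (σ⁻¹ μ⁻¹) = 1 := by
        have : σ (σ⁻¹ μ⁻¹) = μ⁻¹ := σ.apply_symm_apply _
        rw [this, mul_inv_cancel₀ hμ]
      rw [e, mul_inv_cancel] at h3
      exact h3
    have h5 := H.mul_mem (H.inv_mem (hSp _ h4)) hg₂
    rwa [mul_inv_rev, inv_inv, inv_mul_cancel_right] at h5
  refine twoGen_of_le hhH hyH ?_
  intro g hg
  set C := closure ({h, y} : Set (Equiv.Perm V)) with hC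
  have hhC : h ∈ C := subset_closure (by simp)
  have hyC : y ∈ C := subset_closure (by simp)
  -- remove the field automorphism
  obtain ⟨σ', μ', hμ', hg'⟩ := hH g hg
  obtain ⟨n, hn⟩ := (mem_powers_iff_mem_zpowers (x := (⟨σ, ⟨g₂, hg₂, μ, hμ, h₂⟩⟩ : ↥(auts f H)))).2
    (hgen' ⟨σ', ⟨g, hg, μ', hμ', hg'⟩⟩)
  have hn' : σ ^ n = σ' := congrArg Subtype.val hn
  obtain ⟨ν, hν, hyn⟩ := hy.pow hμ n
  have h6 := hg'.mul (hyn.inv hν)
  rw [hn', mul_inv_cancel] at h6
  set κ := μ' * σ' (σ'⁻¹ ν⁻¹) with hκ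
  have hκ0 : κ ≠ 0 := by
    have : σ' (σ'⁻¹ ν⁻¹) = ν⁻¹ := σ'.apply_symm_apply _
    rw [hκ, this]
    exact mul_ne_zero hμ' (inv_ne_zero hν)
  have h7 : g * (y ^ n)⁻¹ ∈ H := H.mul_mem hg (H.inv_mem (H.pow_mem hyH n))
  obtain ⟨l, hl⟩ := (mem_powers_iff_mem_zpowers (x := (⟨δ, ⟨g₁, hg₁, h₁⟩⟩ : ↥(mults f H)))).2
    (hgen ⟨Units.mk0 κ hκ0, ⟨_, h7, h6⟩⟩)
  have hl' : (δ : F) ^ l = κ := by
    have := congrArg (fun x : ↥(mults f H) => ((x : Fˣ) : F)) hl
    simpa using this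
  have h8 := h6.mul ((hh.pow_lin l).inv (pow_ne_zero l δ.ne_zero))
  have h9 : Semi f (g * (y ^ n)⁻¹ * (h ^ l)⁻¹) 1 1 := by
    have e : κ * (1 : F ≃+* F) ((1 : F ≃+* F)⁻¹ ((δ : F) ^ l)⁻¹) = 1 := by
      rw [hl']
      exact mul_inv_cancel₀ hκ0
    rw [e] at h8
    exact h8
  have h10 := C.mul_mem (C.mul_mem (hle _ h9) (C.pow_mem hhC l)) (C.pow_mem hyC n)
  rwa [inv_mul_cancel_right, inv_mul_cancel_right] at h10

/-- **2-generation from the lifting property**, prime fields. -/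
theorem twoGen_of_lift_prime [Finite F] (hF : ∀ σ : F ≃+* F, σ = 1) (hSp : ∀ g : Equiv.Perm V, Semi f g 1 1 → g ∈ H)
    (hH : ∀ g ∈ H, ∃ (σ : F ≃+* F) (μ : F), μ ≠ 0 ∧ Semi f g σ μ)
    (hL : ∀ μ : F, μ ≠ 0 → LiftP f 1 1 μ) : TwoGen ↥H := by
  obtain ⟨⟨δ, hδ⟩, hgen⟩ := IsCyclic.exists_generator (α := ↥(mults f H))
  obtain ⟨g₁, hg₁, h₁⟩ := hδ
  obtain ⟨h, y, hh, hy, hle⟩ := hL δ δ.ne_zero
  have hhH : h ∈ H := hSp h hh
  have hyH : y ∈ H := by
    have h3 := h₁.mul (hy.inv δ.ne_zero)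
    have h4 : Semi f (g₁ * y⁻¹) 1 1 := by
      have e : (δ : F) * (1 : F ≃+* F) ((1 : F ≃+* F)⁻¹ (δ : F)⁻¹) = 1 := mul_inv_cancel₀ δ.ne_zero
      rw [e] at h3
      exact h3
    have h5 := H.mul_mem (H.inv_mem (hSp _ h4)) hg₁
    rwa [mul_inv_rev, inv_inv, inv_mul_cancel_right] at h5
  refine twoGen_of_le hhH hyH ?_
  intro g hg
  set C := closure ({h, y} : Set (Equiv.Perm V)) with hC
  have hyC : y ∈ C := subset_closure (by simp)
  obtain ⟨σ', μ', hμ', hg'⟩ := hH g hg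
  rw [hF σ'] at hg'
  obtain ⟨l, hl⟩ := (mem_powers_iff_mem_zpowers (x := (⟨δ, ⟨g₁, hg₁, h₁⟩⟩ : ↥(mults f H)))).2
    (hgen ⟨Units.mk0 μ' hμ', ⟨_, hg, hg'⟩⟩)
  have hl' : (δ : F) ^ l = μ' := by
    have := congrArg (fun x : ↥(mults f H) => ((x : Fˣ) : F)) hl
    simpa using this
  have h8 := hg'.mul ((hy.pow_lin l).inv (pow_ne_zero l δ.ne_zero))
  have h9 : Semi f (g * (y ^ l)⁻¹) 1 1 := by
    have e : μ' * (1 : F ≃+* F) ((1 : F ≃+* F)⁻¹ ((δ : F) ^ l)⁻¹) = 1 := by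
      rw [hl']
      exact mul_inv_cancel₀ hμ'
    rw [e] at h8
    exact h8
  have h10 := C.mul_mem (hle _ h9) (C.pow_mem hyC l)
  rwa [inv_mul_cancel_right] at h10

end

/-! ### The calculus of Siegel transformations -/

section siegel

variable {F V : Type*} [Field F] [AddCommGroup V] [Module F V] {f : LinearMap.BilinForm F V}

/-- the form as a function -/
def fn (f : LinearMap.BilinForm F V) : V → V → F := fun u v => f u v

/-- the Siegel transformation -/
def T (f : LinearMap.BilinForm F V) (u w v : V) : V := v + f v u • w + f v w • u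

/-- the transvection -/
def t (f : LinearMap.BilinForm F V) (c : F) (u v : V) : V := v + (c * f v u) • u

theorem T_comm (u w v : V) : T f u w v = T f w u v := by
  simp only [T]
  abel

theorem T_smul (c : F) (u w v : V) : T f (c • u) w v = T f u (c • w) v := by
  simp only [T, map_smul, smul_smul, smul_eq_mul, mul_comm c]

theorem t_smul (c a : F) (u v : V) : t f c (a • u) v = t f (a ^ 2 * c) u v := by
  simp only [t, map_smul, smul_smul, smul_eq_mul]
  congr 2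
  ring

/-- `C` contains an element acting as `φ` -/
def Has (C : Subgroup (Equiv.Perm V)) (φ : V → V) : Prop := ∃ g ∈ C, ∀ v, g v = φ v

section has

omit [AddCommGroup V]

variable {C : Subgroup (Equiv.Perm V)} {φ ψ χ : V → V}

theorem Has.congr (h : Has C φ) (e : ∀ v, φ v = ψ v) : Has C ψ := by
  obtain ⟨g, hg, h⟩ := h
  exact ⟨g, hg, fun v => (h v).trans (e v)⟩

theorem Has.mul (h : Has C φ) (h' : Has C ψ) (e : ∀ v, φ (ψ v) = χ v) : Has C χ := by
  obtain ⟨g, hg, h⟩ := h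
  obtain ⟨g', hg', h'⟩ := h'
  refine ⟨g * g', C.mul_mem hg hg', fun v => ?_⟩
  show g (g' v) = χ v
  rw [h', h, e]

theorem Has.one (e : ∀ v, φ v = v) : Has C φ := ⟨1, C.one_mem, fun v => (e v).symm⟩

/-- `χ ∘ ψ = φ` -/
theorem Has.div (h : Has C φ) (h' : Has C ψ) (e : ∀ v, χ (ψ v) = φ v) : Has C χ := by
  obtain ⟨g, hg, h⟩ := h
  obtain ⟨g', hg', h'⟩ := h'
  refine ⟨g * g'⁻¹, C.mul_mem hg (C.inv_mem hg'), fun v => ?_⟩
  show g (g'⁻¹ v) = χ v
  have e1 : g' (g'⁻¹ v) = v := Equiv.apply_symm_apply g' v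
  rw [h, ← e, ← h', e1]

/-- `ψ ∘ χ = φ` -/
theorem Has.div' (h : Has C φ) (h' : Has C ψ) (e : ∀ v, ψ (χ v) = φ v) : Has C χ := by
  obtain ⟨g, hg, h⟩ := h
  obtain ⟨g', hg', h'⟩ := h'
  refine ⟨g'⁻¹ * g, C.mul_mem (C.inv_mem hg') hg, fun v => ?_⟩
  show g'⁻¹ (g v) = χ v
  rw [h, ← e, ← h']
  exact Equiv.symm_apply_apply g' _

end has

theorem T_add (hf : f.IsAlt) {u w w' : V} (h : f u w = 0) (h' : f u w' = 0) (v : V) :
    T f u w (T f u w' v) = t f (f w' w) u (T f u (w + w') v) := by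
  have hs : ∀ x y, f x y = - f y x := fun x y => (hf.neg_eq y x).symm ▸ rfl
  have h1 : f w' u = 0 := by rw [hs, h', neg_zero]
  have h2 : f w u = 0 := by rw [hs, h, neg_zero]
  have h3 : f u u = 0 := hf u
  simp only [T, t, map_add, map_smul, LinearMap.add_apply, LinearMap.smul_apply, smul_eq_mul, h, h', h1, h2, h3]
  module

/-- all transvections with centre `u` are in `C` -/
def X (f : LinearMap.BilinForm F V) (C : Subgroup (Equiv.Perm V)) (u : V) : Prop := ∀ c : F, Has C (t f c u)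

/-- all Siegel transformations with `u`, `c w` are in `C` -/
def TT (f : LinearMap.BilinForm F V) (C : Subgroup (Equiv.Perm V)) (u w : V) : Prop := ∀ c : F, Has C (T f u (c • w))

variable {C : Subgroup (Equiv.Perm V)} {g : Equiv.Perm V} {σ : F ≃+* F} {μ : F} {u w x : V}

theorem t_conj (h : Semi (fn f) g σ μ) (hμ : μ ≠ 0) (c : F) (u v : V) :
    g (t f c u v) = t f (μ⁻¹ * σ c) (g u) (g v) := by
  have h1 : f (g v) (g u) = μ * σ (f v u) := h.form v u
  simp only [t]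
  rw [h.add, h.smul, h1, map_mul]
  congr 2
  field_simp

theorem T_conj (h : Semi (fn f) g σ μ) (hμ : μ ≠ 0) (u w v : V) :
    g (T f u w v) = T f (μ⁻¹ • g u) (g w) (g v) := by
  have h1 : f (g v) (g u) = μ * σ (f v u) := h.form v u
  have h2 : f (g v) (g w) = μ * σ (f v w) := h.form v w
  simp only [T]
  rw [h.add, h.add, h.smul, h.smul, map_smul, h1, h2, smul_eq_mul, inv_mul_cancel_left₀ hμ, smul_smul,
    mul_right_comm, mul_inv_cancel₀ hμ, one_mul]

theorem Has.conj {φ ψ : V → V} (h : Has C φ) (hg : g ∈ C) (e : ∀ v, g (φ v) = ψ (g v)) : Has C ψ := by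
  obtain ⟨k, hk, h⟩ := h
  refine ⟨g * k * g⁻¹, C.mul_mem (C.mul_mem hg hk) (C.inv_mem hg), fun v => ?_⟩
  show g (k (g⁻¹ v)) = ψ v
  have e1 : g (g⁻¹ v) = v := Equiv.apply_symm_apply g v
  rw [h, e, e1]

theorem X.map (h : X f C u) (hg : g ∈ C) (hs : Semi (fn f) g σ μ) (hμ : μ ≠ 0) : X f C (g u) := by
  intro c
  refine (h (σ.symm (μ * c))).conj hg fun v => ?_
  rw [t_conj hs hμ, RingEquiv.apply_symm_apply, inv_mul_cancel_left₀ hμ]

theorem X.of_map (hg : g ∈ C) (hs : Semi (fn f) g σ μ) (hμ : μ ≠ 0) (h : X f C (g u)) : X f C u := by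
  have h1 := h.map (C.inv_mem hg) (hs.inv hμ) (by
    intro h0
    exact inv_ne_zero hμ ((map_eq_zero _).1 h0))
  have e : g⁻¹ (g u) = u := Equiv.symm_apply_apply g u
  rwa [e] at h1

theorem X.smul (h : X f C u) (a : F) : X f C (a • u) := fun c => (h (a ^ 2 * c)).congr fun v => (t_smul c a u v).symm

theorem TT.map (h : TT f C u w) (hg : g ∈ C) (hs : Semi (fn f) g σ μ) (hμ : μ ≠ 0) : TT f C (g u) (g w) := by
  intro c
  refine (h (σ.symm (μ * c))).conj hg fun v => ?_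
  rw [T_conj hs hμ, hs.smul, RingEquiv.apply_symm_apply, T_smul, smul_smul, inv_mul_cancel_left₀ hμ]

theorem TT.symm (h : TT f C u w) : TT f C w u := fun c => (h c).congr fun v => by
  rw [← T_smul, T_comm]

theorem TT.smul (h : TT f C u w) (a : F) : TT f C u (a • w) := fun c => by
  have := h (c * a)
  rwa [mul_smul] at this

theorem TT.smul_left (h : TT f C u w) (a : F) : TT f C (a • u) w := (h.symm.smul a).symm

theorem TT.of_smul {a : F} (ha : a ≠ 0) (h : TT f C u (a • w)) : TT f C u w := by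
  have := h.smul a⁻¹
  rwa [inv_smul_smul₀ ha] at this

theorem TT.one (h : TT f C u w) : Has C (T f u w) := by
  have := h 1
  rwa [one_smul] at this

theorem TT.add (hf : f.IsAlt) {w' : V} (hX : X f C u) (h0 : f u w = 0) (h0' : f u w' = 0) (h : TT f C u w)
    (h' : TT f C u w') : TT f C u (w + w') := by
  intro c
  have h1 : f u (c • w) = 0 := by rw [map_smul, h0, smul_zero]
  have h2 : f u (c • w') = 0 := by rw [map_smul, h0', smul_zero]
  have h3 : Has C (fun v => t f (f (c • w') (c • w)) u (T f u (c • w + c • w') v)) :=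
    (h c).mul (h' c) fun v => T_add hf h1 h2 v
  rw [smul_add]
  exact h3.div' (hX _) fun v => rfl

theorem semi_T (hf : f.IsAlt) (h0 : f u w = 0) (hg : ∀ v, g v = T f u w v) : Semi (fn f) g 1 1 where
  add a b := by
    simp only [hg, T, map_add, LinearMap.add_apply]
    module
  smul c a := by
    simp only [hg, T, map_smul, LinearMap.smul_apply]
    show _ = c • _
    module
  form a b := by
    have h1 : f w u = 0 := by rw [← hf.neg_eq, h0, neg_zero]
    have h2 : f u u = 0 := hf u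
    have h3 : f w w = 0 := hf w
    have h4 : f u b = - f b u := (hf.neg_eq b u).symm
    have h5 : f w b = - f b w := (hf.neg_eq b w).symm
    show f (g a) (g b) = 1 * f a b
    simp only [hg, T, map_add, LinearMap.add_apply, map_smul, LinearMap.smul_apply, smul_eq_mul, h0, h1, h2, h3, h4, h5]
    ring

theorem semi_t (hf : f.IsAlt) {c : F} (hg : ∀ v, g v = t f c u v) : Semi (fn f) g 1 1 where
  add a b := by
    simp only [hg, t, map_add, LinearMap.add_apply]
    module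
  smul c a := by
    simp only [hg, t, map_smul, LinearMap.smul_apply]
    show _ = c • _
    module
  form a b := by
    have h2 : f u u = 0 := hf u
    have h4 : f u b = - f b u := (hf.neg_eq b u).symm
    show f (g a) (g b) = 1 * f a b
    simp only [hg, t, map_add, LinearMap.add_apply, map_smul, LinearMap.smul_apply, smul_eq_mul, h2, h4]
    ring

theorem X.mapT (hf : f.IsAlt) (h : X f C x) (hT : Has C (T f u w)) (h0 : f u w = 0) : X f C (T f u w x) := by
  obtain ⟨g, hg, h1⟩ := hT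
  rw [← h1]
  exact h.map hg (semi_T hf h0 h1) one_ne_zero

theorem X.of_mapT (hf : f.IsAlt) (hT : Has C (T f u w)) (h0 : f u w = 0) (h : X f C (T f u w x)) : X f C x := by
  obtain ⟨g, hg, h1⟩ := hT
  rw [← h1] at h
  exact h.of_map hg (semi_T hf h0 h1) one_ne_zero

theorem X.mapt (hf : f.IsAlt) (h : X f C x) {c : F} (hT : Has C (t f c u)) : X f C (t f c u x) := by
  obtain ⟨g, hg, h1⟩ := hT
  rw [← h1]
  exact h.map hg (semi_t hf h1) one_ne_zero

end siegel

end Cfsg.Agent.H484.GenSp
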