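import Cfsg.Agent.H484.GenSpTorus

/-!
# Semisimilarities: the lifting property (TEAM GEN, helper484)
-/

set_option autoImplicit false

namespace Cfsg.Agent.H484.GenSp

open Cfsg Cfsg.Agent.H137.SpModel Cfsg.Agent.H137 Subgroup Cfsg.Agent.ClassicalGeometry.SympBasic
open scoped Matrix

variable {F K : Type*} [Field F] [Field K] [Algebra F K]

local notation "tr" => Algebra.trace F K

/-- extension of a field automorphism -/
theorem exists_tau [Finite K] (σ : F ≃+* F) : ∃ τ : K ≃+* K, (∀ (c : F) (z : K), τ (c • z) = σ c • τ z) ∧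
    ∀ z : K, tr (τ z) = σ (tr z) := by
  have : Finite F := Finite.of_injective (algebraMap F K) (algebraMap F K).injective
  obtain ⟨p, hp⟩ := CharP.exists F
  have hpp : Fact p.Prime := ⟨CharP.char_is_prime F p⟩
  have hpK : CharP K p := charP_of_injective_algebraMap (algebraMap F K).injective p
  let _ : Algebra (ZMod p) F := ZMod.algebra F p
  let _ : Algebra (ZMod p) K := ZMod.algebra K p
  have : IsScalarTower (ZMod p) F K := IsScalarTower.of_algebraMap_eq' (Subsingleton.elim _ _)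
  have hσ : ∀ x : ZMod p, σ (algebraMap (ZMod p) F x) = algebraMap (ZMod p) F x := by
    intro x
    have : (σ : F →+* F).comp (algebraMap (ZMod p) F) = algebraMap (ZMod p) F := Subsingleton.elim _ _
    exact RingHom.congr_fun this x
  let χ : F ≃ₐ[ZMod p] F := AlgEquiv.ofRingEquiv (f := σ) hσ
  let τ : K ≃+* K := (χ.liftNormal K).toRingEquiv
  have hτ : ∀ c : F, τ (algebraMap F K c) = algebraMap F K (σ c) := fun c => χ.liftNormal_commutes K c
  refine ⟨τ, fun c z => by rw [Algebra.smul_def, Algebra.smul_def, map_mul, hτ], fun z => ?_⟩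
  have h := Algebra.trace_eq_of_equiv_equiv σ τ (by
    ext c
    exact (hτ c).symm) z
  rw [h, RingEquiv.apply_symm_apply]

/-- a parameter for the first generator -/
theorem exists_a {g : Kˣ} (hg : ∀ x : Kˣ, x ∈ Subgroup.zpowers g) (u : Kˣ) :
    ∃ a : Kˣ, u * (a * a) = g ∨ u * (a * a) = g ^ 2 := by
  obtain ⟨k, hk⟩ := Subgroup.mem_zpowers_iff.1 (hg u)
  rcases Int.even_or_odd' k with ⟨j, hj | hj⟩
  · refine ⟨g ^ (1 - j), Or.inr ?_⟩
    rw [← hk, ← zpow_add, ← zpow_add, ← zpow_natCast]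
    congr 1
    rw [hj]
    push_cast
    ring
  · refine ⟨g ^ (-j), Or.inl ?_⟩
    rw [← hk, ← zpow_add, ← zpow_add]
    conv_rhs => rw [← zpow_one g]
    congr 1
    rw [hj]
    ring

theorem semi_PU (z : K) : Semi (fn (BL F K)) (PU z) 1 1 :=
  semi_T BL_alt (by simp [BL_apply, ee, kx]) (PU_apply z)

/-- the parameters of the first generator -/
theorem exists_param [Finite K] {g : Kˣ} (hg : ∀ x : Kˣ, x ∈ Subgroup.zpowers g) (δ : Fˣ)
    (hK : 3 < Nat.card K ∨ Nat.card K = 3 ∧ δ = 1) :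
    ∃ a : Kˣ, (-((δ : F)⁻¹ • ((a : K) * a)) = g ∨ -((δ : F)⁻¹ • ((a : K) * a)) = (g : K) ^ 2) ∧
      -((δ : F)⁻¹ • ((a : K) * a)) ≠ 1 := by
  have hord : orderOf g = Nat.card K - 1 := by
    rw [orderOf_eq_card_of_forall_mem_zpowers hg, Nat.card_units]
  rcases hK with hK | ⟨hK, rfl⟩
  · let u : Kˣ := -(Units.map (algebraMap F K : F →* K) δ)⁻¹
    obtain ⟨a, ha⟩ := exists_a hg u
    have e : -((δ : F)⁻¹ • ((a : K) * a)) = ((u * (a * a) : Kˣ) : K) := by
      simp [u, Algebra.smul_def]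
    have hg1 : g ≠ 1 := by
      rintro rfl
      rw [orderOf_one] at hord
      omega
    have hg2 : g ^ 2 ≠ 1 := by
      intro h
      have := Nat.le_of_dvd (by norm_num) (orderOf_dvd_of_pow_eq_one h)
      omega
    refine ⟨a, ?_, ?_⟩
    · rw [e]
      rcases ha with ha | ha
      · exact Or.inl (by rw [ha])
      · exact Or.inr (by rw [ha, Units.val_pow_eq_pow_val])
    · rw [e]
      intro h
      have h1 : u * (a * a) = 1 := Units.ext h
      rcases ha with ha | ha
      · exact hg1 (ha.symm.trans h1)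
      · exact hg2 (ha.symm.trans h1)
  · -- the field with three elements
    have hg1 : g ≠ 1 := by
      rintro rfl
      rw [orderOf_one] at hord
      omega
    have hg2 : g ^ 2 = 1 := by
      have := pow_orderOf_eq_one g
      rwa [hord, hK] at this
    have h3 : (g : K) = -1 := by
      have h4 : ((g : K) - 1) * ((g : K) + 1) = 0 := by
        have h5 := congrArg (fun x : Kˣ => (x : K)) hg2
        simp only [Units.val_pow_eq_pow_val, Units.val_one] at h5
        linear_combination h5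
      rcases mul_eq_zero.1 h4 with h5 | h5
      · exact absurd (Units.ext (by rw [Units.val_one]; linear_combination h5)) hg1
      · linear_combination h5
    have e : -(((1 : Fˣ) : F)⁻¹ • (((1 : Kˣ) : K) * ((1 : Kˣ) : K))) = -1 := by simp
    refine ⟨1, Or.inl (by rw [e, h3]), ?_⟩
    rw [e, ← h3]
    intro h
    exact hg1 (Units.ext h)

/-- **the pair in the model**, transvection form -/
theorem exists_pair_model [Finite K] [FiniteDimensional F K] [Algebra.IsSeparable F K] (δ μ : Fˣ) (σ : F ≃+* F)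
    (hK : 3 < Nat.card K ∨ Nat.card K = 3 ∧ δ = 1) :
    ∃ h y : Equiv.Perm (M F K), Semi (fn (BL F K)) h 1 (δ : F) ∧ Semi (fn (BL F K)) y σ (μ : F) ∧
      ∀ u : M F K, X (BL F K) (closure ({h, y} : Set (Equiv.Perm (M F K)))) u := by
  have : Finite F := Finite.of_injective (algebraMap F K) (algebraMap F K).injective
  obtain ⟨g, hg⟩ := IsCyclic.exists_generator (α := Kˣ)
  obtain ⟨τ, hτ, htr⟩ := exists_tau (K := K) σ
  obtain ⟨a, ha, ha1⟩ := exists_param hg δ hK
  obtain ⟨d, κ, hdκ, h2⟩ : ∃ d κ : Fˣ, (d : F) ^ 2 * κ = μ ∧ (κ = 1 ∨ (2 : F) ≠ 0) := by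
    by_cases h2 : (2 : F) = 0
    · have hch : ringChar F = 2 := by
        refine CharP.ringChar_of_prime_eq_zero Nat.prime_two ?_
        exact_mod_cast h2
      obtain ⟨x, hx⟩ := FiniteField.isSquare_of_char_two hch (μ : F)
      have hx0 : x ≠ 0 := by
        rintro rfl
        rw [mul_zero] at hx
        exact μ.ne_zero hx
      exact ⟨Units.mk0 x hx0, 1, by rw [hx, Units.val_mk0, Units.val_one]; ring, Or.inl rfl⟩
    · exact ⟨1, μ, by rw [Units.val_one]; ring, Or.inr h2⟩
  refine ⟨hP a δ, PU 1 * nP σ τ d κ, semi_hP a δ, ?_, ?_⟩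
  · have h := (semi_PU (F := F) (1 : K)).mul (semi_nP hτ htr d κ)
    rw [one_mul, one_mul] at h
    have e : (1 : F ≃+* F) ((d : F) ^ 2 * κ) = μ := hdκ
    rw [e] at h
    exact h
  · set C := closure ({hP a δ, PU 1 * nP σ τ d κ} : Set (Equiv.Perm (M F K)))
    obtain ⟨hX, hn⟩ := lift_core hg hτ htr (d := d) (κ := κ) ha ha1 (C := C) (subset_closure (by simp)) (subset_closure (by simp))
    refine X_all_of_n hτ htr hn (fun z c => ?_) h2
    refine ⟨PU (c • z), hX ⟨_, rfl⟩, fun v => ?_⟩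
    rw [PU_apply]
    congr 1
    simp only [kx]
    ext <;> simp

/-- all isometries from all transvections -/
theorem mem_of_X [Finite K] [FiniteDimensional F K] [Algebra.IsSeparable F K] {C : Subgroup (Equiv.Perm (M F K))}
    (hX : ∀ u : M F K, X (BL F K) C u) {g : Equiv.Perm (M F K)} (hg : Semi (fn (BL F K)) g 1 1) : g ∈ C := by
  obtain ⟨k, hk⟩ : ∃ k, Module.finrank F K = k := ⟨_, rfl⟩
  let b : Module.Basis (Fin k) F K := (Module.finBasis F K).reindex (finCongr hk)
  let N : Subgroup (Matrix.symplecticGroup (Fin (k + 1)) F) :=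
    { carrier := {A | ∃ x ∈ C, ∀ v, Phi b (A.1 *ᵥ v) = x (Phi b v)}
      mul_mem' := by
        rintro A A' ⟨x, hx, h⟩ ⟨x', hx', h'⟩
        refine ⟨x * x', C.mul_mem hx hx', fun v => ?_⟩
        show Phi b ((A.1 * A'.1) *ᵥ v) = x (x' (Phi b v))
        rw [← Matrix.mulVec_mulVec, h, h']
      one_mem' := ⟨1, C.one_mem, fun v => by
        show Phi b ((1 : Matrix _ _ F) *ᵥ v) = Phi b v
        rw [Matrix.one_mulVec]⟩
      inv_mem' := by
        rintro A ⟨x, hx, h⟩
        refine ⟨x⁻¹, C.inv_mem hx, fun v => ?_⟩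
        apply x.injective
        have e1 : x (x⁻¹ (Phi b v)) = Phi b v := Equiv.apply_symm_apply x _
        have e2 : A.1 * (A⁻¹).1 = 1 := congrArg Subtype.val (mul_inv_cancel A)
        rw [e1, ← h, Matrix.mulVec_mulVec, e2, Matrix.one_mulVec] }
  have hN : N = ⊤ := by
    rw [eq_top_iff, ← Cfsg.Agent.S0765.result, Subgroup.closure_le]
    rintro A ⟨w, c, hA⟩
    obtain ⟨x, hx, h⟩ := hX (Phi b w) c
    refine ⟨x, hx, fun v => ?_⟩
    rw [h, hA, sympTransvection_mulVec, map_add, map_smul]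
    show _ = Phi b v + (c * BL F K (Phi b v) (Phi b w)) • Phi b w
    have e : BL F K (Phi b v) (Phi b w) = sympForm (k + 1) F v w := B_Phi b v w
    rw [e]
  let g' : M F K ≃ₗ[F] M F K :=
    { toFun := g
      invFun := g.symm
      map_add' := hg.add
      map_smul' := hg.smul
      left_inv := g.left_inv
      right_inv := g.right_inv }
  have hg' : g' ∈ Sp F K := by
    intro u v
    have := hg.form u v
    rw [one_mul] at this
    exact this
  have h1 : psi b ⟨g', hg'⟩ ∈ N := by rw [hN]; exact mem_top _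
  obtain ⟨x, hx, h⟩ := h1
  have e : g = x := by
    ext1 v
    have h2 := h ((Phi b).symm v)
    rw [psi_mulVec, LinearEquiv.apply_symm_apply, LinearEquiv.apply_symm_apply] at h2
    exact h2
  rw [e]
  exact hx

/-- **the lifting property of the model** -/
theorem liftP_model [Finite K] [FiniteDimensional F K] [Algebra.IsSeparable F K] {δ μ : F} (hδ : δ ≠ 0) (hμ : μ ≠ 0)
    (σ : F ≃+* F) (hK : 3 < Nat.card K ∨ Nat.card K = 3 ∧ δ = 1) : LiftP (fn (BL F K)) δ σ μ := by
  obtain ⟨h, y, h1, h2, h3⟩ := exists_pair_model (K := K) (Units.mk0 δ hδ) (Units.mk0 μ hμ) σ (by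
    rcases hK with hK | ⟨hK, rfl⟩
    · exact Or.inl hK
    · exact Or.inr ⟨hK, Units.ext rfl⟩)
  exact ⟨h, y, h1, h2, fun g hg => mem_of_X h3 hg⟩

end Cfsg.Agent.H484.GenSp
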