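import Cfsg.Agent.H484.GenSpCalc
import Cfsg.Agent.H137.SpTransfer

/-!
# Semisimilarities: the model `K × K × F × F` (TEAM GEN, helper484)

The pair `h = (a x, δ a⁻¹ y, -δ q, p)`, `y = U(1) n`, `n = d (-κ τ y, τ x, -κ σ q, σ p - σ q)` generates a group containing
all transvections.
-/

set_option autoImplicit false

namespace Cfsg.Agent.H484.GenSp

open Cfsg.Agent.H137.SpModel Cfsg.Agent.H137 Subgroup

variable {F K : Type*} [Field F] [Field K] [Algebra F K]

local notation "tr" => Algebra.trace F K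

/-- the form of the model -/
noncomputable def BL (F K : Type*) [Field F] [Field K] [Algebra F K] : LinearMap.BilinForm F (M F K) :=
  LinearMap.mk₂ F B
    (by intro u u' v; simp only [B_def, Prod.fst_add, Prod.snd_add, add_mul, mul_add, map_add]; ring)
    (by intro c u v; simp only [B_def, Prod.smul_fst, Prod.smul_snd, smul_mul_assoc, mul_smul_comm, map_smul,
          smul_eq_mul]; ring)
    (by intro u v v'; simp only [B_def, Prod.fst_add, Prod.snd_add, add_mul, mul_add, map_add]; ring)
    (by intro c u v; simp only [B_def, Prod.smul_fst, Prod.smul_snd, smul_mul_assoc, mul_smul_comm, map_smul,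
          smul_eq_mul]; ring)

theorem BL_apply (u v : M F K) : BL F K u v =
    tr (u.1 * v.2.1) - tr (v.1 * u.2.1) + u.2.2.1 * v.2.2.2 - u.2.2.2 * v.2.2.1 := rfl

theorem BL_alt : (BL F K).IsAlt := by
  intro v
  rw [BL_apply, mul_comm v.2.2.1]
  ring

/-- first copy of `K` -/
def kx (F : Type*) {K : Type*} [Field F] [Field K] [Algebra F K] (z : K) : M F K := (z, 0, 0, 0)

/-- second copy of `K` -/
def ky (F : Type*) {K : Type*} [Field F] [Field K] [Algebra F K] (z : K) : M F K := (0, z, 0, 0)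

/-- the plane -/
def ee {F : Type*} (K : Type*) [Field F] [Field K] [Algebra F K] (a b : F) : M F K := (0, 0, a, b)

section all

variable {C : Subgroup (Equiv.Perm (M F K))}

/-- **all transvections** from the Siegel transformations -/
theorem X_all [FiniteDimensional F K] [Algebra.IsSeparable F K]
    (hE1 : ∀ (a b : F) (z : K), TT (BL F K) C (ee K a b) (kx F z))
    (hE2 : ∀ (a b : F) (z : K), TT (BL F K) C (ee K a b) (ky F z))
    (hX1 : ∀ z : K, X (BL F K) C (kx F z)) (u : M F K) : X (BL F K) C u := by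
  have hf := BL_alt (F := F) (K := K)
  have h01 : ∀ (a b : F) (z : K), BL F K (ee K a b) (kx F z) = 0 := by
    intro a b z
    simp [BL_apply, ee, kx]
  have h02 : ∀ (a b : F) (z : K), BL F K (ee K a b) (ky F z) = 0 := by
    intro a b z
    simp [BL_apply, ee, ky]
  obtain ⟨z0, hz0⟩ := Algebra.trace_surjective F K 1
  have hdet : ∀ a b : F, (a, b) ≠ (0, 0) → ∃ a' b' : F, a * b' - b * a' = 1 := by
    intro a b hab
    by_cases ha : a = 0
    · have hb : b ≠ 0 := by
        rintro rfl
        exact hab (by rw [ha])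
      exact ⟨-b⁻¹, 0, by field_simp; ring⟩
    · exact ⟨0, a⁻¹, by field_simp; ring⟩
  have hX2 : ∀ a b : F, (a, b) ≠ (0, 0) → X (BL F K) C (ee K a b) := by
    intro a b hab
    obtain ⟨a', b', h1⟩ := hdet a b hab
    have h2 := (hX1 1).mapT hf (hE2 a b z0).one (h02 a b z0)
    have e2 : T (BL F K) (ee K a b) (ky F z0) (kx F 1) = ((1, 0, a, b) : M F K) := by
      simp only [T, BL_apply, ee, kx, ky]
      ext <;> simp [hz0]
    rw [e2] at h2
    have h3 := h2.mapT hf (hE1 a' b' (-1)).one (h01 a' b' _)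
    have e3 : T (BL F K) (ee K a' b') (kx F (-1)) ((1, 0, a, b) : M F K) = ee K a b := by
      simp only [T, BL_apply, ee, kx]
      ext
      · simp [h1]
      · simp
      · simp
      · simp
    rwa [e3] at h3
  have hX3 : ∀ (x y : K) (a b : F), (a, b) ≠ (0, 0) → X (BL F K) C ((x, y, a, b) : M F K) := by
    intro x y a b hab
    obtain ⟨a', b', h1⟩ := hdet a b hab
    have h2 := (hX2 a b hab).mapT hf (hE1 a' b' x).one (h01 a' b' x)
    have e2 : T (BL F K) (ee K a' b') (kx F x) (ee K a b) = ((x, 0, a, b) : M F K) := by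
      simp only [T, BL_apply, ee, kx]
      ext
      · simp [h1]
      · simp
      · simp
      · simp
    rw [e2] at h2
    have h3 := h2.mapT hf (hE2 a' b' y).one (h02 a' b' y)
    have e3 : T (BL F K) (ee K a' b') (ky F y) ((x, 0, a, b) : M F K) =
        ((x, y, a + tr (x * y) * a', b + tr (x * y) * b') : M F K) := by
      simp only [T, BL_apply, ee, ky]
      ext
      · simp
      · simp [h1]
      · simp
      · simp
    rw [e3] at h3
    have hab' : (a', b') ≠ (0, 0) := by
      intro h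
      rw [Prod.mk.injEq] at h
      rw [h.1, h.2] at h1
      simp at h1
    have h4 := h3.mapt hf (hX2 a' b' hab' (-tr (x * y)))
    have e4 : t (BL F K) (-tr (x * y)) (ee K a' b') ((x, y, a + tr (x * y) * a', b + tr (x * y) * b') : M F K) =
        ((x, y, a, b) : M F K) := by
      have e5 : BL F K ((x, y, a + tr (x * y) * a', b + tr (x * y) * b') : M F K) (ee K a' b') = 1 := by
        simp only [BL_apply, ee]
        simp only [mul_zero, zero_mul, map_zero, sub_zero, zero_add]
        linear_combination h1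
      unfold t
      rw [e5]
      simp only [ee]
      ext
      · simp
      · simp
      · simp
      · simp
    rwa [e4] at h4
  obtain ⟨x, y, a, b⟩ := u
  by_cases hab : (a, b) = (0, 0)
  · rw [Prod.mk.injEq] at hab
    obtain ⟨rfl, rfl⟩ := hab
    by_cases hy : y = 0
    · by_cases hx : x = 0
      · subst hx hy
        intro c
        refine Has.one fun v => ?_
        simp only [t]
        ext <;> simp
      · refine X.of_mapT hf (hE2 1 0 (z0 / x)).one (h02 1 0 _) ?_
        have e1 : T (BL F K) (ee K 1 0) (ky F (z0 / x)) ((x, y, 0, 0) : M F K) = ((x, y, 1, 0) : M F K) := by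
          simp only [T, BL_apply, ee, ky]
          ext
          · simp
          · simp
          · simp [mul_div_cancel₀ _ hx, hz0]
          · simp
        rw [e1]
        exact hX3 _ _ _ _ (by simp)
    · refine X.of_mapT hf (hE1 1 0 (z0 / y)).one (h01 1 0 _) ?_
      have e1 : T (BL F K) (ee K 1 0) (kx F (z0 / y)) ((x, y, 0, 0) : M F K) = ((x, y, -1, 0) : M F K) := by
        simp only [T, BL_apply, ee, kx]
        ext
        · simp
        · simp
        · simp [div_mul_cancel₀ _ hy, hz0]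
        · simp
      rw [e1]
      exact hX3 _ _ _ _ (by simp)
  · exact hX3 _ _ _ _ hab

end all

/-! ### The elements of the pair -/

/-- the first generator: multiplier `δ`, its square is a scalar times an element of the Singer cycle -/
def hP (a : Kˣ) (δ : Fˣ) : Equiv.Perm (M F K) where
  toFun v := ((a : K) * v.1, (δ : F) • (((a⁻¹ : Kˣ) : K) * v.2.1), -((δ : F) * v.2.2.2), v.2.2.1)
  invFun v := (((a⁻¹ : Kˣ) : K) * v.1, ((δ⁻¹ : Fˣ) : F) • ((a : K) * v.2.1), v.2.2.2, -(((δ⁻¹ : Fˣ) : F) * v.2.2.1))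
  left_inv v := by
    ext
    · simp
    · simp
    · simp
    · simp
  right_inv v := by
    ext
    · simp
    · simp
    · simp
    · simp

theorem hP_apply (a : Kˣ) (δ : Fˣ) (v : M F K) :
    hP a δ v = ((a : K) * v.1, (δ : F) • (((a⁻¹ : Kˣ) : K) * v.2.1), -((δ : F) * v.2.2.2), v.2.2.1) := rfl

theorem semi_hP (a : Kˣ) (δ : Fˣ) : Semi (fn (BL F K)) (hP a δ) 1 (δ : F) where
  add u v := by
    simp only [hP_apply]
    ext
    · simp [mul_add]
    · simp [mul_add]
    · simp [mul_add]; ring
    · simp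
  smul c v := by
    simp only [hP_apply]
    show _ = c • _
    ext
    · simp
    · simp [smul_smul, mul_comm]
    · simp; ring
    · simp
  form u v := by
    show BL F K _ _ = (δ : F) * BL F K u v
    have e1 : (a : K) * u.1 * (((a⁻¹ : Kˣ) : K) * v.2.1) = u.1 * v.2.1 := by
      calc _ = ((a : K) * ((a⁻¹ : Kˣ) : K)) * (u.1 * v.2.1) := by ring
        _ = _ := by simp
    have e2 : (a : K) * v.1 * (((a⁻¹ : Kˣ) : K) * u.2.1) = v.1 * u.2.1 := by
      calc _ = ((a : K) * ((a⁻¹ : Kˣ) : K)) * (v.1 * u.2.1) := by ring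
        _ = _ := by simp
    simp only [hP_apply, BL_apply, mul_smul_comm, map_smul, smul_eq_mul, e1, e2]
    ring

/-- the second generator without its unipotent part -/
def nP (σ : F ≃+* F) (τ : K ≃+* K) (d κ : Fˣ) :
    Equiv.Perm (M F K) where
  toFun v := (-(((d : F) * κ) • τ v.2.1), (d : F) • τ v.1, -((d : F) * κ * σ v.2.2.2), (d : F) * (σ v.2.2.1 - σ v.2.2.2))
  invFun w := (τ.symm (((d⁻¹ : Fˣ) : F) • w.2.1), -τ.symm ((((d⁻¹ : Fˣ) : F) * ((κ⁻¹ : Fˣ) : F)) • w.1),
    σ.symm (((d⁻¹ : Fˣ) : F) * w.2.2.2 - ((d⁻¹ : Fˣ) : F) * ((κ⁻¹ : Fˣ) : F) * w.2.2.1),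
    -σ.symm (((d⁻¹ : Fˣ) : F) * ((κ⁻¹ : Fˣ) : F) * w.2.2.1))
  left_inv v := by
    have hd := d.ne_zero
    have hκ := κ.ne_zero
    ext
    · show τ.symm _ = v.1
      rw [RingEquiv.symm_apply_eq, smul_smul, Units.inv_mul, one_smul]
    · show -τ.symm _ = v.2.1
      rw [neg_eq_iff_eq_neg, RingEquiv.symm_apply_eq, smul_neg, smul_smul, map_neg, Units.val_inv_eq_inv_val,
        Units.val_inv_eq_inv_val]
      have e : (d : F)⁻¹ * (κ : F)⁻¹ * ((d : F) * κ) = 1 := by field_simp
      rw [e, one_smul]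
    · show σ.symm _ = v.2.2.1
      rw [RingEquiv.symm_apply_eq, Units.val_inv_eq_inv_val, Units.val_inv_eq_inv_val]
      field_simp
      ring
    · show -σ.symm _ = v.2.2.2
      rw [neg_eq_iff_eq_neg, RingEquiv.symm_apply_eq, map_neg, Units.val_inv_eq_inv_val, Units.val_inv_eq_inv_val]
      field_simp
  right_inv v := by
    have hd := d.ne_zero
    have hκ := κ.ne_zero
    ext
    · show -(((d : F) * κ) • τ (-τ.symm _)) = v.1
      rw [map_neg, RingEquiv.apply_symm_apply, smul_neg, neg_neg, smul_smul, Units.val_inv_eq_inv_val,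
        Units.val_inv_eq_inv_val]
      have e : (d : F) * κ * ((d : F)⁻¹ * (κ : F)⁻¹) = 1 := by field_simp
      rw [e, one_smul]
    · show (d : F) • τ (τ.symm _) = v.2.1
      rw [RingEquiv.apply_symm_apply, smul_smul, Units.mul_inv, one_smul]
    · show -((d : F) * κ * σ (-σ.symm _)) = v.2.2.1
      rw [map_neg, RingEquiv.apply_symm_apply, Units.val_inv_eq_inv_val, Units.val_inv_eq_inv_val]
      field_simp
    · show (d : F) * (σ (σ.symm _) - σ (-σ.symm _)) = v.2.2.2
      rw [map_neg, RingEquiv.apply_symm_apply, RingEquiv.apply_symm_apply, Units.val_inv_eq_inv_val,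
        Units.val_inv_eq_inv_val]
      field_simp
      ring

theorem nP_apply (σ : F ≃+* F) (τ : K ≃+* K) (d κ : Fˣ) (v : M F K) : nP σ τ d κ v =
    (-(((d : F) * κ) • τ v.2.1), (d : F) • τ v.1, -((d : F) * κ * σ v.2.2.2), (d : F) * (σ v.2.2.1 - σ v.2.2.2)) := rfl

theorem semi_nP {σ : F ≃+* F} {τ : K ≃+* K} (hτ : ∀ (c : F) (z : K), τ (c • z) = σ c • τ z)
    (htr : ∀ z : K, tr (τ z) = σ (tr z)) (d κ : Fˣ) : Semi (fn (BL F K)) (nP σ τ d κ) σ ((d : F) ^ 2 * κ) where
  add u v := by
    simp only [nP_apply]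
    ext
    · simp; abel
    · simp
    · simp; ring
    · simp; ring
  smul c v := by
    simp only [nP_apply]
    ext
    · simp [hτ, smul_smul, mul_comm, mul_left_comm]
    · simp [hτ, smul_smul, mul_comm]
    · simp; ring
    · simp; ring
  form u v := by
    show BL F K _ _ = (d : F) ^ 2 * κ * σ (BL F K u v)
    have key : ∀ x y : K, tr (-(((d : F) * κ) • τ y) * ((d : F) • τ x)) = -((d : F) ^ 2 * κ * σ (tr (x * y))) := by
      intro x y
      rw [neg_mul, map_neg, smul_mul_smul_comm, map_smul, ← map_mul, htr, smul_eq_mul, mul_comm y x]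
      ring
    simp only [nP_apply, BL_apply, key, map_sub, map_add, map_mul]
    ring

section gen

variable {C : Subgroup (Equiv.Perm (M F K))}

/-- **From the Siegel transformations `T(e, z)` and `n` to all transvections.** -/
theorem X_all_of_n [Finite K] [FiniteDimensional F K] [Algebra.IsSeparable F K] {σ : F ≃+* F} {τ : K ≃+* K}
    (hτ : ∀ (c : F) (z : K), τ (c • z) = σ c • τ z) (htr : ∀ z : K, tr (τ z) = σ (tr z)) {d κ : Fˣ}
    (hn : nP σ τ d κ ∈ C) (hU : ∀ z : K, TT (BL F K) C (ee K 1 0) (kx F z)) (h2 : κ = 1 ∨ (2 : F) ≠ 0) (u : M F K) :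
    X (BL F K) C u := by
  have : Finite F := Finite.of_injective (algebraMap F K) (algebraMap F K).injective
  have hf := BL_alt (F := F) (K := K)
  have hs := semi_nP hτ htr d κ
  have hμ : (d : F) ^ 2 * κ ≠ 0 := mul_ne_zero (pow_ne_zero 2 d.ne_zero) κ.ne_zero
  have h01 : ∀ (a b : F) (z : K), BL F K (ee K a b) (kx F z) = 0 := by
    intro a b z
    simp [BL_apply, ee, kx]
  have h02 : ∀ (a b : F) (z : K), BL F K (ee K a b) (ky F z) = 0 := by
    intro a b z
    simp [BL_apply, ee, ky]
  have h10 : ∀ (a b : F) (z : K), BL F K (kx F z) (ee K a b) = 0 := by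
    intro a b z
    simp [BL_apply, ee, kx]
  have h20 : ∀ (a b : F) (z : K), BL F K (ky F z) (ee K a b) = 0 := by
    intro a b z
    simp [BL_apply, ee, ky]
  have ne : ∀ a b : F, nP σ τ d κ (ee K a b) = ee K (-((d : F) * κ * σ b)) ((d : F) * (σ a - σ b)) := by
    intro a b
    simp only [nP_apply, ee]
    ext <;> simp
  have nx : ∀ z : K, nP σ τ d κ (kx F z) = (d : F) • ky F (τ z) := by
    intro z
    simp only [nP_apply, kx, ky]
    ext <;> simp
  have ny : ∀ z : K, nP σ τ d κ (ky F z) = (-((d : F) * κ)) • kx F (τ z) := by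
    intro z
    simp only [nP_apply, kx, ky]
    ext <;> simp
  have stepx : ∀ a b : F, (∀ z : K, TT (BL F K) C (ee K a b) (kx F z)) →
      ∀ z : K, TT (BL F K) C (ee K (-((d : F) * κ * σ b)) ((d : F) * (σ a - σ b))) (ky F z) := by
    intro a b h z
    have h1 := (h (τ.symm z)).map hn hs hμ
    rw [ne, nx, RingEquiv.apply_symm_apply] at h1
    exact h1.of_smul d.ne_zero
  have stepy : ∀ a b : F, (∀ z : K, TT (BL F K) C (ee K a b) (ky F z)) →
      ∀ z : K, TT (BL F K) C (ee K (-((d : F) * κ * σ b)) ((d : F) * (σ a - σ b))) (kx F z) := by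
    intro a b h z
    have h1 := (h (τ.symm z)).map hn hs hμ
    rw [ne, ny, RingEquiv.apply_symm_apply] at h1
    exact h1.of_smul (neg_ne_zero.2 (mul_ne_zero d.ne_zero κ.ne_zero))
  have ees : ∀ (c a b : F), ee K (c * a) (c * b) = c • ee K a b := by
    intro c a b
    simp only [ee]
    ext <;> simp
  have sc : ∀ (c a b : F) (w : M F K), TT (BL F K) C (ee K a b) w → TT (BL F K) C (ee K (c * a) (c * b)) w := by
    intro c a b w h
    rw [ees]
    exact h.smul_left c
  -- the vectors
  have a1 : ∀ z : K, TT (BL F K) C (ee K 0 1) (ky F z) := by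
    intro z
    have h := sc (d : F)⁻¹ _ _ _ (stepx 1 0 hU z)
    simpa [d.ne_zero] using h
  have a2 : ∀ z : K, TT (BL F K) C (ee K κ 1) (kx F z) := by
    intro z
    have h := sc (-(d : F)⁻¹) _ _ _ (stepy 0 1 a1 z)
    simpa [d.ne_zero] using h
  have a3 : ∀ z : K, TT (BL F K) C (ee K (-κ) (σ κ - 1)) (ky F z) := by
    intro z
    have h := sc ((d : F)⁻¹) _ _ _ (stepx κ 1 a2 z)
    simpa [d.ne_zero] using h
  -- transvections with centre in the first copy, one parameter
  have b1 : ∃ c0 : F, c0 ≠ 0 ∧ ∀ z : K, Has C (t (BL F K) c0 (kx F z)) := by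
    rcases h2 with h2 | h2
    · subst h2
      have a4 : ∀ z : K, TT (BL F K) C (ee K 0 1) (kx F z) := by
        intro z
        have a3' : ∀ z : K, TT (BL F K) C (ee K (-1) 0) (ky F z) := by
          intro z
          have := a3 z
          simpa using this
        have h := sc (-(d : F)⁻¹) _ _ _ (stepy (-1) 0 a3' z)
        simpa [d.ne_zero] using h
      refine ⟨-1, by simp, fun z => ?_⟩
      have c1 := (hU z).symm.one
      have c2 := (a4 z).symm.one
      have c3 := (a2 z).symm.one
      have c4 := (c1.mul c2 fun v => T_add hf (h10 1 0 z) (h10 0 1 z) v)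
      have e1 : ee K (1 : F) 0 + ee K (0 : F) 1 = ee K ((1 : Fˣ) : F) 1 := by
        simp only [ee]
        ext <;> simp
      have e2 : BL F K (ee K (0 : F) 1) (ee K (1 : F) 0) = -1 := by
        simp [BL_apply, ee]
      rw [e1] at c4
      rw [← e2]
      exact c4.div c3 fun v => rfl
    · refine ⟨-1 - 1, ?_, fun z => ?_⟩
      · intro h
        apply h2
        linear_combination -h
      have c1 := (hU z).symm.one
      have c3 := (a2 z).symm.one
      have c4 := (c1.mul c3 fun v => T_add hf (h10 1 0 z) (h10 κ 1 z) v)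
      have c5 := (c3.mul c1 fun v => T_add hf (h10 κ 1 z) (h10 1 0 z) v)
      have e2 : BL F K (ee K (κ : F) 1) (ee K (1 : F) 0) = -1 := by
        simp [BL_apply, ee]
      have e3 : BL F K (ee K (1 : F) 0) (ee K (κ : F) 1) = 1 := by
        simp [BL_apply, ee]
      rw [e2] at c4
      rw [e3] at c5
      refine c4.div c5 fun v => ?_
      rw [add_comm (ee K (κ : F) 1)]
      set v' := T (BL F K) (kx F z) (ee K 1 0 + ee K (κ : F) 1) v
      have e4 : BL F K (kx F z) (kx F z) = 0 := hf _
      simp only [t, map_add, map_smul, LinearMap.add_apply, LinearMap.smul_apply, e4]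
      module
  obtain ⟨c0, hc0, hc1⟩ := b1
  let Y : AddSubgroup F :=
    { carrier := {c | ∀ z : K, Has C (t (BL F K) c (kx F z))}
      zero_mem' := fun z => Has.one fun v => by simp [t]
      add_mem' := by
        intro a b ha hb z
        refine (ha z).mul (hb z) fun v => ?_
        have e4 : BL F K (kx F z) (kx F z) = 0 := hf _
        simp only [t, map_add, map_smul, LinearMap.add_apply, LinearMap.smul_apply, e4]
        module
      neg_mem' := by
        intro a ha z
        refine (Has.one (C := C) (φ := id) fun v => rfl).div (ha z) fun v => ?_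
        have e4 : BL F K (kx F z) (kx F z) = 0 := hf _
        simp only [t, map_add, map_smul, LinearMap.add_apply, LinearMap.smul_apply, e4, id]
        module }
  have hY : ∀ c : F, c ∈ Y := by
    refine fun c => mem_of_sq_mul Y ?_ (y := c0) hc1 hc0 c
    intro c _ y hy z
    have h := hy (c • z)
    have e : kx F (c • z) = c • kx F z := by
      simp only [kx]
      ext <;> simp
    rw [e] at h
    exact h.congr fun v => t_smul y c (kx F z) v
  have hX1 : ∀ z : K, X (BL F K) C (kx F z) := fun z c => hY c z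
  have hX2 : ∀ z : K, X (BL F K) C (ky F z) := by
    intro z
    have h := (hX1 (τ.symm z)).map hn hs hμ
    rw [nx, RingEquiv.apply_symm_apply] at h
    have h3 := h.smul (d : F)⁻¹
    rwa [inv_smul_smul₀ d.ne_zero] at h3
  have addx : ∀ (a b a' b' : F) (z : K), TT (BL F K) C (ee K a b) (kx F z) → TT (BL F K) C (ee K a' b') (kx F z) →
      TT (BL F K) C (ee K (a + a') (b + b')) (kx F z) := by
    intro a b a' b' z h h'
    have e : ee K (a + a') (b + b') = ee K a b + ee K a' b' := by
      simp only [ee]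
      ext <;> simp
    rw [e]
    exact (TT.add hf (hX1 z) (h10 _ _ _) (h10 _ _ _) h.symm h'.symm).symm
  have addy : ∀ (a b a' b' : F) (z : K), TT (BL F K) C (ee K a b) (ky F z) → TT (BL F K) C (ee K a' b') (ky F z) →
      TT (BL F K) C (ee K (a + a') (b + b')) (ky F z) := by
    intro a b a' b' z h h'
    have e : ee K (a + a') (b + b') = ee K a b + ee K a' b' := by
      simp only [ee]
      ext <;> simp
    rw [e]
    exact (TT.add hf (hX2 z) (h20 _ _ _) (h20 _ _ _) h.symm h'.symm).symm
  refine X_all ?_ ?_ hX1 u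
  · intro a b z
    have g1 := sc (a - b * κ) 1 0 _ (hU z)
    have g2 := sc b κ 1 _ (a2 z)
    have g3 := addx _ _ _ _ z g1 g2
    have e1 : (a - b * κ) * 1 + b * κ = a := by ring
    have e2 : (a - b * κ) * 0 + b * 1 = b := by ring
    rwa [e1, e2] at g3
  · intro a b z
    have g1 := sc (-a * (κ : F)⁻¹) _ _ _ (a3 z)
    have g2 := sc (b + a * (κ : F)⁻¹ * (σ κ - 1)) 0 1 _ (a1 z)
    have g3 := addy _ _ _ _ z g1 g2
    have hκ := κ.ne_zero
    have e1 : -a * (κ : F)⁻¹ * -κ + (b + a * (κ : F)⁻¹ * (σ κ - 1)) * 0 = a := by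
      field_simp
      ring
    have e2 : -a * (κ : F)⁻¹ * (σ κ - 1) + (b + a * (κ : F)⁻¹ * (σ κ - 1)) * 1 = b := by ring
    rwa [e1, e2] at g3

end gen

/-! ### The torus trick -/

/-- the unipotent elements as permutations -/
noncomputable def PU (z : K) : Equiv.Perm (M F K) := (U (F := F) z).toEquiv

theorem PU_apply (z : K) (v : M F K) : PU z v = T (BL F K) (ee K 1 0) (kx F z) v := by
  show U z v = _
  rw [U_apply]
  simp only [T, BL_apply, ee, kx]
  ext
  · simp [sub_eq_add_neg]
  · simp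
  · simp [sub_eq_add_neg]
  · simp

theorem PU_add (z z' : K) : (PU (z + z') : Equiv.Perm (M F K)) = PU z * PU z' := by
  have h := U_add (F := F) z z'
  ext1 v
  show U (z + z') v = U z (U z' v)
  rw [h]
  rfl

theorem PU_zero : (PU 0 : Equiv.Perm (M F K)) = 1 := by
  ext1 v
  show U 0 v = v
  rw [U_zero]
  rfl

theorem PU_neg (z : K) : (PU (-z) : Equiv.Perm (M F K)) = (PU z)⁻¹ := by
  rw [eq_inv_iff_mul_eq_one, ← PU_add, neg_add_cancel, PU_zero]

theorem PU_inj {z z' : K} (h : (PU z : Equiv.Perm (M F K)) = PU z') : z = z' := by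
  have h1 : PU z (ee K (0 : F) 1) = PU z' (ee K (0 : F) 1) := by rw [h]
  have h2 : (U z (ee K (0 : F) 1)).1 = (U z' (ee K (0 : F) 1)).1 := congrArg Prod.fst h1
  rw [U_apply, U_apply] at h2
  simpa [ee] using h2

/-- the root group -/
noncomputable def XU (F K : Type*) [Field F] [Field K] [Algebra F K] : Subgroup (Equiv.Perm (M F K)) where
  carrier := {g | ∃ z : K, g = PU z}
  mul_mem' := by
    rintro _ _ ⟨z, rfl⟩ ⟨z', rfl⟩
    exact ⟨z + z', (PU_add z z').symm⟩
  one_mem' := ⟨0, PU_zero.symm⟩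
  inv_mem' := by
    rintro _ ⟨z, rfl⟩
    exact ⟨-z, (PU_neg z).symm⟩

theorem mem_XU {g : Equiv.Perm (M F K)} : g ∈ XU F K ↔ ∃ z : K, g = PU z := Iff.rfl

/-- conjugation of the root group -/
theorem conj_PU {g : Equiv.Perm (M F K)} {μ l : F} {α : K} (hs : Semi (fn (BL F K)) g 1 μ) (hμ : μ ≠ 0)
    (he : g (ee K 1 0) = l • ee K 1 0) (hk : ∀ z : K, g (kx F z) = kx F (α * z)) (z : K) :
    g * PU z * g⁻¹ = PU ((algebraMap F K (μ⁻¹ * l) * α) * z) := by
  rw [mul_inv_eq_iff_eq_mul]
  ext1 v
  show g (PU z v) = PU _ (g v)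
  rw [PU_apply, PU_apply, T_conj hs hμ, he, hk, smul_smul, T_smul]
  congr 1
  simp only [kx]
  ext
  · simp [Algebra.smul_def, mul_assoc]
  · simp
  · simp
  · simp

/-- the square of the first generator -/
theorem hP_sq (a : Kˣ) (δ : Fˣ) (v : M F K) : (hP a δ * hP a δ : Equiv.Perm (M F K)) v =
    (((a : K) * a) * v.1, ((δ : F) * δ) • ((((a⁻¹ : Kˣ) : K) * ((a⁻¹ : Kˣ) : K)) * v.2.1), -((δ : F) * v.2.2.1),
      -((δ : F) * v.2.2.2)) := by
  show hP a δ (hP a δ v) = _
  simp only [hP_apply]
  ext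
  · simp [mul_assoc]
  · simp only [mul_smul_comm, smul_smul, mul_assoc]
  · simp
  · simp

theorem semi_hP_sq (a : Kˣ) (δ : Fˣ) : Semi (fn (BL F K)) (hP a δ * hP a δ) 1 ((δ : F) * δ) := by
  have h := (semi_hP (F := F) a δ).mul (semi_hP a δ)
  rw [mul_one] at h
  exact h

end Cfsg.Agent.H484.GenSp
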