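import Cfsg.Agent.H484.GenSpLift
import Cfsg.Agent.H490.Der
import Cfsg.Agent.S0752

/-!
# TEAM GEN: the row `sp` of `LinRows` (helper484)
-/

set_option autoImplicit false

namespace Cfsg.Agent.H484.GenSp

open Cfsg Cfsg.Agent.H137.SpModel Cfsg.Agent.H137 Subgroup Cfsg.Agent.ClassicalGeometry.SympBasic Module
  Cfsg.Agent.H440.TwoGen Cfsg.Agent.H891.Gen Cfsg.Agent.H490.Der

universe u

section iso

variable {F V W : Type*} [Field F] [AddCommGroup V] [Module F V] [AddCommGroup W] [Module F W]
  {f : V → V → F} {f' : W → W → F}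

/-- conjugation by an isometry -/
def cj (e : V ≃ₗ[F] W) : Equiv.Perm W ≃* Equiv.Perm V := (e.symm.toEquiv).permCongrHom

theorem cj_apply (e : V ≃ₗ[F] W) (g : Equiv.Perm W) (v : V) : cj e g v = e.symm (g (e v)) := rfl

theorem cj_symm_apply (e : V ≃ₗ[F] W) (g : Equiv.Perm V) (w : W) : (cj e).symm g w = e (g (e.symm w)) := rfl

theorem Semi.cj {e : V ≃ₗ[F] W} (he : ∀ u v, f' (e u) (e v) = f u v) {g : Equiv.Perm W} {σ : F ≃+* F} {μ : F}
    (h : Semi f' g σ μ) : Semi f (cj e g) σ μ where
  add u v := by rw [cj_apply, cj_apply, cj_apply, map_add, h.add, map_add]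
  smul c v := by rw [cj_apply, cj_apply, map_smul, h.smul, map_smul]
  form u v := by rw [cj_apply, cj_apply, ← he, LinearEquiv.apply_symm_apply, LinearEquiv.apply_symm_apply, h.form, he]

theorem Semi.cj_symm {e : V ≃ₗ[F] W} (he : ∀ u v, f' (e u) (e v) = f u v) {g : Equiv.Perm V} {σ : F ≃+* F} {μ : F}
    (h : Semi f g σ μ) : Semi f' ((GenSp.cj e).symm g) σ μ where
  add u v := by rw [cj_symm_apply, cj_symm_apply, cj_symm_apply, map_add, h.add, map_add]
  smul c v := by rw [cj_symm_apply, cj_symm_apply, map_smul, h.smul, map_smul]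
  form u v := by
    rw [cj_symm_apply, cj_symm_apply, he, h.form, ← he, LinearEquiv.apply_symm_apply, LinearEquiv.apply_symm_apply]

theorem closure_cj (e : V ≃ₗ[F] W) {a b : Equiv.Perm W} {g : Equiv.Perm V}
    (h : (cj e).symm g ∈ closure ({a, b} : Set (Equiv.Perm W))) :
    g ∈ closure ({cj e a, cj e b} : Set (Equiv.Perm V)) := by
  have h1 := Subgroup.mem_map_of_mem (cj e).toMonoidHom h
  rw [MonoidHom.map_closure, Set.image_pair] at h1
  have e1 : (cj e).toMonoidHom ((cj e).symm g) = g := (cj e).apply_symm_apply g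
  rw [e1] at h1
  exact h1

theorem LiftP.of_iso {e : V ≃ₗ[F] W} (he : ∀ u v, f' (e u) (e v) = f u v) {δ μ : F} {σ : F ≃+* F}
    (h : LiftP f' δ σ μ) : LiftP f δ σ μ := by
  obtain ⟨x, y, hx, hy, h⟩ := h
  exact ⟨GenSp.cj e x, GenSp.cj e y, hx.cj he, hy.cj he, fun g hg => closure_cj e (h _ (hg.cj_symm he))⟩

/-- a generating pair of `Sp` with a fixed vector -/
def FixP (f : V → V → F) (n : ℕ) : Prop :=
  ∃ a b : Equiv.Perm V, Semi f a 1 1 ∧ Semi f b 1 1 ∧
    (∀ g : Equiv.Perm V, Semi f g 1 1 → g ∈ closure ({a, b} : Set (Equiv.Perm V))) ∧ a ^ n = 1 ∧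
      ∃ v : V, v ≠ 0 ∧ a v = v

theorem FixP.of_iso {e : V ≃ₗ[F] W} (he : ∀ u v, f' (e u) (e v) = f u v) {n : ℕ} (h : FixP f' n) : FixP f n := by
  obtain ⟨a, b, ha, hb, h, hn, v, hv, hav⟩ := h
  refine ⟨GenSp.cj e a, GenSp.cj e b, ha.cj he, hb.cj he, fun g hg => closure_cj e (h _ (hg.cj_symm he)), ?_, e.symm v,
    ?_, ?_⟩
  · rw [← map_pow, hn, map_one]
  · exact (map_ne_zero_iff _ e.symm.injective).2 hv
  · rw [cj_apply, LinearEquiv.apply_symm_apply, hav]

end iso

/-- the pair of helper137 -/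
theorem fixP_model {F K : Type*} [Field F] [Field K] [Algebra F K] [Finite K] [FiniteDimensional F K]
    [Algebra.IsSeparable F K] (hK : 2 < Nat.card K) : FixP (fn (BL F K)) (Nat.card K - 1) := by
  have : Finite F := Finite.of_injective (algebraMap F K) (algebraMap F K).injective
  obtain ⟨g, hg⟩ := IsCyclic.exists_generator (α := Kˣ)
  have hord : orderOf g = Nat.card K - 1 := by
    rw [orderOf_eq_card_of_forall_mem_zpowers hg, Nat.card_units]
  have hg1 : g ≠ 1 := by
    rintro rfl
    rw [orderOf_one] at hord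
    omega
  let Φ : (M F K ≃ₗ[F] M F K) →* Equiv.Perm (M F K) :=
    { toFun := fun g => g.toEquiv
      map_one' := rfl
      map_mul' := fun _ _ => rfl }
  have hSemi : ∀ x ∈ Sp F K, Semi (fn (BL F K)) (Φ x) 1 1 := fun x hx =>
    { add := fun u v => x.map_add u v
      smul := fun c v => x.map_smul c v
      form := fun u v => by
        rw [one_mul]
        exact hx u v }
  set H := closure {S (F := F) g, U (F := F) (1 : K) * w} with hH
  have h1 : S (F := F) g ∈ H := subset_closure (by simp)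
  have h2 : U (F := F) (1 : K) * w ∈ H := subset_closure (by simp)
  have hHS : H ≤ Sp F K := by
    rw [hH, closure_le]
    rintro x (rfl | rfl)
    · exact S_mem g
    · exact (Sp F K).mul_mem (U_mem 1) w_mem
  obtain ⟨hU, hw⟩ := U_w_mem hg hg1 h1 h2
  refine ⟨Φ (S g), Φ (U 1 * w), hSemi _ (S_mem g), hSemi _ ((Sp F K).mul_mem (U_mem 1) w_mem), ?_, ?_,
    ee K 1 0, ?_, ?_⟩
  · intro x hx
    refine mem_of_X (fun u c => ?_) hx
    obtain ⟨y, hy, hv⟩ := SpModel.X_all hHS hU hw u c
    refine ⟨Φ y, ?_, hv⟩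
    have h3 := Subgroup.mem_map_of_mem Φ hy
    rwa [hH, MonoidHom.map_closure, Set.image_pair] at h3
  · rw [← map_pow]
    have h3 : S (F := F) g ^ (Nat.card K - 1) = 1 := by
      have h4 := S_zpow (F := F) g ((Nat.card K - 1 : ℕ) : ℤ)
      rw [zpow_natCast, zpow_natCast, ← hord, pow_orderOf_eq_one, S_one] at h4
      rw [← hord]
      exact h4.symm
    rw [h3, map_one]
  · intro h
    have := congrArg (fun v : M F K => v.2.2.1) h
    simp [ee] at this
  · show S g (ee K 1 0) = ee K 1 0
    rw [S_apply]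
    simp [ee]

/-- coordinates for an alternating form -/
theorem exists_coord {F V : Type*} [Field F] [AddCommGroup V] [Module F V] [FiniteDimensional F V]
    (f : LinearMap.BilinForm F V) (hf : f.IsAlt) (hn : f.Nondegenerate) :
    ∃ m : ℕ, finrank F V = 2 * m ∧ ∃ e : V ≃ₗ[F] (Fin m ⊕ Fin m → F), ∀ u v, sympForm m F (e u) (e v) = f u v := by
  obtain ⟨m, k, b, h1, h2, h3, h4⟩ := Cfsg.Agent.S0752.result f hf
  have hk : k = 0 := by
    by_contra hk
    have h5 : b (Sum.inr ⟨0, Nat.pos_of_ne_zero hk⟩) = 0 := hn.1 _ (fun v => h4 _ v)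
    exact b.ne_zero _ h5
  subst hk
  let b' : Basis (Fin m ⊕ Fin m) F V := b.reindex ((Equiv.sumEmpty (Fin m ⊕ Fin m) (Fin 0)).trans (Equiv.sumComm _ _))
  have hl : ∀ i, b' (Sum.inl i) = b (Sum.inl (Sum.inr i)) := fun i => by simp [b']
  have hr : ∀ i, b' (Sum.inr i) = b (Sum.inl (Sum.inl i)) := fun i => by simp [b']
  refine ⟨m, ?_, b'.equivFun, ?_⟩
  · rw [finrank_eq_card_basis b', Fintype.card_sum, Fintype.card_fin]
    ring
  · have key : (sympBilin m F).compl₁₂ (b'.equivFun : V →ₗ[F] (Fin m ⊕ Fin m → F))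
        (b'.equivFun : V →ₗ[F] (Fin m ⊕ Fin m → F)) = f := by
      refine b'.ext fun i => b'.ext fun j => ?_
      have hs : ∀ x y, f x y = - f y x := fun x y => (hf.neg_eq y x).symm
      have hsg : ∀ i, b'.equivFun (b' i) = Pi.single i 1 := by
        intro i
        funext x
        rw [Basis.equivFun_self, Pi.single_apply]
        simp only [eq_comm]
      simp only [LinearMap.compl₁₂_apply, LinearEquiv.coe_coe, sympBilin_apply, hsg]
      rcases i with i | i <;> rcases j with j | j
      · rw [hl, hl, h3, sympForm_single_inl_left]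
        simp
      · rw [hl, hr, hs, h1, sympForm_single_inl_left, Pi.single_apply]
        simp [eq_comm]
      · rw [hl, hr, h1, sympForm_single_inr_left, Pi.single_apply]
        simp
      · rw [hr, hr, h2, sympForm_single_inr_left]
        simp
    intro u v
    exact LinearMap.congr_fun (LinearMap.congr_fun key u) v

/-- a field with three elements has no automorphisms -/
theorem ringAut_three {F : Type*} [Field F] [Finite F] (h : Nat.card F = 3) (σ : F ≃+* F) : σ = 1 := by
  have := Fintype.ofFinite F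
  ext x
  show σ x = x
  have h1 : x ^ 3 = x := by
    have := FiniteField.pow_card x
    rwa [← Nat.card_eq_fintype_card, h] at this
  have h2 : x * ((x - 1) * (x + 1)) = 0 := by linear_combination h1
  rcases mul_eq_zero.1 h2 with h3 | h3
  · rw [h3, map_zero]
  · rcases mul_eq_zero.1 h3 with h4 | h4
    · have h5 : x = 1 := by linear_combination h4
      rw [h5, map_one]
    · have h5 : x = -1 := by linear_combination h4
      rw [h5, map_neg, map_one]

section row

/-- the underlying permutation -/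
def toPm {p : ℕ} {V : Type u} [AddCommGroup V] [Module (ZMod p) V] : (V ≃ₗ[ZMod p] V) →* Equiv.Perm V where
  toFun g := g.toEquiv
  map_one' := rfl
  map_mul' _ _ := rfl

theorem toPm_apply {p : ℕ} {V : Type u} [AddCommGroup V] [Module (ZMod p) V] (g : V ≃ₗ[ZMod p] V) (v : V) :
    toPm g v = g v := rfl

theorem toPm_injective {p : ℕ} {V : Type u} [AddCommGroup V] [Module (ZMod p) V] :
    Function.Injective (toPm : (V ≃ₗ[ZMod p] V) →* Equiv.Perm V) := by
  intro g h e
  ext v
  exact congrArg (fun k : Equiv.Perm V => k v) e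

theorem nsmul_p (p : ℕ) {V : Type*} [AddCommGroup V] [Module (ZMod p) V] (v : V) : p • v = 0 := by
  rw [← Nat.cast_smul_eq_nsmul (ZMod p), ZMod.natCast_self, zero_smul]

variable {p : ℕ} [hp : Fact p.Prime] {V : Type u} [AddCommGroup V] [Module (ZMod p) V] [Finite V]

/-- `Small` in odd characteristic -/
theorem small_odd [Nontrivial V] (hp2 : p ≠ 2) {G : Subgroup (V ≃ₗ[ZMod p] V)} {z : V ≃ₗ[ZMod p] V} (hz : z ∈ G)
    (hzv : ∀ v, z v = -v) : Small ↥G V := by
  have hfin : Finite (V ≃ₗ[ZMod p] V) := Finite.of_injective (fun g => (g : V → V)) DFunLike.coe_injective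
  have hcen : ∀ g : V ≃ₗ[ZMod p] V, g * z = z * g := by
    intro g
    ext v
    show g (z v) = z (g v)
    rw [hzv, hzv, map_neg]
  let z' : ↥G := ⟨z, hz⟩
  have hz2 : z' ^ 2 = 1 := by
    apply Subtype.ext
    show z ^ 2 = 1
    ext v
    show z (z v) = v
    rw [hzv, hzv, neg_neg]
  have hnorm : (Subgroup.zpowers z').Normal := by
    refine ⟨?_⟩
    intro n hn g
    obtain ⟨k, rfl⟩ := Subgroup.mem_zpowers_iff.1 hn
    have h1 : g * z' = z' * g := Subtype.ext (hcen g)
    have h2 : Commute g z' := h1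
    have h3 : g * z' ^ k * g⁻¹ = z' ^ k := by
      rw [(h2.zpow_right k).eq, mul_inv_cancel_right]
    rw [h3]
    exact hn
  have hnt2 : ∀ v : V, -v = v → v = 0 := by
    intro v hv
    have h2 : 2 • v = 0 := by
      rw [two_nsmul]
      nth_rewrite 1 [← hv]
      rw [neg_add_cancel]
    have h3 : addOrderOf v ∣ 2 := addOrderOf_dvd_of_nsmul_eq_zero h2
    have h4 : addOrderOf v ∣ p := addOrderOf_dvd_of_nsmul_eq_zero (nsmul_p p v)
    have h5 : addOrderOf v ∣ 1 := by
      have hco : Nat.Coprime 2 p := (Nat.coprime_primes Nat.prime_two hp.out).2 (Ne.symm hp2)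
      rw [← hco]
      exact Nat.dvd_gcd h3 h4
    exact AddMonoid.addOrderOf_eq_one_iff.1 (Nat.dvd_one.1 h5)
  refine small_of_normal (Subgroup.zpowers z') (fun v hv => hnt2 v ?_) ?_
  · have h1 := hv z' (Subgroup.mem_zpowers z')
    have h2 : z v = v := h1
    rwa [hzv] at h2
  · refine small_of_coprime hp.out (nsmul_p p) ?_
    rw [Nat.card_zpowers]
    intro h
    have h1 : orderOf z' ∣ 2 := orderOf_dvd_of_pow_eq_one hz2
    exact hp2 ((Nat.prime_dvd_prime_iff_eq hp.out Nat.prime_two).1 (h.trans h1))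

/-- `Small` in characteristic two -/
theorem small_two {F : Type*} [Field F] [Module F V] {f : V → V → F} {G : Subgroup (V ≃ₗ[ZMod p] V)} {n : ℕ}
    (hG : ∀ g ∈ G, ∃ (σ : F ≃+* F) (μ : F), μ ≠ 0 ∧ Semi f (toPm g) σ μ)
    (hSp : ∀ g : Equiv.Perm V, Semi f g 1 1 → ∃ h ∈ G, toPm h = g)
    (hfix : ∀ v : V, (∀ g : Equiv.Perm V, Semi f g 1 1 → g v = v) → v = 0)
    (hP : FixP f n) (hn : ¬ p ∣ n) : Small ↥G V := by
  have hfin : Finite (V ≃ₗ[ZMod p] V) := Finite.of_injective (fun g => (g : V → V)) DFunLike.coe_injective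
  let B : Subgroup ↥G :=
    { carrier := {g | Semi f (toPm (g : V ≃ₗ[ZMod p] V)) 1 1}
      mul_mem' := by
        intro a b ha hb
        have := Semi.mul ha hb
        rw [mul_one, one_mul] at this
        exact this
      one_mem' := Semi.one
      inv_mem' := by
        intro a ha
        have := Semi.inv ha one_ne_zero
        rw [inv_one, inv_one, map_one] at this
        exact this }
  have hBn : B.Normal := by
    refine ⟨?_⟩
    intro x hx g
    obtain ⟨σ, μ, hμ, hg⟩ := hG g g.2
    have h1 := (hg.mul hx).mul (hg.inv hμ)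
    rw [mul_one, mul_inv_cancel, map_one, mul_one] at h1
    have e : μ * σ (σ⁻¹ μ⁻¹) = 1 := by
      have : σ (σ⁻¹ μ⁻¹) = μ⁻¹ := σ.apply_symm_apply _
      rw [this, mul_inv_cancel₀ hμ]
    rw [e] at h1
    exact h1
  obtain ⟨a, b, ha, hb, hab, han, v, hv, hav⟩ := hP
  obtain ⟨a₁, ha₁, ea⟩ := hSp a ha
  obtain ⟨b₁, hb₁, eb⟩ := hSp b hb
  let a' : ↥B := ⟨⟨a₁, ha₁⟩, by
    show Semi f (toPm a₁) 1 1
    rw [ea]
    exact ha⟩
  let b' : ↥B := ⟨⟨b₁, hb₁⟩, by
    show Semi f (toPm b₁) 1 1
    rw [eb]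
    exact hb⟩
  let Ψ : ↥B →* Equiv.Perm V := toPm.comp (G.subtype.comp B.subtype)
  have hΨ : Function.Injective Ψ := fun x y h => Subtype.ext (Subtype.ext (toPm_injective h))
  have hcl : closure ({a', b'} : Set ↥B) = ⊤ := by
    rw [eq_top_iff]
    intro x _
    have h1 : Ψ x ∈ closure ({a, b} : Set (Equiv.Perm V)) := hab _ x.2
    have h2 : (closure ({a', b'} : Set ↥B)).map Ψ = closure ({a, b} : Set (Equiv.Perm V)) := by
      rw [MonoidHom.map_closure, Set.image_pair, show Ψ a' = a from ea, show Ψ b' = b from eb]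
    rw [← h2] at h1
    obtain ⟨y, hy, hyx⟩ := h1
    rwa [hΨ hyx] at hy
  refine small_of_normal B (fun v hv => hfix v fun g hg => ?_) ?_
  · obtain ⟨g₁, hg₁, rfl⟩ := hSp g hg
    exact hv ⟨g₁, hg₁⟩ hg
  · refine small_of_fixed hp.out (nsmul_p p) hcl (n := n) ?_ hn hv ?_
    · apply hΨ
      rw [map_pow, map_one]
      have : Ψ a' = a := ea
      rw [this, han]
    · show a₁ v = v
      rw [← toPm_apply, ea, hav]

end row

/-- The row `sp` of `LinRows` without `Sp_4(2)`. -/
theorem sp_row : ∀ (p : ℕ) [Fact p.Prime] (V : Type u) [AddCommGroup V] [Module (ZMod p) V] [Finite V]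
    (G : Subgroup (V ≃ₗ[ZMod p] V)) (F : Type) [Field F] [Fintype F] [Module F V] (f : LinearMap.BilinForm F V),
    4 ≤ finrank F V → (finrank F V = 4 → 3 ≤ Fintype.card F) → f.IsAlt → f.Nondegenerate →
    (∀ g ∈ G, ∃ (σ : F ≃+* F) (μ : F), (∀ (c : F) (v : V), g (c • v) = σ c • g v) ∧
      ∀ u v, f (g u) (g v) = μ * σ (f u v)) →
    (∀ g : V ≃ₗ[F] V, (∀ u v, f (g u) (g v) = f u v) → ∃ h ∈ G, ∀ v, h v = g v) → LGood G := by
  intro p hp V _ _ _ G F _ _ _ f h4 h3 hf hn hG hSp
  have hfd : FiniteDimensional F V := Module.Finite.of_finite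
  obtain ⟨m, hm, e, he⟩ := exists_coord f hf hn
  obtain ⟨k, rfl⟩ : ∃ k, m = k + 1 := ⟨m - 1, by omega⟩
  have hk : k ≠ 0 := by omega
  obtain ⟨K, _, _, _, hK⟩ := exists_ext F k hk
  have hfd' : FiniteDimensional F K := Module.finite_of_finrank_pos (by omega)
  have hsep : Algebra.IsSeparable F K := inferInstance
  let b : Module.Basis (Fin k) F K := (Module.finBasis F K).reindex (finCongr hK)
  let E : V ≃ₗ[F] M F K := e.trans (Phi b)
  have hE : ∀ u v, fn (BL F K) (E u) (E v) = fn f u v := by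
    intro u v
    show BL F K (Phi b (e u)) (Phi b (e v)) = f u v
    rw [← he]
    exact B_Phi b _ _
  have hcK : Nat.card K = Fintype.card F ^ k := by
    rw [Module.natCard_eq_pow_finrank (K := F) (V := K), hK, Nat.card_eq_fintype_card]
  have hq2 : 2 ≤ Fintype.card F := Fintype.one_lt_card
  have hK3 : 3 < Nat.card K ∨ Nat.card K = 3 ∧ Nat.card F = 3 := by
    rw [hcK, Nat.card_eq_fintype_card]
    by_cases hk1 : k = 1
    · rw [hk1, pow_one]
      have := h3 (by omega)
      omega
    · left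
      calc 3 < 2 ^ 2 := by norm_num
        _ ≤ 2 ^ k := Nat.pow_le_pow_right (by norm_num) (by omega)
        _ ≤ Fintype.card F ^ k := Nat.pow_le_pow_left hq2 k
  have hnt : Nontrivial V := Module.nontrivial_of_finrank_pos (R := F) (by omega)
  -- semisimilarities
  have hG' : ∀ g ∈ G, ∃ (σ : F ≃+* F) (μ : F), μ ≠ 0 ∧ Semi (fn f) (toPm g) σ μ := by
    intro g hg
    obtain ⟨σ, μ, h1, h2⟩ := hG g hg
    refine ⟨σ, μ, ?_, ⟨fun u v => map_add g u v, h1, h2⟩⟩
    rintro rfl
    obtain ⟨v, hv⟩ := exists_ne (0 : V)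
    refine hv (hn.1 v fun w => ?_)
    have h5 := h2 (g.symm v) (g.symm w)
    rwa [LinearEquiv.apply_symm_apply, LinearEquiv.apply_symm_apply, zero_mul] at h5
  have hSp' : ∀ g : Equiv.Perm V, Semi (fn f) g 1 1 → ∃ h ∈ G, toPm h = g := by
    intro g hg
    let g' : V ≃ₗ[F] V :=
      { toFun := g
        invFun := g.symm
        map_add' := hg.add
        map_smul' := hg.smul
        left_inv := g.left_inv
        right_inv := g.right_inv }
    obtain ⟨h, hh, h1⟩ := hSp g' (fun u v => by
      have := hg.form u v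
      rw [one_mul] at this
      exact this)
    exact ⟨h, hh, Equiv.ext h1⟩
  have hfinG : Finite (V ≃ₗ[ZMod p] V) := Finite.of_injective (fun g => (g : V → V)) DFunLike.coe_injective
  constructor
  · -- two generators
    have h1 : ∀ g : Equiv.Perm V, Semi (fn f) g 1 1 → g ∈ G.map toPm := by
      intro g hg
      obtain ⟨h, hh, e⟩ := hSp' g hg
      exact ⟨h, hh, e⟩
    have h2 : ∀ g ∈ G.map toPm, ∃ (σ : F ≃+* F) (μ : F), μ ≠ 0 ∧ Semi (fn f) g σ μ := by
      rintro _ ⟨g, hg, rfl⟩
      exact hG' g hg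
    have h5 : TwoGen ↥(G.map toPm) := by
      rcases hK3 with hK3 | ⟨hK3, hF3⟩
      · exact twoGen_of_lift h1 h2 fun δ σ μ hδ hμ => (liftP_model hδ hμ σ (Or.inl hK3)).of_iso hE
      · exact twoGen_of_lift_prime (ringAut_three hF3) h1 h2 fun μ hμ =>
          (liftP_model one_ne_zero hμ 1 (Or.inr ⟨hK3, rfl⟩)).of_iso hE
    exact h5.of_equiv (G.equivMapOfInjective toPm toPm_injective).symm
  · -- few derivations
    by_cases hp2 : p = 2
    · have h2 : (2 : F) = 0 := by
        obtain ⟨v, hv⟩ := exists_ne (0 : V)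
        have h5 : (2 : F) • v = 0 := by
          have h6 := nsmul_p p v
          rw [hp2, ← Nat.cast_smul_eq_nsmul F] at h6
          exact_mod_cast h6
        exact (smul_eq_zero.1 h5).resolve_right hv
      have hchar : CharP K 2 := by
        have : CharP F 2 := CharTwo.of_one_ne_zero_of_two_eq_zero one_ne_zero h2
        exact charP_of_injective_algebraMap (algebraMap F K).injective 2
      have heven : 2 ∣ Nat.card K := by
        have := Fintype.ofFinite K
        rw [Nat.card_eq_fintype_card]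
        exact (CharP.cast_eq_zero_iff K 2 _).1 (FiniteField.cast_card_eq_zero K)
      refine small_two hG' hSp' (fun v hv => ?_) ((fixP_model (F := F) (K := K) (by omega)).of_iso hE) ?_
      · -- transvections have no common fixed vector
        by_contra hv0
        obtain ⟨w, hw⟩ : ∃ w, f v w ≠ 0 := by
          by_contra hcon
          push Not at hcon
          exact hv0 (hn.1 v hcon)
        have hsq : f w w = 0 := hf w
        let g : Equiv.Perm V :=
          { toFun := t f 1 w
            invFun := t f (-1) w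
            left_inv := fun x => by
              simp only [t, map_add, map_smul, LinearMap.add_apply, LinearMap.smul_apply, hsq]
              module
            right_inv := fun x => by
              simp only [t, map_add, map_smul, LinearMap.add_apply, LinearMap.smul_apply, hsq]
              module }
        have h5 := hv g (semi_t hf (c := 1) (u := w) (fun _ => rfl))
        have h6 : v + ((1 : F) * f v w) • w = v := h5
        rw [add_eq_left, one_mul, smul_eq_zero] at h6
        rcases h6 with h6 | h6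
        · exact hw h6
        · exact hw (by rw [h6, map_zero])
      · rw [hp2]
        have : 0 < Nat.card K := Nat.card_pos
        omega
    · obtain ⟨z, hz, hzv⟩ := hSp (LinearEquiv.neg F) (fun u v => by simp)
      exact small_odd hp2 hz (fun v => by rw [hzv]; simp)

end Cfsg.Agent.H484.GenSp
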