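import Cfsg.Agent.H484.GenSpModel

/-!
# Semisimilarities: the torus trick in the model (TEAM GEN, helper484)
-/

set_option autoImplicit false

namespace Cfsg.Agent.H484.GenSp

open Cfsg.Agent.H137.SpModel Cfsg.Agent.H137 Subgroup

variable {F K : Type*} [Field F] [Field K] [Algebra F K]

local notation "tr" => Algebra.trace F K

/-- an irreducible action on the root group -/
theorem irr [Finite K] {s : Equiv.Perm (M F K)} {g : Kˣ} (hg : ∀ x : Kˣ, x ∈ Subgroup.zpowers g) {β : K}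
    (hβ : β = g ∨ β = (g : K) ^ 2) (hs : ∀ z : K, s * PU z * s⁻¹ = PU (β * z)) (Y : Subgroup (Equiv.Perm (M F K)))
    (hY : Y ≤ XU F K) (h : ∀ y ∈ Y, s * y * s⁻¹ ∈ Y) : Y = ⊥ ∨ Y = XU F K := by
  by_cases h1 : ∃ z : K, z ≠ 0 ∧ (PU z : Equiv.Perm (M F K)) ∈ Y
  · right
    refine le_antisymm hY ?_
    obtain ⟨z0, hz0, h2⟩ := h1
    let Y' : AddSubgroup K :=
      { carrier := {z | (PU z : Equiv.Perm (M F K)) ∈ Y}
        zero_mem' := by
          show PU 0 ∈ Y
          rw [PU_zero]; exact Y.one_mem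
        add_mem' := by
          intro a b ha hb
          show PU (a + b) ∈ Y
          rw [PU_add]; exact Y.mul_mem ha hb
        neg_mem' := by
          intro a ha
          show PU (-a) ∈ Y
          rw [PU_neg]; exact Y.inv_mem ha }
    have h3 : ∀ z ∈ Y', β * z ∈ Y' := by
      intro z hz
      show PU (β * z) ∈ Y
      rw [← hs]
      exact h _ hz
    have h4 : ∀ z ∈ Y', (g : K) ^ 2 * z ∈ Y' := by
      intro z hz
      rcases hβ with hβ | hβ
      · have := h3 _ (h3 z hz)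
        rwa [← mul_assoc, hβ, ← sq] at this
      · have := h3 z hz
        rwa [hβ] at this
    have h5 : ∀ (k : ℕ), ∀ z ∈ Y', ((g : K) ^ 2) ^ k * z ∈ Y' := by
      intro k
      induction k with
      | zero => intro z hz; rwa [pow_zero, one_mul]
      | succ k ih => intro z hz; rw [pow_succ, mul_assoc]; exact ih _ (h4 z hz)
    rintro _ ⟨z, rfl⟩
    refine mem_of_sq_mul Y' ?_ (y := z0) h2 hz0 z
    intro c hc y hy
    obtain ⟨k, hk⟩ := mem_powers_iff_mem_zpowers.2 (hg (Units.mk0 c hc))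
    have hk' : (g : K) ^ k = c := by
      have := congrArg (fun x : Kˣ => (x : K)) hk
      simpa using this
    have := h5 k y hy
    rwa [← pow_mul, mul_comm 2 k, pow_mul, hk'] at this
  · left
    rw [eq_bot_iff]
    intro y hy
    obtain ⟨z, rfl⟩ := hY hy
    have h2 : z = 0 := by
      by_contra h3
      exact h1 ⟨z, h3, hy⟩
    rw [h2, PU_zero]
    exact Subgroup.one_mem _

/-- **the torus trick in the model** -/
theorem lift_core [Finite K] {g : Kˣ} (hg : ∀ x : Kˣ, x ∈ Subgroup.zpowers g) {σ : F ≃+* F} {τ : K ≃+* K}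
    (hτ : ∀ (c : F) (z : K), τ (c • z) = σ c • τ z) (htr : ∀ z : K, tr (τ z) = σ (tr z)) {a : Kˣ} {δ d κ : Fˣ}
    (hβ : -((δ : F)⁻¹ • ((a : K) * a)) = g ∨ -((δ : F)⁻¹ • ((a : K) * a)) = (g : K) ^ 2)
    (hβ1 : -((δ : F)⁻¹ • ((a : K) * a)) ≠ 1) {C : Subgroup (Equiv.Perm (M F K))} (hh : hP a δ ∈ C)
    (hy : PU 1 * nP σ τ d κ ∈ C) : XU F K ≤ C ∧ nP σ τ d κ ∈ C := by
  set β : K := -((δ : F)⁻¹ • ((a : K) * a)) with hβdef
  set s : Equiv.Perm (M F K) := hP a δ * hP a δ with hsdef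
  set n : Equiv.Perm (M F K) := nP σ τ d κ with hndef
  have hδ := δ.ne_zero
  have hσδ : σ (δ : F) ≠ 0 := fun h0 => hδ ((map_eq_zero _).1 h0)
  have hsC : s ∈ C := C.mul_mem hh hh
  have hs : ∀ z : K, s * PU z * s⁻¹ = PU (β * z) := by
    intro z
    have h := conj_PU (semi_hP_sq a δ) (mul_ne_zero hδ hδ) (l := -(δ : F)) (α := (a : K) * a) (by
      rw [hP_sq]
      simp only [ee]
      ext <;> simp) (by
      intro z
      rw [hP_sq]
      simp only [kx]
      ext <;> simp) z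
    rw [← hsdef] at h
    rw [h]
    congr 2
    rw [hβdef, Algebra.smul_def, ← neg_mul, ← map_neg]
    congr 2
    field_simp
  -- the conjugate
  have hsemi : Semi (fn (BL F K)) (n * s * n⁻¹) 1 (σ ((δ : F) * δ)) := by
    have hμ : (d : F) ^ 2 * κ ≠ 0 := mul_ne_zero (pow_ne_zero 2 d.ne_zero) κ.ne_zero
    have h := ((semi_nP hτ htr d κ).mul (semi_hP_sq a δ)).mul ((semi_nP hτ htr d κ).inv hμ)
    rw [mul_one, mul_inv_cancel] at h
    have e : (d : F) ^ 2 * κ * σ ((δ : F) * δ) * σ (σ⁻¹ ((d : F) ^ 2 * κ)⁻¹) = σ ((δ : F) * δ) := by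
      have e1 : σ (σ⁻¹ ((d : F) ^ 2 * κ)⁻¹) = ((d : F) ^ 2 * κ)⁻¹ := σ.apply_symm_apply _
      rw [e1, mul_right_comm, mul_inv_cancel₀ hμ, one_mul]
    rw [e] at h
    exact h
  have hact : ∀ w : M F K, (n * s * n⁻¹) w = ((σ (δ : F) * σ δ) • (τ ((a⁻¹ : Kˣ) : K) * τ ((a⁻¹ : Kˣ) : K) * w.1),
      τ (a : K) * τ a * w.2.1, -(σ (δ : F) * w.2.2.1), -(σ (δ : F) * w.2.2.2)) := by
    intro w
    obtain ⟨v, rfl⟩ : ∃ v, w = n v := ⟨n⁻¹ w, (Equiv.apply_symm_apply n w).symm⟩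
    have e1 : n⁻¹ (n v) = v := Equiv.symm_apply_apply n v
    show n (s (n⁻¹ (n v))) = _
    rw [e1, hsdef, hP_sq, hndef, nP_apply, nP_apply]
    simp only [hτ, map_mul, map_neg]
    ext
    · simp only [mul_smul_comm, smul_smul, mul_neg, smul_neg, neg_inj]
      congr 1
      ring
    · simp only [mul_smul_comm, mul_assoc]
    · ring
    · ring
  have hbz : ∀ z : K, (n * s * n⁻¹) * PU z * (n * s * n⁻¹)⁻¹ = PU ((τ β)⁻¹ * z) := by
    intro z
    have h := conj_PU hsemi (fun h0 => mul_ne_zero hδ hδ ((map_eq_zero _).1 h0)) (l := -σ (δ : F))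
      (α := (σ (δ : F) * σ δ) • (τ ((a⁻¹ : Kˣ) : K) * τ ((a⁻¹ : Kˣ) : K))) (by
      rw [hact]
      simp only [ee]
      ext <;> simp) (by
      intro z
      rw [hact]
      simp only [kx]
      ext <;> simp) z
    rw [h]
    congr 2
    have h1 : τ (a : K) ≠ 0 := fun h0 => a.ne_zero ((map_eq_zero _).1 h0)
    have h2 : algebraMap F K (σ δ) ≠ 0 := fun h0 => hσδ ((map_eq_zero _).1 h0)
    have h3 : τ ((a⁻¹ : Kˣ) : K) = (τ (a : K))⁻¹ := by
      rw [Units.val_inv_eq_inv_val, map_inv₀]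
    rw [hβdef, map_neg, hτ, map_inv₀, map_mul, h3, Algebra.smul_def, Algebra.smul_def, map_mul σ]
    simp only [map_mul, map_neg, map_inv₀]
    field_simp
  have hb1 : (τ β)⁻¹ ≠ 1 := by
    intro h
    apply hβ1
    have h1 : τ β = 1 := by
      rw [← inv_inv (τ β), h, inv_one]
    exact (map_eq_one_iff τ τ.injective).1 h1
  have hβ0 : τ β ≠ 0 := by
    intro h
    have h1 : β = 0 := (map_eq_zero _).1 h
    rcases hβ with h2 | h2
    · rw [h2] at h1
      exact g.ne_zero h1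
    · rw [h2] at h1
      exact pow_ne_zero 2 g.ne_zero h1
  refine Cfsg.Agent.H136.TwoGen.torus_trick C (XU F K) (h := s) (w := n) (u := PU 1) hsC hy ⟨1, rfl⟩ ?_ ?_ ?_ ?_ ?_ ?_ ?_
  · rintro _ ⟨z, rfl⟩
    exact ⟨_, hbz z⟩
  · rintro _ ⟨z, rfl⟩
    refine ⟨τ β * z, ?_⟩
    have h := hbz (τ β * z)
    rw [inv_mul_cancel_left₀ hβ0] at h
    rw [← h]
    group
  · exact fun Y hY h => irr hg hβ hs Y hY h
  · refine ⟨PU 1, ⟨1, rfl⟩, fun h => hβ1 ?_⟩
    have h1 := hs 1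
    rw [h, mul_inv_cancel_right, mul_one] at h1
    exact (PU_inj h1).symm
  · rintro _ ⟨z, rfl⟩
    exact ⟨_, hs z⟩
  · ext1 v
    show s ((n * s * n⁻¹) v) = (n * s * n⁻¹) (s v)
    rw [hact, hact, hsdef, hP_sq, hP_sq]
    ext
    · simp only [mul_smul_comm]
      congr 1
      ring
    · simp only [mul_smul_comm]
      congr 1
      ring
    · ring
    · ring
  · intro h
    apply hb1
    have h1 := hbz 1
    rw [h, mul_inv_cancel_right, mul_one] at h1
    exact (PU_inj h1).symm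

end Cfsg.Agent.H484.GenSp
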