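import Cfsg.Agent.H484.HerSplit

/-!
# Hering's theorem (S3695): `L` is quasisimple in the small dimensions (helper484, task 888)
-/

set_option autoImplicit false
set_option linter.style.haveILetI false

namespace Cfsg.Agent.H484.Her

open Module Cfsg.Agent.H50.Her Cfsg.Agent.PermutationGroups.RegularLinear
open scoped commutatorElement

universe u

section Res

variable {p : ℕ} [hp : Fact p.Prime] {V : Type u} [AddCommGroup V] [Module (ZMod p) V]
variable {M : Subgroup (V ≃ₗ[ZMod p] V)} {U : Submodule (ZMod p) V}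

/-- `M` leaves `U` invariant -/
def Iv (M : Subgroup (V ≃ₗ[ZMod p] V)) (U : Submodule (ZMod p) V) : Prop := ∀ m ∈ M, ∀ u ∈ U, m u ∈ U

/-- restriction to an invariant subspace -/
def res (h : Iv M U) : M →* (U ≃ₗ[ZMod p] U) where
  toFun m :=
    { toFun := fun u => ⟨(m : V ≃ₗ[ZMod p] V) u, h m m.2 u u.2⟩
      invFun := fun u => ⟨(m : V ≃ₗ[ZMod p] V)⁻¹ u, h _ (M.inv_mem m.2) u u.2⟩
      map_add' := fun a b => Subtype.ext (map_add _ _ _)
      map_smul' := fun c a => Subtype.ext (map_smul _ _ _)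
      left_inv := fun u => Subtype.ext (by
        change ((m : V ≃ₗ[ZMod p] V)⁻¹ * (m : V ≃ₗ[ZMod p] V)) (u : V) = u
        rw [inv_mul_cancel]; rfl)
      right_inv := fun u => Subtype.ext (by
        change ((m : V ≃ₗ[ZMod p] V) * (m : V ≃ₗ[ZMod p] V)⁻¹) (u : V) = u
        rw [mul_inv_cancel]; rfl) }
  map_one' := by ext u; rfl
  map_mul' a b := by ext u; rfl

theorem res_apply (h : Iv M U) (m : M) (u : U) : ((res h m u : U) : V) = (m : V ≃ₗ[ZMod p] V) u := rfl

/-- the order of `GL(U)` -/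
theorem card_gl {W : Type*} [AddCommGroup W] [Module (ZMod p) W] [Finite W] {n : ℕ} (hW : finrank (ZMod p) W = n) :
    Nat.card (W ≃ₗ[ZMod p] W) = ∏ i : Fin n, (p ^ n - p ^ (i : ℕ)) := by
  let b : Basis (Fin n) (ZMod p) W := Module.finBasisOfFinrankEq (ZMod p) W hW
  have e1 : (W ≃ₗ[ZMod p] W) ≃ Matrix.GeneralLinearGroup (Fin n) (ZMod p) :=
    ((LinearMap.GeneralLinearGroup.generalLinearEquiv (ZMod p) W).symm.trans
      (Units.mapEquiv (LinearMap.toMatrixAlgEquiv b).toMulEquiv)).toEquiv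
  rw [Nat.card_congr e1, Matrix.card_GL_field, ZMod.card]

end Res

variable {p : ℕ} [hp : Fact p.Prime] {V : Type u} [AddCommGroup V] [Module (ZMod p) V] [Finite V]

/-- The situation: two commuting perfect nonabelian groups `M`, `N`, the group generated by `M` and its centraliser is
irreducible. -/
structure Two (M N C : Subgroup (V ≃ₗ[ZMod p] V)) : Prop where
  perfM : ⁅M, M⁆ = M
  perfN : ⁅N, N⁆ = N
  ncM : ¬ Com M
  ncN : ¬ Com N
  N_le : N ≤ C
  comm : ∀ m ∈ M, ∀ c ∈ C, m * c = c * m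
  irr : ∀ W : Submodule (ZMod p) V, Iv M W → Iv C W → W = ⊥ ∨ W = ⊤

section

variable {M N C : Subgroup (V ≃ₗ[ZMod p] V)}

omit [Finite V] in
theorem iv_map {U : Submodule (ZMod p) V} (hU : Iv M U) {c : V ≃ₗ[ZMod p] V} (hc : ∀ m ∈ M, m * c = c * m) :
    Iv M (U.map (c : V →ₗ[ZMod p] V)) := by
  rintro m hm _ ⟨u, hu, rfl⟩
  refine ⟨m u, hU m hm u hu, ?_⟩
  exact (DFunLike.congr_fun (hc m hm) u).symm

/-- the data of an irreducible `M`-submodule -/
theorem Two.exists_sub [Nontrivial V] (h : Two M N C) :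
    ∃ U : Submodule (ZMod p) V, U ≠ ⊥ ∧ Iv M U ∧ (∀ W : Submodule (ZMod p) V, W ≤ U → Iv M W → W = ⊥ ∨ W = U) ∧
      ∃ c ∈ C, Disjoint U (U.map (c : V →ₗ[ZMod p] V)) := by
  classical
  haveI : Finite (Submodule (ZMod p) V) := Finite.of_injective (fun W => (W : Set V)) SetLike.coe_injective
  obtain ⟨U, ⟨hU0, hUM⟩, hmin⟩ := (Set.toFinite {U : Submodule (ZMod p) V | U ≠ ⊥ ∧ Iv M U}).exists_minimal
    ⟨⊤, top_ne_bot, fun _ _ _ _ => Submodule.mem_top⟩
  have hmin' : ∀ W : Submodule (ZMod p) V, W ≤ U → Iv M W → W = ⊥ ∨ W = U := by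
    intro W h1 h2
    by_cases h3 : W = ⊥
    · exact Or.inl h3
    · exact Or.inr (le_antisymm h1 (hmin ⟨h3, h2⟩ h1))
  refine ⟨U, hU0, hUM, hmin', ?_⟩
  -- some element of `C` moves `U`
  obtain ⟨c, hc, hcU⟩ : ∃ c ∈ C, U.map (c : V →ₗ[ZMod p] V) ≠ U := by
    by_contra hcon
    push Not at hcon
    have h1 : Iv C U := by
      intro c hc u hu
      rw [← hcon c hc]
      exact ⟨u, hu, rfl⟩
    rcases h.irr U hUM h1 with h2 | h2
    · exact hU0 h2
    · apply h.ncN
      intro a ha b hb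
      have key := commute_of_irreducible ((fun a : V ≃ₗ[ZMod p] V => (a : End (ZMod p) V)) '' (M : Set (V ≃ₗ[ZMod p] V)))
        (by
          intro W hW
          have h3 := hmin' W (by rw [h2]; exact le_top) fun m hm v hv => hW _ ⟨m, hm, rfl⟩ v hv
          rwa [h2] at h3)
        (a : End (ZMod p) V) (b : End (ZMod p) V)
        (by
          rintro _ ⟨n, hn, rfl⟩
          ext v
          exact DFunLike.congr_fun (h.comm n hn a (h.N_le ha)) v)
        (by
          rintro _ ⟨n, hn, rfl⟩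
          ext v
          exact DFunLike.congr_fun (h.comm n hn b (h.N_le hb)) v)
      ext v
      exact DFunLike.congr_fun key v
  refine ⟨c, hc, ?_⟩
  rw [disjoint_iff]
  have h1 : Iv M (U ⊓ U.map (c : V →ₗ[ZMod p] V)) := by
    intro m hm u hu
    exact Submodule.mem_inf.2 ⟨hUM m hm u (Submodule.mem_inf.1 hu).1,
      iv_map hUM (fun m hm => h.comm m hm c hc) m hm u (Submodule.mem_inf.1 hu).2⟩
  rcases hmin' _ inf_le_left h1 with h2 | h2
  · exact h2
  · exfalso
    apply hcU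
    have h3 : U ≤ U.map (c : V →ₗ[ZMod p] V) := inf_eq_left.1 h2
    have h4 : finrank (ZMod p) (U.map (c : V →ₗ[ZMod p] V)) = finrank (ZMod p) U :=
      LinearEquiv.finrank_map_eq c U
    exact (Submodule.eq_of_le_of_finrank_eq h3 h4.symm).symm

omit [Finite V] in
/-- `M` acts faithfully on every nonzero invariant subspace -/
theorem Two.faithful (h : Two M N C) {U : Submodule (ZMod p) V} (hU0 : U ≠ ⊥) (hUM : Iv M U) :
    Function.Injective (res hUM) := by
  rw [injective_iff_map_eq_one]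
  intro m hm
  let F : Submodule (ZMod p) V :=
    { carrier := {v | ∀ m : M, res hUM m = 1 → (m : V ≃ₗ[ZMod p] V) v = v}
      add_mem' := fun {a b} ha hb m hm => by rw [map_add, ha m hm, hb m hm]
      zero_mem' := fun m _ => map_zero _
      smul_mem' := fun c {a} ha m hm => by rw [map_smul, ha m hm] }
  have h1 : Iv M F := by
    intro g hg v hv k hk
    have h2 : res hUM (⟨g, hg⟩⁻¹ * k * ⟨g, hg⟩) = 1 := by rw [map_mul, map_mul, hk, mul_one, ← map_mul,
      inv_mul_cancel, map_one]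
    have h3 := hv _ h2
    change (g⁻¹ * (k : V ≃ₗ[ZMod p] V) * g) v = v at h3
    have h4 : g ((g⁻¹ * (k : V ≃ₗ[ZMod p] V) * g) v) = (k : V ≃ₗ[ZMod p] V) (g v) := by
      change (g * (g⁻¹ * (k : V ≃ₗ[ZMod p] V) * g)) v = _
      have e : g * (g⁻¹ * (k : V ≃ₗ[ZMod p] V) * g) = (k : V ≃ₗ[ZMod p] V) * g := by group
      rw [e]; rfl
    rw [← h4, h3]
  have h2 : Iv C F := by
    intro c hc v hv k hk
    have h3 := DFunLike.congr_fun (h.comm k k.2 c hc) v
    change (k : V ≃ₗ[ZMod p] V) (c v) = c ((k : V ≃ₗ[ZMod p] V) v) at h3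
    rw [h3, hv k hk]
  rcases h.irr F h1 h2 with h3 | h3
  · exfalso
    apply hU0
    rw [eq_bot_iff]
    intro u hu
    have h4 : u ∈ F := by
      intro k hk
      have := congrArg (fun f : U ≃ₗ[ZMod p] U => ((f ⟨u, hu⟩ : U) : V)) hk
      exact this
    rwa [h3] at h4
  · apply Subtype.ext
    ext v
    have h4 : v ∈ F := by rw [h3]; exact Submodule.mem_top
    exact h4 m hm

omit [Finite V] in
/-- `M` does not embed in a solvable group -/
theorem Two.not_solvable (h : Two M N C) {B : Type*} [Group B] (f : M →* B) (hf : Function.Injective f)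
    (hB : Group.IsSolvable B) : False := by
  apply h.ncM
  intro a ha b hb
  have h1 : (⟨a, ha⟩ : M) = 1 := hf (by rw [Cfsg.Agent.Schreier.Tools.hom_eq_one h.perfM f, map_one])
  have h2 : a = 1 := congrArg Subtype.val h1
  rw [h2, one_mul, mul_one]

/-- the dimension of `U` is not one -/
theorem Two.ne_one (h : Two M N C) {U : Submodule (ZMod p) V} (hU0 : U ≠ ⊥) (hUM : Iv M U) :
    finrank (ZMod p) U ≠ 1 := by
  intro h1
  apply h.ncM
  intro a ha b hb
  have h2 : res hUM (⟨a, ha⟩ * ⟨b, hb⟩) = res hUM (⟨b, hb⟩ * ⟨a, ha⟩) := by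
    obtain ⟨u₀, hu₀, hspan⟩ := finrank_eq_one_iff'.1 h1
    rw [map_mul, map_mul]
    obtain ⟨c, hc⟩ := hspan (res hUM ⟨a, ha⟩ u₀)
    obtain ⟨d, hd⟩ := hspan (res hUM ⟨b, hb⟩ u₀)
    ext u
    obtain ⟨e, rfl⟩ := hspan u
    change ((res hUM ⟨a, ha⟩ (res hUM ⟨b, hb⟩ (e • u₀)) : U) : V) = ((res hUM ⟨b, hb⟩ (res hUM ⟨a, ha⟩ (e • u₀)) : U) : V)
    rw [map_smul, map_smul, map_smul, map_smul, ← hc, ← hd, map_smul, map_smul, ← hc, ← hd, smul_smul, smul_smul,
      smul_smul, smul_smul, mul_right_comm]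
  exact congrArg Subtype.val (h.faithful hU0 hUM h2)

/-- the invariant subspace is not a plane over `F_2` or `F_3` -/
theorem Two.ne_two (h : Two M N C) (hp : p = 2 ∨ p = 3) {U : Submodule (ZMod p) V} (hU0 : U ≠ ⊥) (hUM : Iv M U) :
    finrank (ZMod p) U ≠ 2 := by
  intro h1
  have h2 := card_gl (p := p) (W := U) h1
  haveI : Finite (U ≃ₗ[ZMod p] U) := finite_gl (p := p) (V := U)
  refine h.not_solvable (res hUM) (h.faithful hU0 hUM) ?_
  rcases hp with rfl | rfl
  · refine Cfsg.Agent.S0144.result 2 3 1 1 Nat.prime_two Nat.prime_three ?_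
    rw [h2]; rfl
  · refine Cfsg.Agent.S0144.result 2 3 4 1 Nat.prime_two Nat.prime_three ?_
    rw [h2]; rfl

/-- the endomorphisms of a 3-dimensional irreducible module over `F_2` of a nonabelian group are `0` and `1` -/
theorem end_trivial {U : Type*} [AddCommGroup U] [Module (ZMod 2) U] [Finite U] (hU : Nat.card U = 8)
    {X : Type*} [Group X] (ρ : X →* (U ≃ₗ[ZMod 2] U)) (hnc : ∃ x y : X, ρ x * ρ y ≠ ρ y * ρ x)
    (hirr : ∀ W : Submodule (ZMod 2) U, (∀ x, ∀ u ∈ W, ρ x u ∈ W) → W = ⊥ ∨ W = ⊤)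
    (f : U →ₗ[ZMod 2] U) (hf : ∀ x u, f (ρ x u) = ρ x (f u)) : f = 0 ∨ f = LinearMap.id := by
  classical
  haveI : Nontrivial U := Finite.one_lt_card_iff_nontrivial.1 (by rw [hU]; norm_num)
  set S : Set (End (ZMod 2) U) := Set.range fun x => ((ρ x : U ≃ₗ[ZMod 2] U) : End (ZMod 2) U) with hS
  have hirr' : ∀ W : Submodule (ZMod 2) U, (∀ s ∈ S, ∀ v ∈ W, s v ∈ W) → W = ⊥ ∨ W = ⊤ :=
    fun W hW => hirr W fun x u hu => hW _ ⟨x, rfl⟩ u hu
  have hmem : ∀ g : End (ZMod 2) U, (∀ x u, g (ρ x u) = ρ x (g u)) → ∀ s ∈ S, s * g = g * s := by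
    rintro g hg _ ⟨x, rfl⟩
    ext u
    exact (hg x u).symm
  have hcomm : ∀ g k : End (ZMod 2) U, (∀ x u, g (ρ x u) = ρ x (g u)) → (∀ x u, k (ρ x u) = ρ x (k u)) →
      ∀ u, g (k u) = k (g u) := fun g k hg hk u =>
    DFunLike.congr_fun (commute_of_irreducible S hirr' g k (hmem g hg) (hmem k hk)) u
  have hinj : ∀ g : End (ZMod 2) U, (∀ x u, g (ρ x u) = ρ x (g u)) → ∀ v : U, v ≠ 0 → g v = 0 → g = 0 :=
    fun g hg => injective_of_commute_irreducible S hirr' g ((Subalgebra.mem_centralizer_iff _).2 (hmem g hg))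
  by_contra hcon
  push Not at hcon
  obtain ⟨hf0, hf1⟩ := hcon
  -- the group of units of the commutant
  let E : Subgroup (U ≃ₗ[ZMod 2] U) := Subgroup.centralizer (Set.range ρ)
  have hE : ∀ e ∈ E, ∀ x u, (e : U ≃ₗ[ZMod 2] U) (ρ x u) = ρ x (e u) := by
    intro e he x u
    exact (DFunLike.congr_fun ((Subgroup.mem_centralizer_iff.1 he) _ ⟨x, rfl⟩) u).symm
  have hfi : Function.Injective f := by
    rw [← LinearMap.ker_eq_bot, LinearMap.ker_eq_bot']
    intro v hv
    by_contra h0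
    exact hf0 (hinj f hf v h0 hv)
  let f' : U ≃ₗ[ZMod 2] U := LinearEquiv.ofInjectiveEndo f hfi
  have hf' : f' ∈ E := by
    rw [Subgroup.mem_centralizer_iff]
    rintro _ ⟨x, rfl⟩
    ext u
    exact (hf x u).symm
  have hf'1 : f' ≠ 1 := by
    intro h1
    apply hf1
    ext u
    exact DFunLike.congr_fun h1 u
  haveI : Finite (U ≃ₗ[ZMod 2] U) := finite_gl (p := 2) (V := U)
  obtain ⟨u₀, hu₀⟩ := exists_ne (0 : U)
  -- the orbits are regular
  have hfree : ∀ e ∈ E, ∀ u : U, u ≠ 0 → (e : U ≃ₗ[ZMod 2] U) u = u → e = 1 := by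
    intro e he u hu heu
    have h1 : ((e : End (ZMod 2) U) - 1) = 0 := by
      refine hinj _ ?_ u hu ?_
      · intro x v
        change e (ρ x v) - ρ x v = ρ x (e v - v)
        rw [hE e he, map_sub]
      · change e u - u = 0
        rw [heu, sub_self]
    ext v
    have := DFunLike.congr_fun h1 v
    change e v - v = 0 at this
    exact sub_eq_zero.1 this
  have hdvd : Nat.card E ∣ 7 := by
    let X : Type _ := {u : U // u ≠ 0}
    have hX : Nat.card X = 7 := by
      have h1 : ({u : U | u ≠ 0} : Set U) = {0}ᶜ := by ext u; simp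
      change Nat.card ({u : U | u ≠ 0} : Set U) = 7
      rw [Nat.card_coe_set_eq, h1, Set.ncard_compl, Set.ncard_singleton, hU]
    let act : MulAction E X :=
      { smul := fun e u => ⟨(e : U ≃ₗ[ZMod 2] U) u.1, fun h0 => u.2 ((e : U ≃ₗ[ZMod 2] U).map_eq_zero_iff.1 h0)⟩
        one_smul := fun u => rfl
        mul_smul := fun a b u => rfl }
    have h2 : ∀ u : X, MulAction.stabilizer E u = ⊥ := by
      intro u
      rw [eq_bot_iff]
      intro e he
      rw [MulAction.mem_stabilizer_iff] at he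
      rw [Subgroup.mem_bot]
      apply Subtype.ext
      exact hfree e e.2 u.1 u.2 (congrArg Subtype.val he)
    haveI : Fintype X := Fintype.ofFinite X
    have h3 := Nat.card_congr (MulAction.selfEquivSigmaOrbitsQuotientStabilizer E X)
    rw [hX] at h3
    haveI : Fintype (Quotient (MulAction.orbitRel E X)) := Fintype.ofFinite _
    rw [Nat.card_sigma] at h3
    rw [h3]
    refine Finset.dvd_sum fun ω _ => ?_
    rw [h2]
    have h4 : Nat.card (E ⧸ (⊥ : Subgroup E)) = Nat.card E := by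
      change (⊥ : Subgroup E).index = _
      rw [Subgroup.index_bot]
    rw [h4]
  have h7 : Nat.card E = 7 := by
    rcases (Nat.dvd_prime (by norm_num)).1 hdvd with h1 | h1
    · exfalso
      apply hf'1
      have h2 := (Subgroup.card_eq_one.1 h1)
      have h3 : f' ∈ (⊥ : Subgroup _) := h2 ▸ hf'
      exact Subgroup.mem_bot.1 h3
    · exact h1
  have htr : ∀ u : U, u ≠ 0 → ∃ e ∈ E, (e : U ≃ₗ[ZMod 2] U) u₀ = u := by
    have h1 : Function.Injective fun e : E => (⟨(e : U ≃ₗ[ZMod 2] U) u₀,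
        fun h0 => hu₀ ((e : U ≃ₗ[ZMod 2] U).map_eq_zero_iff.1 h0)⟩ : {u : U // u ≠ 0}) := by
      intro a b hab
      have h2 : (a : U ≃ₗ[ZMod 2] U) u₀ = (b : U ≃ₗ[ZMod 2] U) u₀ := congrArg Subtype.val hab
      have h3 := hfree ((b : U ≃ₗ[ZMod 2] U)⁻¹ * a) (E.mul_mem (E.inv_mem b.2) a.2) u₀ hu₀ (by
        change (b : U ≃ₗ[ZMod 2] U)⁻¹ ((a : U ≃ₗ[ZMod 2] U) u₀) = u₀
        rw [h2]
        change ((b : U ≃ₗ[ZMod 2] U)⁻¹ * b) u₀ = u₀
        rw [inv_mul_cancel]; rfl)
      exact Subtype.ext (inv_mul_eq_one.1 h3).symm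
    have hX : Nat.card {u : U // u ≠ 0} = 7 := by
      have h1 : ({u : U | u ≠ 0} : Set U) = {0}ᶜ := by ext u; simp
      change Nat.card ({u : U | u ≠ 0} : Set U) = 7
      rw [Nat.card_coe_set_eq, h1, Set.ncard_compl, Set.ncard_singleton, hU]
    have h2 := (Nat.bijective_iff_injective_and_card _).2 ⟨h1, by rw [h7, hX]⟩
    intro u hu
    obtain ⟨e, he⟩ := h2.2 ⟨u, hu⟩
    exact ⟨e, e.2, congrArg Subtype.val he⟩
  obtain ⟨x, y, hxy⟩ := hnc
  apply hxy
  have key : ∀ x : X, ∃ e ∈ E, ρ x = e := by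
    intro x
    obtain ⟨e, he, h1⟩ := htr (ρ x u₀) fun h0 => hu₀ ((ρ x).map_eq_zero_iff.1 h0)
    refine ⟨e, he, ?_⟩
    ext u
    by_cases hu : u = 0
    · rw [hu, map_zero, map_zero]
    obtain ⟨k, hk, rfl⟩ := htr u hu
    rw [← hE k hk, ← h1]
    exact hcomm (k : End (ZMod 2) U) (e : End (ZMod 2) U) (hE k hk) (hE e he) u₀
  obtain ⟨e, he, h1⟩ := key x
  rw [h1]
  exact ((Subgroup.mem_centralizer_iff.1 he) _ ⟨y, rfl⟩).symm

/-- the case of `V = U + cU`, `dim U = 3`, over `F_2` -/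
theorem Two.false_of_three {V : Type u} [AddCommGroup V] [Module (ZMod 2) V] [Finite V] [Nontrivial V]
    {M N C : Subgroup (V ≃ₗ[ZMod 2] V)} (h : Two M N C) (hV : finrank (ZMod 2) V = 6) {U : Submodule (ZMod 2) V}
    (hU0 : U ≠ ⊥) (hUM : Iv M U) (hmin : ∀ W : Submodule (ZMod 2) V, W ≤ U → Iv M W → W = ⊥ ∨ W = U)
    (hU : finrank (ZMod 2) U = 3) {c : V ≃ₗ[ZMod 2] V} (hc : c ∈ C)
    (hd : Disjoint U (U.map (c : V →ₗ[ZMod 2] V))) : False := by
  classical
  haveI : Fintype U := Fintype.ofFinite _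
  have hcU : Nat.card U = 8 := by
    rw [Nat.card_eq_fintype_card, Module.card_eq_pow_finrank (K := ZMod 2), hU, ZMod.card]; rfl
  -- `End_M(U) = F_2`
  have hend : ∀ f : U →ₗ[ZMod 2] U, (∀ x u, f (res hUM x u) = res hUM x (f u)) → f = 0 ∨ f = LinearMap.id := by
    refine end_trivial hcU (res hUM) ?_ ?_
    · have := h.ncM
      rw [Com] at this
      push Not at this
      obtain ⟨a, ha, b, hb, hab⟩ := this
      refine ⟨⟨a, ha⟩, ⟨b, hb⟩, fun h1 => hab ?_⟩
      rw [← map_mul, ← map_mul] at h1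
      exact congrArg Subtype.val (h.faithful hU0 hUM h1)
    · intro W hW
      have h1 : Iv M (W.map U.subtype) := by
        rintro m hm _ ⟨w, hw, rfl⟩
        exact ⟨res hUM ⟨m, hm⟩ w, hW ⟨m, hm⟩ w hw, rfl⟩
      rcases hmin _ (Submodule.map_subtype_le U W) h1 with h2 | h2
      · left
        rw [eq_bot_iff]
        intro w hw
        have : (w : V) ∈ W.map U.subtype := ⟨w, hw, rfl⟩
        rw [h2, Submodule.mem_bot] at this
        rw [Submodule.mem_bot]
        exact Subtype.ext this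
      · right
        rw [eq_top_iff]
        intro w _
        have : (w : V) ∈ W.map U.subtype := by rw [h2]; exact w.2
        obtain ⟨w', hw', h3⟩ := this
        have : w' = w := Subtype.ext h3
        rw [← this]; exact hw'
  -- the decomposition
  set U' := U.map (c : V →ₗ[ZMod 2] V) with hU'
  have hfr : finrank (ZMod 2) U' = 3 := by rw [hU']; exact (LinearEquiv.finrank_map_eq c U).trans hU
  have htop : U ⊔ U' = ⊤ := by
    apply Submodule.eq_top_of_finrank_eq
    have h1 := Submodule.finrank_sup_add_finrank_inf_eq U U'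
    rw [hd.eq_bot, finrank_bot, hU, hfr] at h1
    omega
  have hUM' : Iv M U' := iv_map hUM fun m hm => h.comm m hm c hc
  -- equivariant maps `U → V`
  let ι : U →ₗ[ZMod 2] V := U.subtype
  let κ : U →ₗ[ZMod 2] V := (c : V →ₗ[ZMod 2] V).comp U.subtype
  have hkap : ∀ m : M, ∀ u : U, κ (res hUM m u) = (m : V ≃ₗ[ZMod 2] V) (κ u) := by
    intro m u
    change c ((m : V ≃ₗ[ZMod 2] V) u) = (m : V ≃ₗ[ZMod 2] V) (c u)
    exact (DFunLike.congr_fun (h.comm m m.2 c hc) (u : V)).symm
  have hW : ∀ f : U →ₗ[ZMod 2] V, (∀ m : M, ∀ u : U, f (res hUM m u) = (m : V ≃ₗ[ZMod 2] V) (f u)) →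
      f = 0 ∨ f = ι ∨ f = κ ∨ f = ι + κ := by
    intro f hf
    have hcompl : IsCompl U U' := ⟨hd, codisjoint_iff.2 htop⟩
    -- the two components
    have hcomp : ∀ v : V, ∃ a : U, ∃ b : U, v = (a : V) + c (b : V) := by
      intro v
      have h1 : v ∈ U ⊔ U' := by rw [htop]; exact Submodule.mem_top
      obtain ⟨a, ha, b, ⟨b', hb', rfl⟩, h2⟩ := Submodule.mem_sup.1 h1
      exact ⟨⟨a, ha⟩, ⟨b', hb'⟩, h2.symm⟩
    have huniq : ∀ a b a' b' : U, (a : V) + c (b : V) = (a' : V) + c (b' : V) → a = a' ∧ b = b' := by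
      intro a b a' b' h1
      have h2 : ((a - a' : U) : V) = c ((b' - b : U) : V) := by
        rw [Submodule.coe_sub, Submodule.coe_sub, map_sub]
        rw [sub_eq_sub_iff_add_eq_add, h1]
        abel
      have h3 : ((a - a' : U) : V) ∈ U ⊓ U' := Submodule.mem_inf.2 ⟨(a - a').2, by
        rw [h2]; exact ⟨_, (b' - b).2, rfl⟩⟩
      rw [hd.eq_bot, Submodule.mem_bot] at h3
      have h4 : c ((b' - b : U) : V) = 0 := by rw [← h2, h3]
      have h5 : ((b' - b : U) : V) = 0 := c.map_eq_zero_iff.1 h4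
      exact ⟨sub_eq_zero.1 (Subtype.ext h3), (sub_eq_zero.1 (Subtype.ext h5)).symm⟩
    choose a b hab using hcomp
    let fa : U →ₗ[ZMod 2] U :=
      { toFun := fun u => a (f u)
        map_add' := fun x y => (huniq _ (b (f (x + y))) _ (b (f x) + b (f y)) (by
          rw [← hab, map_add, Submodule.coe_add, Submodule.coe_add, map_add]
          conv_lhs => rw [hab (f x), hab (f y)]
          abel)).1
        map_smul' := fun t x => (huniq _ (b (f (t • x))) _ (t • b (f x)) (by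
          rw [← hab, map_smul, Submodule.coe_smul, RingHom.id_apply, Submodule.coe_smul, map_smul, ← smul_add,
            ← hab])).1 }
    let fb : U →ₗ[ZMod 2] U :=
      { toFun := fun u => b (f u)
        map_add' := fun x y => (huniq (a (f (x + y))) _ (a (f x) + a (f y)) _ (by
          rw [← hab, map_add, Submodule.coe_add, Submodule.coe_add, map_add]
          conv_lhs => rw [hab (f x), hab (f y)]
          abel)).2
        map_smul' := fun t x => (huniq (a (f (t • x))) _ (t • a (f x)) _ (by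
          rw [← hab, map_smul, Submodule.coe_smul, RingHom.id_apply, Submodule.coe_smul, map_smul, ← smul_add,
            ← hab])).2 }
    have hfab : ∀ u, f u = (fa u : V) + c (fb u : V) := fun u => hab (f u)
    have heq : ∀ m : M, ∀ u : U, fa (res hUM m u) = res hUM m (fa u) ∧ fb (res hUM m u) = res hUM m (fb u) := by
      intro m u
      refine huniq _ _ _ _ ?_
      rw [← hfab, hf, hfab u, map_add, res_apply, res_apply]
      congr 1
      exact DFunLike.congr_fun (h.comm m m.2 c hc) (fb u : V)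
    rcases hend fa (fun m u => (heq m u).1) with h1 | h1 <;> rcases hend fb (fun m u => (heq m u).2) with h2 | h2
    · left
      ext u; rw [hfab, h1, h2]; simp
    · right; right; left
      ext u; rw [hfab, h1, h2]
      change ((0 : U) : V) + c (u : V) = c (u : V)
      simp
    · right; left
      ext u; rw [hfab, h1, h2]
      change (u : V) + c ((0 : U) : V) = (u : V)
      simp
    · right; right; right
      ext u; rw [hfab, h1, h2]; rfl
  -- `N` acts on the equivariant maps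
  let α : Type _ := {f : U →ₗ[ZMod 2] V // ∀ m : M, ∀ u : U, f (res hUM m u) = (m : V ≃ₗ[ZMod 2] V) (f u)}
  have hα : Nat.card α ≤ 4 := by
    have h1 : ({f : U →ₗ[ZMod 2] V | ∀ m : M, ∀ u : U, f (res hUM m u) = (m : V ≃ₗ[ZMod 2] V) (f u)} : Set _) ⊆
        ((({0, ι, κ, ι + κ} : Finset (U →ₗ[ZMod 2] V))) : Set _) := by
      intro f hf
      rcases hW f hf with h1 | h1 | h1 | h1 <;> rw [h1] <;> simp
    have h2 := Set.ncard_le_ncard h1 (Finset.finite_toSet _)
    rw [Set.ncard_coe_finset] at h2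
    refine le_trans (le_of_eq ?_) (h2.trans (Finset.card_le_four ..))
    rfl
  haveI : Finite (U →ₗ[ZMod 2] V) := Finite.of_injective (fun f => (f : U → V)) DFunLike.coe_injective
  let F : N →* Equiv.Perm α := MonoidHom.toHomPerm
    { toFun := fun n f => ⟨((n : V ≃ₗ[ZMod 2] V) : V →ₗ[ZMod 2] V).comp f.1, by
        intro m u
        change (n : V ≃ₗ[ZMod 2] V) (f.1 (res hUM m u)) = (m : V ≃ₗ[ZMod 2] V) ((n : V ≃ₗ[ZMod 2] V) (f.1 u))
        rw [f.2]
        exact (DFunLike.congr_fun (h.comm m m.2 n (h.N_le n.2)) (f.1 u)).symm⟩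
      map_one' := by
        funext f
        apply Subtype.ext
        ext u; rfl
      map_mul' := by
        intro x y
        funext f
        apply Subtype.ext
        ext u; rfl }
  have htriv := fun n : N => Cfsg.Agent.Schreier.Tools.perm_eq_one h.perfN hα F n
  apply h.ncN
  have h1 : ∀ n ∈ N, n = 1 := by
    intro n hn
    have h2 := congrArg Subtype.val (htriv ⟨n, hn⟩ ⟨ι, fun m u => rfl⟩)
    have h3 := congrArg Subtype.val (htriv ⟨n, hn⟩ ⟨κ, hkap⟩)
    ext v
    have h4 : v ∈ U ⊔ U' := by rw [htop]; exact Submodule.mem_top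
    obtain ⟨a, ha, b, ⟨b', hb', rfl⟩, rfl⟩ := Submodule.mem_sup.1 h4
    have h5 := DFunLike.congr_fun h2 ⟨a, ha⟩
    have h6 := DFunLike.congr_fun h3 ⟨b', hb'⟩
    change n a = a at h5
    change n (c b') = c b' at h6
    change n (a + c b') = a + c b'
    rw [map_add, h5, h6]
  intro a ha b hb
  rw [h1 a ha, one_mul, mul_one]

end

/-- **`L` is quasisimple in the small dimensions** (task 888). -/
theorem quasi_of_dim {p : ℕ} [hp : Fact p.Prime] {V : Type u} [AddCommGroup V] [Module (ZMod p) V] [Finite V]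
    [Nontrivial V] {G A L : Subgroup (V ≃ₗ[ZMod p] V)}
    (htr : ∀ v w : V, v ≠ 0 → w ≠ 0 → ∃ g ∈ G, g v = w) (hA : MaxAb G A) (hL : Perf G A L)
    (hd : finrank (ZMod p) V = 2 ∨ (p = 3 ∧ finrank (ZMod p) V = 4) ∨ (p = 2 ∧ finrank (ZMod p) V = 6)) :
    Quasi A L := by
  by_contra hq
  obtain ⟨M, N, hML, hNL, hM, hN, hMc, hNc, hMN, hsup⟩ := exists_split hL hA.nor hA.com hq
  have h : Two M N (L ⊓ Subgroup.centralizer (M : Set (V ≃ₗ[ZMod p] V))) := by
    refine ⟨hM, hN, hMc, hNc, ?_, ?_, ?_⟩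
    · intro n hn
      refine Subgroup.mem_inf.2 ⟨hNL hn, ?_⟩
      rw [Subgroup.mem_centralizer_iff]
      exact fun m hm => hMN m hm n hn
    · intro m hm c hc
      exact (Subgroup.mem_centralizer_iff.1 (Subgroup.mem_inf.1 hc).2) m hm
    · intro W h1 h2
      refine irr_of_nor htr hL.le hL.nor hL.not_com W ?_
      have h3 : L ≤ { carrier := {g | ∀ v ∈ W, g v ∈ W ∧ g⁻¹ v ∈ W}
                      one_mem' := fun v hv => ⟨hv, hv⟩
                      mul_mem' := by
                        intro a b ha hb v hv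
                        refine ⟨(ha _ (hb v hv).1).1, ?_⟩
                        rw [mul_inv_rev]
                        exact (hb _ (ha v hv).2).2
                      inv_mem' := by
                        intro a ha v hv
                        refine ⟨(ha v hv).2, ?_⟩
                        rw [inv_inv]
                        exact (ha v hv).1 : Subgroup (V ≃ₗ[ZMod p] V) } := by
        refine hsup.trans (sup_le ?_ ?_)
        · exact fun m hm v hv => ⟨h1 m hm v hv, h1 _ (M.inv_mem hm) v hv⟩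
        · exact fun m hm v hv => ⟨h2 m hm v hv, h2 _ (Subgroup.inv_mem _ hm) v hv⟩
      exact fun n hn v hv => (h3 hn v hv).1
  obtain ⟨U, hU0, hUM, hmin, c, hc, hdis⟩ := h.exists_sub
  have h1 : 2 * finrank (ZMod p) U ≤ finrank (ZMod p) V := by
    have h2 := Submodule.finrank_sup_add_finrank_inf_eq U (U.map (c : V →ₗ[ZMod p] V))
    rw [hdis.eq_bot, finrank_bot] at h2
    have h3 : finrank (ZMod p) (U.map (c : V →ₗ[ZMod p] V)) = finrank (ZMod p) U := LinearEquiv.finrank_map_eq c U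
    have h4 := Submodule.finrank_le (U ⊔ U.map (c : V →ₗ[ZMod p] V))
    omega
  have h2 : finrank (ZMod p) U ≠ 0 := fun h0 => hU0 (Submodule.finrank_eq_zero.1 h0)
  have h3 := h.ne_one hU0 hUM
  rcases hd with hd | ⟨rfl, hd⟩ | ⟨rfl, hd⟩
  · omega
  · have h4 := h.ne_two (Or.inr rfl) hU0 hUM
    omega
  · have h4 := h.ne_two (Or.inl rfl) hU0 hUM
    have h5 : finrank (ZMod 2) U = 3 := by omega
    exact h.false_of_three hd hU0 hUM hmin h5 hc hdis

end Cfsg.Agent.H484.Her
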