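import Cfsg.Agent.H960.KGV.Core

/-!
# Existence of primitive block systems (task of TEAM KGV, helper960)
-/

set_option autoImplicit false

namespace Cfsg.Agent.H484.Kgv

open Cfsg Cfsg.Agent.H960.KGV

/-- independence of a finite family of submodules -/
theorem indep_iff {R N ι : Type*} [Fintype ι] [Ring R] [AddCommGroup N] [Module R N]
    (q : ι → Submodule R N) :
    iSupIndep q ↔ ∀ v : ι → N, (∀ i, v i ∈ q i) → ∑ i, v i = 0 → ∀ i, v i = 0 := by
  rw [iSupIndep_iff_finsetSum_eq_zero_imp_eq_zero]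
  constructor
  · intro h v hv h0 i
    exact h Finset.univ v (fun i _ => hv i) h0 i (Finset.mem_univ i)
  · intro h s v hv h0 i hi
    classical
    have := h (fun i => if i ∈ s then v i else 0)
      (fun i => by
        show (if i ∈ s then v i else 0) ∈ q i
        split_ifs with h
        · exact hv i h
        · exact zero_mem _) (by rw [Finset.sum_ite_mem, Finset.univ_inter]; exact h0) i
    simpa [hi] using this

variable {p : ℕ} {V : Type} [AddCommGroup V] [Module (ZMod p) V]

theorem blk_reindex {G : Subgroup (V ≃ₗ[ZMod p] V)} {ι ι' : Type} {W : ι → Submodule (ZMod p) V}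
    (hW : Blk G W) (e : ι' ≃ ι) : Blk G (W ∘ e) where
  indep := hW.indep.comp e.injective
  sup := by
    rw [← hW.sup]
    exact e.surjective.iSup_comp W
  ne_bot i := hW.ne_bot (e i)
  perm g hg i := by
    obtain ⟨j, hj⟩ := hW.perm g hg (e i)
    exact ⟨e.symm j, by simpa using hj⟩

theorem blk_card_le [Fact p.Prime] [Finite V] {G : Subgroup (V ≃ₗ[ZMod p] V)} {k : ℕ}
    {W : Fin k → Submodule (ZMod p) V} (hW : Blk G W) : k ≤ Module.finrank (ZMod p) V := by
  classical
  have : Module.Finite (ZMod p) V := Module.Finite.of_finite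
  have : Fintype {i // W i ≠ ⊥} := Fintype.ofFinite _
  have h := hW.indep.subtype_ne_bot_le_finrank
  have h2 : Fintype.card {i // W i ≠ ⊥} = k := by
    rw [Fintype.card_congr (Equiv.subtypeUnivEquiv hW.ne_bot), Fintype.card_fin]
  omega

/-- refining a block system with the help of a block system of one of the blocks -/
theorem refine_blk {G : Subgroup (V ≃ₗ[ZMod p] V)} {k m : ℕ} {W : Fin k → Submodule (ZMod p) V}
    (hW : Blk G W) (hT : Trans G W) (i : Fin k) {X : Fin m → Submodule (ZMod p) (W i)}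
    (hX : Blk (ind G (W i)) X) :
    ∃ Y : Fin k × Fin m → Submodule (ZMod p) V, Blk G Y := by
  choose g hg hgm using fun j => hT i j
  have hYle : ∀ j l, ((X l).map (W i).subtype).map (g j).toLinearMap ≤ W j := by
    intro j l
    rw [← hgm j]
    apply Submodule.map_mono
    exact Submodule.map_subtype_le (W i) (X l)
  refine ⟨fun jl => ((X jl.2).map (W i).subtype).map (g jl.1).toLinearMap, ?_, ?_, ?_, ?_⟩
  · rw [indep_iff]
    intro v hv h0
    rw [Fintype.sum_prod_type] at h0
    have h1 : ∀ j, ∑ l, v (j, l) = 0 := by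
      apply (indep_iff W).1 hW.indep _ _ h0
      intro j
      exact Submodule.sum_mem _ fun l _ => hYle j l (hv (j, l))
    rintro ⟨j, l⟩
    have h2 : ∀ l, ∃ x : W i, x ∈ X l ∧ g j (x : V) = v (j, l) := by
      intro l
      obtain ⟨y, ⟨x, hx, rfl⟩, hy⟩ := hv (j, l)
      exact ⟨x, hx, hy⟩
    choose x hx hxv using h2
    have h3 : ∑ l, x l = 0 := by
      apply Subtype.ext
      apply (g j).injective
      rw [ZeroMemClass.coe_zero, map_zero, ← h1 j, AddSubmonoidClass.coe_finsetSum, map_sum]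
      exact Finset.sum_congr rfl fun l _ => hxv l
    have h4 := (indep_iff X).1 hX.indep x hx h3 l
    rw [← hxv l, h4, ZeroMemClass.coe_zero, map_zero]
  · rw [iSup_prod]
    have h1 : ∀ j, ⨆ l, ((X l).map (W i).subtype).map (g j).toLinearMap = W j := by
      intro j
      rw [← Submodule.map_iSup, ← Submodule.map_iSup, hX.sup, Submodule.map_subtype_top, hgm j]
    simp only [h1]
    exact hW.sup
  · rintro ⟨j, l⟩ h
    apply hX.ne_bot l
    rw [eq_bot_iff]
    intro x hx
    have h1 : g j (x : V) ∈ ((X l).map (W i).subtype).map (g j).toLinearMap :=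
      ⟨(x : V), ⟨x, hx, rfl⟩, rfl⟩
    rw [h, Submodule.mem_bot, LinearEquiv.map_eq_zero_iff] at h1
    rw [Submodule.mem_bot]
    exact Subtype.ext h1
  · rintro h hh ⟨j, l⟩
    obtain ⟨j', hj'⟩ := hW.perm h hh j
    set a : V ≃ₗ[ZMod p] V := (g j')⁻¹ * (h * g j) with ha
    have haG : a ∈ G := G.mul_mem (G.inv_mem (hg j')) (G.mul_mem hh (hg j))
    have hga : g j' * a = h * g j := by rw [ha, mul_inv_cancel_left]
    have haW : (W i).map a.toLinearMap = W i := by
      have h1 : ((W i).map a.toLinearMap).map (g j').toLinearMap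
          = (W i).map (g j').toLinearMap := by
        rw [hgm j', ← hj', ← hgm j, ← Submodule.map_comp, ← Submodule.map_comp]
        congr 1
        apply LinearMap.ext
        intro x
        exact LinearEquiv.congr_fun hga x
      exact Submodule.map_injective_of_injective (g j').injective h1
    let b : W i ≃ₗ[ZMod p] W i := (a.submoduleMap (W i)).trans (LinearEquiv.ofEq _ _ haW)
    have hb : ∀ w : W i, a (w : V) = (b w : V) := fun w => rfl
    obtain ⟨l', hl'⟩ := hX.perm b ⟨a, haG, hb⟩ l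
    refine ⟨(j', l'), ?_⟩
    show (((X l).map (W i).subtype).map (g j).toLinearMap).map h.toLinearMap
      = ((X l').map (W i).subtype).map (g j').toLinearMap
    rw [← hl', ← Submodule.map_comp, ← Submodule.map_comp, ← Submodule.map_comp,
      ← Submodule.map_comp]
    congr 1
    apply LinearMap.ext
    intro x
    show h (g j (x : V)) = g j' ((b x : W i) : V)
    rw [← hb]
    exact (LinearEquiv.congr_fun hga (x : V)).symm

/-- **existence of a primitive block system** (task 2306) -/
theorem exists_prim [Fact p.Prime] [Finite V] [Nontrivial V] (G : Subgroup (V ≃ₗ[ZMod p] V))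
    (hG : ∀ (k : ℕ) (W : Fin k → Submodule (ZMod p) V), Blk G W → Trans G W) :
    ∃ (k : ℕ) (W : Fin k → Submodule (ZMod p) V), 0 < k ∧ Blk G W ∧ Trans G W ∧
      ∀ i, Prim (ind G (W i)) := by
  classical
  let P : ℕ → Prop := fun k => ∃ W : Fin k → Submodule (ZMod p) V, Blk G W
  have h1 : P 1 := by
    refine ⟨fun _ => ⊤, ⟨iSupIndep_subsingleton _, by simp, fun _ => top_ne_bot, ?_⟩⟩
    intro g _ _
    exact ⟨0, by rw [Submodule.map_top]; exact LinearEquiv.range g⟩
  obtain ⟨k, ⟨⟨W, hW⟩, hk1⟩, hmax⟩ : ∃ k, (P k ∧ 1 ≤ k) ∧ ∀ m, P m → m ≤ k := by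
    have hb : ∀ m, P m → m ≤ Module.finrank (ZMod p) V := fun m ⟨W, hW⟩ => blk_card_le hW
    refine ⟨Nat.findGreatest P (Module.finrank (ZMod p) V), ⟨?_, ?_⟩, ?_⟩
    · exact Nat.findGreatest_spec (hb 1 h1) h1
    · exact Nat.le_findGreatest (hb 1 h1) h1
    · intro m hm
      exact Nat.le_findGreatest (hb m hm) hm
  have hT := hG k W hW
  refine ⟨k, W, hk1, hW, hT, ?_⟩
  intro i m X hX
  obtain ⟨Y, hY⟩ := refine_blk hW hT i hX
  have h2 : P (k * m) := ⟨Y ∘ finProdFinEquiv.symm, blk_reindex hY finProdFinEquiv.symm⟩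
  have h3 := hmax _ h2
  by_contra hm
  have h4 : k * 2 ≤ k * m := Nat.mul_le_mul_left k (by omega)
  omega

/-- block systems of irreducible groups are transitive -/
theorem trans_of_irr [Fact p.Prime] [Finite V] (G : Subgroup (V ≃ₗ[ZMod p] V))
    (hG : ∀ U : Submodule (ZMod p) V, (∀ g ∈ G, ∀ u ∈ U, g u ∈ U) → U = ⊥ ∨ U = ⊤)
    (k : ℕ) (W : Fin k → Submodule (ZMod p) V) (hW : Blk G W) : Trans G W := by
  classical
  intro i j
  let s : Set (Fin k) := {l | ∃ g ∈ G, (W i).map (g : V ≃ₗ[ZMod p] V).toLinearMap = W l}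
  by_contra hj
  have hjs : j ∉ s := hj
  have his : i ∈ s := ⟨1, G.one_mem, by
    show (W i).map (LinearMap.id) = W i
    exact Submodule.map_id _⟩
  let U : Submodule (ZMod p) V := ⨆ l ∈ s, W l
  have hU : ∀ g ∈ G, ∀ u ∈ U, g u ∈ U := by
    intro g hg
    show U ≤ U.comap g.toLinearMap
    apply iSup₂_le
    rintro l ⟨h, hh, hl⟩
    obtain ⟨l', hl'⟩ := hW.perm g hg l
    rw [← Submodule.map_le_iff_le_comap, hl']
    refine le_iSup₂_of_le (f := fun l (_ : l ∈ s) => W l) l' ⟨g * h, G.mul_mem hg hh, ?_⟩ le_rfl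
    rw [← hl', ← hl, ← Submodule.map_comp]
    rfl
  rcases hG U hU with h | h
  · apply hW.ne_bot i
    rw [eq_bot_iff, ← h]
    exact le_iSup₂_of_le (f := fun l (_ : l ∈ s) => W l) i his le_rfl
  · apply hW.ne_bot j
    have h1 : Disjoint (W j) (⨆ (l) (_ : l ≠ j), W l) := hW.indep j
    have h2 : U ≤ ⨆ (l) (_ : l ≠ j), W l := by
      apply iSup₂_le
      intro l hl
      refine le_iSup₂_of_le (f := fun l (_ : l ≠ j) => W l) l ?_ le_rfl
      rintro rfl
      exact hjs hl
    rw [h, top_le_iff] at h2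
    rw [h2] at h1
    exact disjoint_top.1 h1

end Cfsg.Agent.H484.Kgv
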