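import Mathlib
import Cfsg.Agent.H484.NonNil
import Cfsg.Agent.LieRecognition.SzMatrix
import Cfsg.Agent.J3.Fix
import Cfsg.Agent.FixBN.Gates
import Cfsg.Agent.S0071
import Cfsg.Agent.S1163

/-!
# Non-nilpotent `p'`-subgroups of the Suzuki groups (helper484)

* `of_card` : a simple group of order `q² (q - 1) (q² + 1)`, `q - 1 = p` prime, has a non-nilpotent `p'`-subgroup;
* `sz` : the Suzuki groups, all primes `p > 3`.
-/

set_option autoImplicit false

namespace Cfsg.Agent.H484.NonNilSz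

open Cfsg Cfsg.Agent.H484.NonNil Cfsg.Agent.LieRecognition.SzMatrix

theorem arith {p q d D : ℕ} (hq : q = p + 1) (hp : 3 < p) (hqe : Even q) (hD : D ≡ 1 [MOD p]) (hD1 : 1 < D)
    (h : D * d = q ^ 2 + 1) : False := by
  have hDp : p + 1 ≤ D := by
    by_contra hlt
    push Not at hlt
    have h1 : D % p = 1 % p := hD
    rw [Nat.mod_eq_of_lt (by omega : 1 < p)] at h1
    rcases Nat.lt_or_ge D p with h2 | h2
    · rw [Nat.mod_eq_of_lt h2] at h1; omega
    · have : D = p := by omega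
      rw [this, Nat.mod_self] at h1; omega
  have hd : d ≡ 2 [MOD p] := by
    have h1 : D * d ≡ 1 * d [MOD p] := Nat.ModEq.mul_right d hD
    have h2 : q ^ 2 + 1 ≡ 1 ^ 2 + 1 [MOD p] := by
      have : q ≡ 1 [MOD p] := by
        rw [hq]; simp [Nat.ModEq]
      exact Nat.ModEq.add_right 1 (this.pow 2)
    rw [h, one_mul] at h1
    exact (h1.symm.trans h2)
  have hodd : Odd d := by
    have h1 : Odd (q ^ 2 + 1) := (hqe.pow_of_ne_zero two_ne_zero).add_one
    rw [← h] at h1
    exact (Nat.odd_mul.mp h1).2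
  have hd2 : p + 2 ≤ d := by
    by_contra hlt
    push Not at hlt
    have h1 : d % p = 2 % p := hd
    rw [Nat.mod_eq_of_lt (by omega : 2 < p)] at h1
    rcases Nat.lt_or_ge d p with h2 | h2
    · rw [Nat.mod_eq_of_lt h2] at h1
      subst h1
      exact absurd hodd (by decide)
    · have h3 : d = p ∨ d = p + 1 := by omega
      rcases h3 with h3 | h3
      · rw [h3, Nat.mod_self] at h1; omega
      · rw [h3, Nat.add_mod_left, Nat.mod_eq_of_lt (by omega : 1 < p)] at h1; omega
  have : (p + 1) * (p + 2) ≤ q ^ 2 + 1 := by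
    rw [← h]; exact Nat.mul_le_mul hDp hd2
  rw [hq] at this
  nlinarith

/-- A simple group of order `q² (q - 1) (q² + 1)`, `q - 1` prime. -/
theorem of_card {X : Type*} [Group X] [Finite X] [IsSimpleGroup X] {p q : ℕ} (hp : p.Prime) (hp3 : 3 < p)
    (hq : q = p + 1) (hqe : Even q) (hc : Nat.card X = q ^ 2 * p * (q ^ 2 + 1)) : HasNN p X := by
  by_contra hnn
  have hpf : Fact p.Prime := ⟨hp⟩
  have hq1 : q ≡ 1 [MOD p] := by rw [hq]; simp [Nat.ModEq]
  have hpq : ¬ p ∣ q := fun h => by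
    have := (Nat.modEq_zero_iff_dvd.mpr h).symm.trans hq1
    have h1 : p ∣ 1 := (Nat.modEq_zero_iff_dvd.mp this.symm)
    exact hp.one_lt.ne' (Nat.dvd_one.mp h1)
  have hpq2 : ¬ p ∣ q ^ 2 + 1 := fun h => by
    have h2 : q ^ 2 + 1 ≡ 1 ^ 2 + 1 [MOD p] := Nat.ModEq.add_right 1 (hq1.pow 2)
    have h3 : p ∣ 2 := by
      have := (Nat.modEq_zero_iff_dvd.mpr h).symm.trans h2
      exact (Nat.modEq_zero_iff_dvd.mp this.symm)
    have := Nat.le_of_dvd (by norm_num) h3
    omega
  -- a prime divisor `s` of `q² + 1`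
  obtain ⟨s, hs, hsd⟩ := Nat.exists_prime_and_dvd (n := q ^ 2 + 1) (by
    have : 0 < q ^ 2 := pow_pos (by omega) 2
    omega)
  have hsf : Fact s.Prime := ⟨hs⟩
  have hsp : s ≠ p := by rintro rfl; exact hpq2 hsd
  have hs2 : s ≠ 2 := by
    rintro rfl
    have h1 : Odd (q ^ 2 + 1) := (hqe.pow_of_ne_zero two_ne_zero).add_one
    exact (Nat.not_even_iff_odd.mpr h1) (even_iff_two_dvd.mpr hsd)
  have hsq : ¬ s ∣ q := fun h => by
    have h1 : s ∣ q ^ 2 := Dvd.dvd.pow h two_ne_zero
    have h2 : s ∣ 1 := (Nat.dvd_add_right h1).mp hsd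
    exact hs.one_lt.ne' (Nat.dvd_one.mp h2)
  have hsX : s ∣ Nat.card X := by rw [hc]; exact Dvd.dvd.mul_left hsd _
  obtain ⟨S⟩ := (inferInstance : Nonempty (Sylow s X))
  -- no normal `s`-complement
  have hno : ¬ ∃ N : Subgroup X, N.Normal ∧ N.IsComplement' (S : Subgroup X) := by
    rintro ⟨N, hN, hNc⟩
    rcases hN.eq_bot_or_eq_top with h | h
    · rw [h] at hNc
      have h1 := hNc.card_mul_card
      rw [Subgroup.card_bot, one_mul] at h1
      have h2 : 2 ∣ Nat.card X := by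
        rw [hc]
        exact Dvd.dvd.mul_right (Dvd.dvd.mul_right (Dvd.dvd.pow hqe.two_dvd two_ne_zero) _) _
      rw [← h1] at h2
      obtain ⟨k, hk⟩ := (IsPGroup.iff_card).mp S.isPGroup'
      rw [hk] at h2
      exact hs2 ((Nat.prime_dvd_prime_iff_eq Nat.prime_two hs).mp (Nat.prime_two.dvd_of_dvd_pow h2)).symm
    · rw [h] at hNc
      have h1 := hNc.disjoint
      rw [top_disjoint] at h1
      exact S.ne_bot_of_dvd_card hsX h1
  have hfr := (Cfsg.Agent.S0071.result S).not.mp hno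
  push Not at hfr
  obtain ⟨Q, hQS, g, hgN, hgs, hgC⟩ := hfr
  have hQs : IsPGroup s Q := S.isPGroup'.to_le hQS
  -- split `g` into its `p`-part and its `p'`-part
  obtain ⟨a, n', hn', hn⟩ := Nat.exists_eq_pow_mul_and_not_dvd (orderOf_pos g).ne' p hp.ne_one
  have hcop : Nat.Coprime (p ^ a) n' := Nat.Coprime.pow_left a ((Nat.Prime.coprime_iff_not_dvd hp).mpr hn')
  have hsplit : g ^ (p ^ a) ∉ Subgroup.centralizer (Q : Set X) ∨ g ^ n' ∉ Subgroup.centralizer (Q : Set X) := by
    by_contra hcon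
    push Not at hcon
    apply hgC
    have h1 := Nat.gcd_eq_gcd_ab (p ^ a) n'
    rw [hcop.gcd_eq_one] at h1
    have h2 : g = (g ^ (p ^ a)) ^ (Nat.gcdA (p ^ a) n') * (g ^ n') ^ (Nat.gcdB (p ^ a) n') := by
      rw [← zpow_natCast, ← zpow_natCast, ← zpow_mul, ← zpow_mul, ← zpow_add, ← h1]
      simp
    rw [h2]
    exact mul_mem (Subgroup.zpow_mem _ hcon.1 _) (Subgroup.zpow_mem _ hcon.2 _)
  rcases hsplit with h1 | h1
  · -- the `p'`-part gives a non-nilpotent `p'`-subgroup
    apply hnn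
    set y := g ^ (p ^ a) with hy
    have hyo : orderOf y = n' := by
      rw [hy, orderOf_pow, hn, Nat.gcd_eq_right (Dvd.intro _ rfl), Nat.mul_div_cancel_left _ (pow_pos hp.pos a)]
    have hyN : y ∈ Subgroup.normalizer (Q : Set X) := Subgroup.pow_mem _ hgN _
    have hcard := card_sup_dvd (Subgroup.zpowers y) Q (by rwa [Subgroup.zpowers_le])
    rw [Nat.card_zpowers, hyo] at hcard
    obtain ⟨k, hk⟩ := (IsPGroup.iff_card).mp hQs
    rw [Subgroup.mem_centralizer_iff] at h1
    push Not at h1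
    obtain ⟨v, hv, hvy⟩ := h1
    have hyds : (orderOf y).Coprime s := by
      rw [hyo]
      exact Nat.Coprime.coprime_dvd_left (Dvd.intro_left _ hn.symm) hgs
    refine of_pair (Subgroup.zpowers y ⊔ Q) (coprime_of_dvd hcard ?_)
      (Subgroup.mem_sup_left (Subgroup.mem_zpowers y)) (Subgroup.mem_sup_right hv) ?_ (fun h => hvy h.symm)
    · rw [hk]
      refine Nat.Coprime.mul_left ?_ (Nat.Coprime.pow_left k ((Nat.coprime_primes hs hp).mpr hsp))
      rw [Nat.coprime_comm]
      exact (Nat.Prime.coprime_iff_not_dvd hp).mpr hn'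
    · obtain ⟨j, hj⟩ := hQs ⟨v, hv⟩
      have hv1 : v ^ s ^ j = 1 := congrArg Subtype.val hj
      exact Nat.Coprime.coprime_dvd_right (orderOf_dvd_of_pow_eq_one hv1) (Nat.Coprime.pow_right j hyds)
  · -- the `p`-part has order `p`
    set y := g ^ n' with hy
    have hyN : y ∈ Subgroup.normalizer (Q : Set X) := Subgroup.pow_mem _ hgN _
    have hyp : y ^ p = 1 := by
      have h2 : y ^ (p ^ a) = 1 := by
        rw [hy, ← pow_mul, mul_comm, ← hn, pow_orderOf_eq_one]
      obtain ⟨b, hb, hyo⟩ := (Nat.dvd_prime_pow hp).mp (orderOf_dvd_of_pow_eq_one h2)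
      have h3 : orderOf y ∣ Nat.card X := orderOf_dvd_natCard y
      rw [hyo] at h3
      have hb1 : b ≤ 1 := by
        by_contra hb2
        push Not at hb2
        have h4 : p ^ 2 ∣ Nat.card X := (pow_dvd_pow p hb2).trans h3
        rw [hc, show q ^ 2 * p * (q ^ 2 + 1) = p * (q ^ 2 * (q ^ 2 + 1)) by ring, pow_two] at h4
        have h5 := Nat.dvd_of_mul_dvd_mul_left hp.pos h4
        rcases (Nat.Prime.dvd_mul hp).mp h5 with h6 | h6
        · exact hpq (hp.dvd_of_dvd_pow h6)
        · exact hpq2 h6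
      have : orderOf y ∣ p := by
        rw [hyo]
        exact (pow_dvd_pow p hb1).trans (by rw [pow_one])
      exact orderOf_dvd_iff_pow_eq_one.mp this
    have hmod := Cfsg.Agent.J3.Fix.card_subgroup_modEq hp Q y hyp
      (fun q hq => (Subgroup.mem_normalizer_iff.mp hyN q).mp hq)
    set C := (Q ⊓ Subgroup.centralizer {y} : Subgroup X) with hC
    have hCQ : C ≤ Q := inf_le_left
    have hCne : C ≠ Q := by
      intro h
      apply h1
      rw [Subgroup.mem_centralizer_iff]
      intro v hv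
      have h2 : v ∈ C := by rw [h]; exact hv
      have h3 := (Subgroup.mem_inf.mp h2).2
      rw [Subgroup.mem_centralizer_singleton_iff] at h3
      exact h3
    obtain ⟨k, hk⟩ := (IsPGroup.iff_card).mp hQs
    obtain ⟨l, hl⟩ := (IsPGroup.iff_card).mp (hQs.to_le hCQ)
    have hlk : l < k := by
      have h2 : Nat.card C < Nat.card Q := by
        refine lt_of_le_of_ne (Nat.le_of_dvd Nat.card_pos (Subgroup.card_dvd_of_le hCQ)) ?_
        intro h
        exact hCne (Subgroup.eq_of_le_of_card_ge hCQ (le_of_eq h.symm))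
      rw [hk, hl] at h2
      exact (Nat.pow_lt_pow_iff_right hs.one_lt).mp h2
    set D := s ^ (k - l) with hD
    have hD1 : D ≡ 1 [MOD p] := by
      rw [hk, hl] at hmod
      have h2 : s ^ k = s ^ l * D := by rw [hD, ← pow_add]; congr 1; omega
      rw [h2] at hmod
      nth_rewrite 2 [← mul_one (s ^ l)] at hmod
      refine Nat.ModEq.cancel_left_of_coprime ?_ hmod
      exact Nat.Coprime.pow_right l ((Nat.coprime_primes hp hs).mpr (Ne.symm hsp))
    have hDlt : 1 < D := Nat.one_lt_pow (by omega) hs.one_lt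
    have hDd : D ∣ q ^ 2 + 1 := by
      have h2 : D ∣ Nat.card X := by
        have h3 : Nat.card Q ∣ Nat.card X := Subgroup.card_subgroup_dvd_card Q
        rw [hk] at h3
        exact (pow_dvd_pow s (by omega)).trans h3
      rw [hc] at h2
      refine Nat.Coprime.dvd_of_dvd_mul_left ?_ h2
      refine Nat.Coprime.mul_right ?_ ?_
      · exact Nat.Coprime.pow _ _ ((Nat.Prime.coprime_iff_not_dvd hs).mpr hsq)
      · exact Nat.Coprime.pow_left _ ((Nat.coprime_primes hs hp).mpr hsp)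
    obtain ⟨d, hd⟩ := hDd
    exact arith hq hp3 hqe hD1 hDlt hd.symm

/-- **The Suzuki groups.** -/
theorem sz {F : Type*} [Field F] [Fintype F] {m : ℕ} (hm : 1 ≤ m) (hF : Fintype.card F = 2 ^ (2 * m + 1))
    [IsSimpleGroup ↥(Cfsg.Lie.Sz F (2 ^ (m + 1)))] {p : ℕ} (hp : p.Prime) (hp3 : 3 < p) :
    HasNN p ↥(Cfsg.Lie.Sz F (2 ^ (m + 1))) := by
  have H := good hF
  have hcF : Nat.card F = 2 ^ (2 * m + 1) := by rw [Nat.card_eq_fintype_card, hF]
  have hq8 : 8 ≤ 2 ^ (2 * m + 1) := by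
    calc 8 = 2 ^ 3 := by norm_num
      _ ≤ 2 ^ (2 * m + 1) := Nat.pow_le_pow_right (by norm_num) (by omega)
  have hqe : Even (2 ^ (2 * m + 1)) := (even_two).pow_of_ne_zero (by omega)
  have hfin : Finite ↥(Cfsg.Lie.Sz F (2 ^ (m + 1))) := inferInstance
  have hfu : Nat.card Fˣ = 2 ^ (2 * m + 1) - 1 := by rw [Nat.card_units, hcF]
  by_cases hA : ∃ r : ℕ, r.Prime ∧ r ∣ 2 ^ (2 * m + 1) - 1 ∧ r ≠ p
  · obtain ⟨r, hr, hrd, hrp⟩ := hA
    have hrf : Fact r.Prime := ⟨hr⟩
    have hr2 : r ≠ 2 := by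
      rintro rfl
      have h1 : Odd (2 ^ (2 * m + 1) - 1) := by
        have := Nat.Even.sub_odd (by omega : 1 ≤ 2 ^ (2 * m + 1)) hqe odd_one
        exact this
      exact (Nat.not_even_iff_odd.mpr h1) (even_iff_two_dvd.mpr hrd)
    obtain ⟨k, hk⟩ := exists_prime_orderOf_dvd_card' (G := Fˣ) r (by rw [hfu]; exact hrd)
    have hk1 : k ≠ 1 := by
      rintro rfl
      rw [orderOf_one] at hk
      exact hr.one_lt.ne hk
    have hdr : (H.d k) ^ r = 1 := by
      have h1 : ∀ n : ℕ, (H.d k) ^ n = H.d (k ^ n) := by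
        intro n
        induction n with
        | zero => rw [pow_zero, pow_zero, H.d_one]
        | succ n ih =>
          have e1 : (H.d k) ^ (n + 1) = (H.d k) ^ n * H.d k := pow_succ _ _
          have e2 : k ^ (n + 1) = k ^ n * k := pow_succ _ _
          rw [e1, ih, H.d_mul, e2]
      rw [h1, ← hk, pow_orderOf_eq_one, H.d_one]
    have hd1 : H.d k ≠ 1 := by
      intro h
      exact hk1 (H.d_inj (by rw [h, H.d_one]))
    have hod : orderOf (H.d k) = r := orderOf_eq_prime hdr hd1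
    have hn : H.d k ∈ Subgroup.normalizer (H.unip : Set ↥(Cfsg.Lie.Sz F (2 ^ (m + 1)))) := by
      refine mem_normalizer_of_finite fun v hv => ?_
      obtain ⟨a, b, rfl⟩ := (H.mem_unip_iff v).1 hv
      rw [H.d_mul_u, mul_inv_cancel_right]
      exact H.u_mem_unip _ _
    have hcard := card_sup_dvd (Subgroup.zpowers (H.d k)) H.unip (by rwa [Subgroup.zpowers_le])
    rw [Nat.card_zpowers, hod, H.card_unip, hcF, ← pow_mul] at hcard
    have hu2 : (orderOf (H.u 0 1)) ∣ 2 ^ ((2 * m + 1) * 2) := by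
      have h1 : orderOf (⟨H.u 0 1, H.u_mem_unip 0 1⟩ : H.unip) ∣ Nat.card H.unip := orderOf_dvd_natCard _
      rwa [Subgroup.orderOf_mk, H.card_unip, hcF, ← pow_mul] at h1
    refine of_pair (Subgroup.zpowers (H.d k) ⊔ H.unip) (coprime_of_dvd hcard ?_)
      (Subgroup.mem_sup_left (Subgroup.mem_zpowers _)) (Subgroup.mem_sup_right (H.u_mem_unip 0 1)) ?_ ?_
    · refine Nat.Coprime.mul_left ((Nat.coprime_primes hr hp).mpr hrp) (Nat.Coprime.pow_left _ ?_)
      exact (Nat.coprime_primes Nat.prime_two hp).mpr (by omega)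
    · rw [hod]
      refine Nat.Coprime.coprime_dvd_right hu2 (Nat.Coprime.pow_right _ ?_)
      exact (Nat.coprime_primes hr Nat.prime_two).mpr hr2
    · intro h
      rw [H.d_mul_u] at h
      have h1 := mul_right_cancel h
      obtain ⟨-, h2⟩ := H.u_inj h1
      rw [one_mul] at h2
      apply hk1
      apply Units.ext
      have h3 : theta hF (k : F) = theta hF 1 := by rw [h2, map_one]
      rw [Units.val_one]
      exact (theta hF).injective h3
  · push Not at hA
    have hne : 2 ^ (2 * m + 1) - 1 ≠ 0 := by omega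
    have hpow : 2 ^ (2 * m + 1) - 1 = p ^ (2 ^ (2 * m + 1) - 1).primeFactorsList.length :=
      Nat.eq_prime_pow_of_unique_prime_dvd hne (fun hr hrd => hA _ hr hrd)
    set j := (2 ^ (2 * m + 1) - 1).primeFactorsList.length with hj
    have hj0 : j ≠ 0 := by
      intro h
      rw [h, pow_zero] at hpow
      omega
    have hj1 : j = 1 := by
      refine Cfsg.Agent.FixBN.Gates.eq_one_of_pow (p := p) (n := 2 * m + 1) ?_ (by omega) hj0 (by omega)
      exact hp.odd_of_ne_two (by omega)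
    rw [hj1, pow_one] at hpow
    have hc := (Cfsg.Agent.S1163.result hm hF).1
    rw [hpow] at hc
    exact of_card hp hp3 (q := 2 ^ (2 * m + 1)) (by omega) hqe hc

end Cfsg.Agent.H484.NonNilSz
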